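import Cfsg.Agent.Orthogonal.StdForms
import Cfsg.Agent.Orthogonal.Spinor

/-!
Commutators in `Ω(2n+1, q)`, `q` odd, from a Siegel decomposition whose Levi block is a commutator
in `GL n q` of a regular matrix.
-/

set_option autoImplicit false
set_option linter.unusedSectionVars false

namespace Cfsg.Agent.H58.OreOmega

open Matrix Polynomial
open Cfsg.Agent.Orthogonal
open QuadraticMap (polar polar_comm polar_self)
open scoped commutatorElement

variable {F : Type*} [Field F] {n : ℕ}

/-- `n × n` matrices. -/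
abbrev MM (n : ℕ) (F : Type*) := Matrix (Fin n) (Fin n) F

/-- The regularity needed for the two unipotent radicals. -/
def Reg (A : (MM n F)ˣ) : Prop :=
  A.1.charpoly.eval 1 ≠ 0 ∧ (A⁻¹).1.charpoly.eval 1 ≠ 0 ∧ IsCoprime A.1.charpoly (A⁻¹).1.charpoly

theorem Reg.inv {A : (MM n F)ˣ} (h : Reg A) : Reg A⁻¹ := by
  obtain ⟨h1, h2, h3⟩ := h
  exact ⟨h2, by rwa [inv_inv], by rw [inv_inv]; exact h3.symm⟩

theorem Reg.conj {A : (MM n F)ˣ} (h : Reg A) (C : (MM n F)ˣ) : Reg (C * A * C⁻¹) := by
  have e : ∀ B : (MM n F)ˣ, (C * B * C⁻¹).1.charpoly = B.1.charpoly := fun B => by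
    rw [Units.val_mul, Units.val_mul, Matrix.coe_units_inv]; exact Matrix.charpoly_units_conj C B.1
  have e' : (C * A * C⁻¹)⁻¹ = C * A⁻¹ * C⁻¹ := by group
  refine ⟨?_, ?_, ?_⟩ <;> simp only [e', e]
  exacts [h.1, h.2.1, h.2.2]

/-- The inverse transpose. -/
def star' (A : (MM n F)ˣ) : (MM n F)ˣ :=
  ⟨(A⁻¹).1ᵀ, A.1ᵀ, by rw [← transpose_mul, Units.mul_inv, transpose_one],
    by rw [← transpose_mul, Units.inv_mul, transpose_one]⟩

theorem Reg.star {A : (MM n F)ˣ} (h : Reg A) : Reg (star' A) := by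
  refine ⟨?_, ?_, ?_⟩ <;>
    simp only [star', Units.inv_mk, Matrix.charpoly_transpose]
  exacts [h.2.1, h.1, h.2.2.symm]

theorem Reg.fix_vec {A : (MM n F)ˣ} (h : Reg A) {v : Fin n → F} (hv : A.1 *ᵥ v = v) : v = 0 := by
  by_contra hne
  refine h.1 ?_
  rw [Matrix.eval_charpoly, map_one]
  exact Matrix.exists_mulVec_eq_zero_iff.1 ⟨v, hne, by rw [sub_mulVec, one_mulVec, hv, sub_self]⟩

theorem Reg.fix_form {A : (MM n F)ˣ} (h : Reg A) {S : MM n F} (hS : A.1 * S * A.1ᵀ = S) : S = 0 := by
  have e : A.1 * S = S * (A⁻¹).1ᵀ := by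
    conv_rhs => rw [← hS]
    rw [Matrix.mul_assoc (A.1 * S), ← transpose_mul, Units.inv_mul, transpose_one, mul_one]
  obtain ⟨u, w, huw⟩ := h.2.2
  have h1 : aeval (A⁻¹).1ᵀ u * aeval (A⁻¹).1ᵀ A.1.charpoly = 1 := by
    have := congrArg (aeval (A⁻¹).1ᵀ) huw
    rw [map_add, map_mul, map_mul, map_one, ← Matrix.charpoly_transpose (A⁻¹).1,
      aeval_self_charpoly, mul_zero, add_zero] at this
    exact this
  have h2 : S * aeval (A⁻¹).1ᵀ A.1.charpoly = 0 := by
    have key : ∀ R : F[X], aeval A.1 R * S = S * aeval (A⁻¹).1ᵀ R := by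
      intro R
      induction R using Polynomial.induction_on with
      | C a => rw [aeval_C, aeval_C, Algebra.commutes]
      | add p q hp hq => rw [map_add, map_add, Matrix.add_mul, Matrix.mul_add, hp, hq]
      | monomial k a hk =>
        rw [pow_succ, ← mul_assoc, map_mul, map_mul _ (C a * X ^ k) X, aeval_X, aeval_X,
          Matrix.mul_assoc, e, ← Matrix.mul_assoc, hk, Matrix.mul_assoc]
    rw [← key, aeval_self_charpoly, Matrix.zero_mul]
  have h1' := mul_eq_one_comm.1 h1
  calc S = S * (aeval (A⁻¹).1ᵀ A.1.charpoly * aeval (A⁻¹).1ᵀ u) := by rw [h1', mul_one]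
    _ = 0 := by rw [← Matrix.mul_assoc, h2, Matrix.zero_mul]

/-- The space of dimension `2 n + 1`. -/
abbrev VV (n : ℕ) (F : Type*) := Unit ⊕ (Fin n ⊕ Fin n) → F

/-- The `e`-coordinates. -/
abbrev cE (x : VV n F) : Fin n → F := fun i => x (.inr (.inl i))

/-- The `f`-coordinates. -/
abbrev cF (x : VV n F) : Fin n → F := fun i => x (.inr (.inr i))

/-- Assemble a vector. -/
abbrev mk3 (c : F) (a b : Fin n → F) : VV n F := Sum.elim (fun _ => c) (Sum.elim a b)

theorem cE_mk3 (c : F) (a b : Fin n → F) : cE (mk3 c a b) = a := rfl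

theorem cF_mk3 (c : F) (a b : Fin n → F) : cF (mk3 c a b) = b := rfl

/-- The middle basis vector. -/
abbrev vz (n : ℕ) (F : Type*) [Field F] : VV n F := Pi.single (.inl ()) 1

theorem formOdd_eq (x : VV n F) : formOdd F n x = x (.inl ()) ^ 2 + cE x ⬝ᵥ cF x := rfl

theorem polar_stdE (x : VV n F) (i : Fin n) :
    polar (formOdd F n) x (stdOddE F n i) = x (.inr (.inr i)) := by
  simp [polar_formOdd, stdOddE, Pi.single_apply]

theorem polar_stdF (x : VV n F) (i : Fin n) :
    polar (formOdd F n) x (stdOddF F n i) = x (.inr (.inl i)) := by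
  simp [polar_formOdd, stdOddF, Pi.single_apply]

theorem polar_vz (x : VV n F) : polar (formOdd F n) x (vz n F) = 2 * x (.inl ()) := by
  simp [polar_formOdd]

theorem formOdd_vz : formOdd F n (vz n F) = 1 := by
  simp [formOdd_eq, dotProduct]

theorem eq_sum_std (x : VV n F) :
    x = x (.inl ()) • vz n F +
      (∑ i, cE x i • stdOddE F n i + ∑ i, cF x i • stdOddF F n i) := by
  funext s
  rcases s with u | i | i <;>
    simp [stdOddE, stdOddF, Finset.sum_apply, Pi.single_apply]

/-- The Levi map. -/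
def leviLin (M : GL (Fin n) F) : VV n F →ₗ[F] VV n F where
  toFun x := mk3 (x (.inl ())) (M.1 *ᵥ cE x) ((star' M).1 *ᵥ cF x)
  map_add' x y := by
    have eE : cE (x + y) = cE x + cE y := rfl
    have eF : cF (x + y) = cF x + cF y := rfl
    funext s; rcases s with u | i | i <;> simp [eE, eF, mulVec_add]
  map_smul' c x := by
    have eE : cE (c • x) = c • cE x := rfl
    have eF : cF (c • x) = c • cF x := rfl
    funext s; rcases s with u | i | i <;> simp [eE, eF, mulVec_smul]

theorem leviLin_apply (M : GL (Fin n) F) (x : VV n F) :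
    leviLin M x = mk3 (x (.inl ())) (M.1 *ᵥ cE x) ((star' M).1 *ᵥ cF x) := rfl

theorem leviLin_isom (M : GL (Fin n) F) (x : VV n F) :
    formOdd F n (leviLin M x) = formOdd F n x := by
  rw [formOdd_eq, formOdd_eq, leviLin_apply]
  simp only [mk3, Sum.elim_inl]
  congr 1
  show M.1 *ᵥ cE x ⬝ᵥ (M⁻¹).1ᵀ *ᵥ cF x = cE x ⬝ᵥ cF x
  rw [dotProduct_mulVec, vecMul_transpose, mulVec_mulVec, Units.inv_mul, one_mulVec]

variable [Fintype F] (h2 : (2 : F) ≠ 0)

/-- The Levi factor. -/
noncomputable def levi : GL (Fin n) F →* O (formOdd F n) where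
  toFun M := (formOdd_nondeg F n h2).ofLinear (leviLin M) (leviLin_isom M)
  map_one' := O.ext_app fun x => by
    rw [Nondeg.ofLinear_app, leviLin_apply]
    funext s; rcases s with u | i | i <;> simp [star', one_app]
  map_mul' A B := O.ext_app fun x => by
    rw [Subgroup.coe_mul, mul_app, Nondeg.ofLinear_app, Nondeg.ofLinear_app, Nondeg.ofLinear_app,
      leviLin_apply, leviLin_apply, leviLin_apply]
    funext s; rcases s with u | i | i <;>
      simp [star', cE_mk3, cF_mk3, mulVec_mulVec, transpose_mul, _root_.mul_inv_rev]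

theorem levi_app (M : GL (Fin n) F) (x : VV n F) :
    ((levi h2 M : O (formOdd F n)) : VV n F ≃ₗ[F] VV n F) x =
      mk3 (x (.inl ())) (M.1 *ᵥ cE x) ((star' M).1 *ᵥ cF x) := by
  show ((formOdd_nondeg F n h2).ofLinear (leviLin M) (leviLin_isom M) : VV n F ≃ₗ[F] VV n F) x = _
  rw [Nondeg.ofLinear_app, leviLin_apply]

/-- The determinant sign. -/
noncomputable abbrev dS : O (formOdd F n) →* ℤˣ := detSign (formOdd F n) (formOdd_nondeg F n h2) h2

/-- The unipotent radical fixing the `e`-vectors. -/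
noncomputable def radE : Subgroup (O (formOdd F n)) where
  carrier := {u | (∀ i, (u : VV n F ≃ₗ[F] VV n F) (stdOddE F n i) = stdOddE F n i) ∧ dS h2 u = 1}
  one_mem' := ⟨fun _ => rfl, map_one _⟩
  mul_mem' {a b} ha hb := ⟨fun i => by rw [Subgroup.coe_mul, mul_app, hb.1, ha.1],
    by rw [map_mul, ha.2, hb.2, one_mul]⟩
  inv_mem' {a} ha := ⟨fun i => by
      conv_lhs => rw [← ha.1 i, ← mul_app, ← Subgroup.coe_mul, inv_mul_cancel]
      rfl,
    by rw [map_inv, ha.2, inv_one]⟩

theorem mem_radE {u : O (formOdd F n)} : u ∈ radE h2 ↔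
    (∀ i, (u : VV n F ≃ₗ[F] VV n F) (stdOddE F n i) = stdOddE F n i) ∧ dS h2 u = 1 := Iff.rfl

theorem radE_fix {u : O (formOdd F n)} (hu : u ∈ radE h2) (x : VV n F) (h0 : x (.inl ()) = 0)
    (hF : ∀ i, cF x i = 0) : (u : VV n F ≃ₗ[F] VV n F) x = x := by
  conv_lhs => rw [eq_sum_std x]
  conv_rhs => rw [eq_sum_std x]
  simp only [h0, hF, zero_smul, Finset.sum_const_zero, add_zero, zero_add, map_sum, map_smul, hu.1]

theorem radE_stable (M : GL (Fin n) F) :
    ∀ u ∈ radE h2, levi h2 M * u * (levi h2 M)⁻¹ ∈ radE h2 := by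
  intro u hu
  refine ⟨fun i => ?_, by simp [map_mul, map_inv, hu.2]⟩
  rw [← map_inv, Subgroup.coe_mul, Subgroup.coe_mul, mul_app, mul_app]
  rw [radE_fix h2 hu (((levi h2 M⁻¹ : O (formOdd F n)) : VV n F ≃ₗ[F] VV n F) (stdOddE F n i))
    (by rw [levi_app]; simp [stdOddE]) (fun j => by
      rw [levi_app]; simp [cF, stdOddE, mulVec, dotProduct]), ← mul_app, ← Subgroup.coe_mul,
    ← map_mul, mul_inv_cancel, map_one]
  rfl

/-- A fixed-point-free action on the radical. -/
theorem radE_fpf {A : GL (Fin n) F} (hA : Reg A) :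
    ∀ u ∈ radE h2, levi h2 A * u * (levi h2 A)⁻¹ = u → u = 1 := by
  intro u hu hcomm
  have hc : ∀ x, ((levi h2 A : O (formOdd F n)) : VV n F ≃ₗ[F] VV n F)
      ((u : VV n F ≃ₗ[F] VV n F) x) = (u : VV n F ≃ₗ[F] VV n F)
        (((levi h2 A : O (formOdd F n)) : VV n F ≃ₗ[F] VV n F) x) := fun x => by
    rw [← mul_app, ← mul_app, ← Subgroup.coe_mul, ← Subgroup.coe_mul, mul_inv_eq_iff_eq_mul.1 hcomm]
  set g : VV n F ≃ₗ[F] VV n F := (u : VV n F ≃ₗ[F] VV n F) with hg
  have hB := fun x y => O.polar_app (Q := formOdd F n) u x y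
  simp only [← hg] at hB
  have hu1 : ∀ i, g (stdOddE F n i) = stdOddE F n i := hu.1
  have hzF : ∀ i, g (vz n F) (.inr (.inr i)) = 0 := fun i => by
    rw [← polar_stdE (g (vz n F)) i, ← hu1 i, hB, polar_stdE]; simp
  have hFF : ∀ i j, g (stdOddF F n j) (.inr (.inr i)) = if i = j then 1 else 0 := fun i j => by
    rw [← polar_stdE (g (stdOddF F n j)) i, ← hu1 i, hB, polar_stdE]; simp [stdOddF, Pi.single_apply]
  set c := g (vz n F) (.inl ()) with hcdef
  have hzE : cE (g (vz n F)) = 0 := hA.fix_vec (by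
    have hl : ((levi h2 A : O (formOdd F n)) : VV n F ≃ₗ[F] VV n F) (vz n F) = vz n F := by
      rw [levi_app]; funext s; rcases s with u | i | i <;> simp [mulVec, dotProduct]
    have h := congrArg cE (hc (vz n F))
    rw [hl, levi_app] at h
    exact h)
  have hz : g (vz n F) = c • vz n F := by
    funext s
    rcases s with u | i | i
    · simp [hcdef]
    · simpa using congrFun hzE i
    · simp [hzF i]
  have hc2 : c * c = 1 := by
    have h := O.map_app (Q := formOdd F n) u (vz n F)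
    rw [← hg, hz, qmap_smul, formOdd_vz, mul_one, pow_two] at h
    exact h
  have hc0 : c ≠ 0 := fun h => by simp [h] at hc2
  have hF0 : ∀ j, g (stdOddF F n j) (.inl ()) = 0 := fun j => by
    have h := hB (stdOddF F n j) (vz n F)
    rw [hz, polar_smul_right', polar_vz, polar_vz] at h
    simpa [stdOddF, hc0, h2] using h
  let S : MM n F := fun i j => g (stdOddF F n j) (.inr (.inl i))
  have hlev : A.1 * S = S * (star' A).1 := by
    ext i j
    have e : ((levi h2 A : O (formOdd F n)) : VV n F ≃ₗ[F] VV n F) (stdOddF F n j) =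
        ∑ k, (star' A).1 k j • stdOddF F n k := by
      rw [levi_app]
      funext s
      rcases s with u | k | k <;>
        simp [stdOddF, mulVec, dotProduct, Pi.single_apply, Finset.sum_apply]
    have h := congrFun (hc (stdOddF F n j)) (.inr (.inl i))
    rw [e, map_sum, levi_app, Finset.sum_apply] at h
    simp only [map_smul, Pi.smul_apply, smul_eq_mul, Sum.elim_inr, Sum.elim_inl] at h
    rw [Matrix.mul_apply, Matrix.mul_apply]
    refine h.trans (Finset.sum_congr rfl fun k _ => ?_)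
    exact mul_comm _ _
  have hS : S = 0 := hA.fix_form (by
    rw [hlev, Matrix.mul_assoc]
    show S * ((A⁻¹).1ᵀ * A.1ᵀ) = S
    rw [← transpose_mul, Units.mul_inv, transpose_one, mul_one])
  have hF : ∀ j, g (stdOddF F n j) = stdOddF F n j := fun j => by
    funext s
    rcases s with u | i | i
    · rw [show (Sum.inl u : Unit ⊕ (Fin n ⊕ Fin n)) = .inl () from rfl, hF0 j]; simp [stdOddF]
    · simpa [stdOddF, S] using congrFun (congrFun hS i) j
    · rw [hFF i j]; simp [stdOddF, Pi.single_apply]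
  rcases mul_self_eq_one_iff.1 hc2 with h | h
  · refine O.ext_app fun x => ?_
    rw [← hg]
    conv_lhs => rw [eq_sum_std x]
    conv_rhs => rw [eq_sum_std x]
    simp only [OneMemClass.coe_one, one_app, map_add, map_sum, map_smul, hz, h, one_smul, hF, hu1]
  · exfalso
    have hQz : formOdd F n (vz n F) ≠ 0 := by rw [formOdd_vz]; exact one_ne_zero
    have : u = rO (formOdd F n) (vz n F) := by
      refine O.ext_app fun x => ?_
      rw [← hg]
      conv_lhs => rw [eq_sum_std x]
      conv_rhs => rw [eq_sum_std x]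
      have e1 : ∀ i, (rO (formOdd F n) (vz n F) : VV n F ≃ₗ[F] VV n F) (stdOddE F n i) =
          stdOddE F n i := fun i => rO_fix (by rw [polar_comm, polar_vz]; simp [stdOddE])
      have e2 : ∀ i, (rO (formOdd F n) (vz n F) : VV n F ≃ₗ[F] VV n F) (stdOddF F n i) =
          stdOddF F n i := fun i => rO_fix (by rw [polar_comm, polar_vz]; simp [stdOddF])
      simp only [map_add, map_sum, map_smul, hz, h, hF, hu1, rO_self hQz, e1, e2,
        neg_smul, one_smul, smul_neg]
    have h1 := hu.2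
    rw [this, detSign_rO _ h2 hQz] at h1
    exact absurd h1 (by decide)

/-- The exchange of the `e`- and the `f`-vectors. -/
noncomputable def swapO : O (formOdd F n) :=
  (formOdd_nondeg F n h2).ofLinear
    (LinearMap.funLeft F F (Equiv.sumCongr (Equiv.refl Unit) (Equiv.sumComm (Fin n) (Fin n))))
    fun x => by
      rw [formOdd_eq, formOdd_eq]
      congr 1
      exact dotProduct_comm _ _

theorem swapO_app (x : VV n F) :
    ((swapO h2 : O (formOdd F n)) : VV n F ≃ₗ[F] VV n F) x = mk3 (x (.inl ())) (cF x) (cE x) := by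
  rw [swapO, Nondeg.ofLinear_app]
  funext s; rcases s with u | i | i <;> rfl

theorem swapO_mul_self : swapO h2 * swapO h2 = (1 : O (formOdd F n)) := O.ext_app fun x => by
  rw [Subgroup.coe_mul, mul_app, swapO_app, swapO_app]
  funext s; rcases s with u | i | i <;> rfl

theorem swapO_levi (A : GL (Fin n) F) :
    swapO h2 * levi h2 A * (swapO h2)⁻¹ = levi h2 (star' A) := O.ext_app fun x => by
  rw [inv_eq_of_mul_eq_one_right (swapO_mul_self h2), Subgroup.coe_mul, Subgroup.coe_mul, mul_app,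
    mul_app, swapO_app, levi_app, swapO_app, levi_app]
  funext s; rcases s with u | i | i <;> simp [star', Units.inv_mk, cE_mk3, cF_mk3]

/-- The unipotent radical fixing the `f`-vectors. -/
noncomputable def radF : Subgroup (O (formOdd F n)) :=
  (radE h2).comap (MulAut.conj (swapO h2)).toMonoidHom

theorem mem_radF {u : O (formOdd F n)} : u ∈ radF h2 ↔
    (∀ i, (u : VV n F ≃ₗ[F] VV n F) (stdOddF F n i) = stdOddF F n i) ∧ dS h2 u = 1 := by
  have hinv := inv_eq_of_mul_eq_one_right (swapO_mul_self (F := F) (n := n) h2)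
  have he : ∀ i, ((swapO h2 : O (formOdd F n)) : VV n F ≃ₗ[F] VV n F) (stdOddE F n i)
      = stdOddF F n i := fun i => by
    rw [swapO_app]
    funext s; rcases s with u | j | j <;> simp [stdOddE, stdOddF, Pi.single_apply]
  have hf : ∀ i, ((swapO h2 : O (formOdd F n)) : VV n F ≃ₗ[F] VV n F) (stdOddF F n i)
      = stdOddE F n i := fun i => by
    rw [← he i, ← mul_app, ← Subgroup.coe_mul, swapO_mul_self]; rfl
  rw [radF, Subgroup.mem_comap, MulEquiv.coe_toMonoidHom, MulAut.conj_apply, mem_radE, map_mul,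
    map_mul, map_inv, mul_right_comm, mul_inv_cancel, one_mul]
  refine and_congr (forall_congr' fun i => ?_) Iff.rfl
  rw [Subgroup.coe_mul, Subgroup.coe_mul, mul_app, mul_app, hinv, he]
  constructor
  · intro h
    have := congrArg (fun y => ((swapO h2 : O (formOdd F n)) : VV n F ≃ₗ[F] VV n F) y) h
    rwa [← mul_app, ← Subgroup.coe_mul, swapO_mul_self, he] at this
  · intro h; rw [h, hf]

theorem radF_stable (M : GL (Fin n) F) :
    ∀ u ∈ radF h2, levi h2 M * u * (levi h2 M)⁻¹ ∈ radF h2 := by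
  intro u hu
  have := radE_stable h2 (star' M) _ hu
  rw [← swapO_levi] at this
  rw [radF, Subgroup.mem_comap] at hu ⊢
  simp only [MulEquiv.coe_toMonoidHom, MulAut.conj_apply] at this ⊢
  convert this using 1
  group

theorem radF_fpf {A : GL (Fin n) F} (hA : Reg A) :
    ∀ u ∈ radF h2, levi h2 A * u * (levi h2 A)⁻¹ = u → u = 1 := by
  intro u hu hc
  have h1 := radE_fpf h2 hA.star (swapO h2 * u * (swapO h2)⁻¹) hu (by
    rw [← swapO_levi]
    conv_rhs => rw [← hc]
    group)
  calc u = (swapO h2)⁻¹ * (swapO h2 * u * (swapO h2)⁻¹) * swapO h2 := by group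
    _ = 1 := by rw [h1]; group

/-- Left multiplication by a fixed point free invariant finite subgroup is conjugation inside it. -/
theorem fuse {H : Type*} [Group H] (Q : Subgroup H) [Finite Q] {x : H}
    (hs : ∀ q ∈ Q, x * q * x⁻¹ ∈ Q) (hf : ∀ q ∈ Q, x * q * x⁻¹ = q → q = 1) {d : H} (hd : d ∈ Q) :
    ∃ c ∈ Q, d * x = c * x * c⁻¹ := by
  let f : Q → Q := fun c => ⟨c.1 * (x * c.1⁻¹ * x⁻¹), mul_mem c.2 (hs _ (inv_mem c.2))⟩
  have hinj : Function.Injective f := by
    intro a b hab
    have e : (a : H) * (x * (a : H)⁻¹ * x⁻¹) = b * (x * (b : H)⁻¹ * x⁻¹) := congrArg Subtype.val hab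
    refine Subtype.ext (inv_mul_eq_one.1 (hf _ (mul_mem (inv_mem a.2) b.2) ?_))
    calc x * ((a : H)⁻¹ * b) * x⁻¹
        = (a : H)⁻¹ * ((a : H) * (x * (a : H)⁻¹ * x⁻¹)) * (x * b * x⁻¹) := by group
      _ = (a : H)⁻¹ * b := by rw [e]; group
  obtain ⟨c, hc⟩ := Finite.surjective_of_injective hinj ⟨d, hd⟩
  have e : (c : H) * (x * (c : H)⁻¹ * x⁻¹) = d := congrArg Subtype.val hc
  exact ⟨c, c.2, by rw [← e]; group⟩

theorem finite_O : Finite (O (formOdd F n)) := by
  have : Finite (VV n F ≃ₗ[F] VV n F) :=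
    Finite.of_injective (fun g => (g : VV n F → VV n F)) DFunLike.coe_injective
  infer_instance

theorem radE_le {A : GL (Fin n) F} (hA : Reg A) : radE (n := n) h2 ≤ commutator (O (formOdd F n)) := by
  have := finite_O (F := F) (n := n)
  intro d hd
  obtain ⟨c, -, hc⟩ := fuse (radE h2) (radE_stable h2 A) (radE_fpf h2 hA) hd
  rw [show d = ⁅c, levi h2 A⁆ by rw [commutatorElement_def, ← hc]; group]
  exact Subgroup.commutator_mem_commutator (Subgroup.mem_top _) (Subgroup.mem_top _)

theorem radF_le {A : GL (Fin n) F} (hA : Reg A) : radF (n := n) h2 ≤ commutator (O (formOdd F n)) := by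
  have := finite_O (F := F) (n := n)
  intro d hd
  obtain ⟨c, -, hc⟩ := fuse (radF h2) (radF_stable h2 A) (radF_fpf h2 hA) hd
  rw [show d = ⁅c, levi h2 A⁆ by rw [commutatorElement_def, ← hc]; group]
  exact Subgroup.commutator_mem_commutator (Subgroup.mem_top _) (Subgroup.mem_top _)

end Cfsg.Agent.H58.OreOmega
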