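import Mathlib
import Cfsg.Agent.H60.Ore.Units
import Cfsg.Agent.H58.OreOmega.Siegel

/-!
Irreducible polynomials of given degree and trace with square norm which are not self-reciprocal,
and the regularity of matrices having them as characteristic polynomial.
-/

set_option autoImplicit false
set_option linter.unusedSectionVars false

namespace Cfsg.Agent.H58.OreOmega

open Polynomial Module Matrix
open QuadraticMap (polar_add_left polar_add_right)
open Cfsg.Agent.Orthogonal

variable {F : Type*} [Field F]

/-- Monic irreducible of degree `n`, trace `t`, square norm, roots not closed under inversion. -/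
def Good (n : ℕ) (t : F) (f : F[X]) : Prop :=
  f.Monic ∧ f.natDegree = n ∧ Irreducible f ∧ IsSquare ((-1) ^ n * f.coeff 0) ∧
    f.coeff (n - 1) = -t ∧ ∀ r : F[X], f ∣ r * X - 1 → ¬ f ∣ f.comp r

theorem Good.eval_ne {n : ℕ} {t : F} {f : F[X]} (h : Good n t f) (hn : 2 ≤ n) (a : F) :
    f.eval a ≠ 0 := fun h0 => by
  have hd : (X - C a) ∣ f := dvd_iff_isRoot.2 h0
  have := natDegree_eq_of_degree_eq (degree_eq_degree_of_associated
    ((irreducible_X_sub_C a).associated_of_dvd h.2.2.1 hd))
  rw [natDegree_X_sub_C, h.2.1] at this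
  omega

theorem Good.coeff_zero_ne {n : ℕ} {t : F} {f : F[X]} (h : Good n t f) (hn : 2 ≤ n) :
    f.coeff 0 ≠ 0 := by
  rw [coeff_zero_eq_eval_zero]; exact h.eval_ne hn 0

theorem Good.reg {n : ℕ} {t : F} {f : F[X]} (h : Good n t f) (hn : 2 ≤ n)
    (A : (MM n F)ˣ) (hA : A.1.charpoly = f) : Reg A := by
  have h1 : A.1.charpoly.eval 1 ≠ 0 := by rw [hA]; exact h.eval_ne hn 1
  refine ⟨h1, fun h0 => h1 ?_, ?_⟩
  · rw [Matrix.eval_charpoly, map_one] at h0 ⊢
    have e : (1 : MM n F) - A.1 = -A.1 * (1 - (A⁻¹).1) := by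
      rw [Matrix.mul_sub, Matrix.mul_one, Matrix.neg_mul, Units.mul_inv]; abel
    rw [e, det_mul, h0, mul_zero]
  · rw [hA, h.2.2.1.coprime_iff_not_dvd]
    intro hdvd
    have hg : (A⁻¹).1.charpoly = f := (eq_of_monic_of_dvd_of_natDegree_le h.1 (charpoly_monic _) hdvd
      (by rw [charpoly_natDegree_eq_dim, Fintype.card_fin, h.2.1]))
    have hX : IsCoprime f (X : F[X]) :=
      (h.2.2.1.coprime_iff_not_dvd).2 fun hd => by
        have := natDegree_le_of_dvd hd X_ne_zero
        rw [natDegree_X, h.2.1] at this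
        omega
    obtain ⟨u, r, hur⟩ := hX
    have hr : f ∣ r * X - 1 := ⟨-u, by linear_combination hur⟩
    refine h.2.2.2.2.2 r hr ?_
    have hf : aeval A.1 f = 0 := by rw [← hA, aeval_self_charpoly]
    have hri : aeval A.1 r = (A⁻¹).1 := by
      obtain ⟨w, hw⟩ := hr
      have := congrArg (aeval A.1) hw
      rw [map_mul, hf, zero_mul, map_sub, map_mul, aeval_X, map_one, sub_eq_zero] at this
      exact (Units.inv_eq_of_mul_eq_one_left this).symm
    by_contra hnd
    obtain ⟨a, b, hab⟩ := (h.2.2.1.coprime_iff_not_dvd).2 hnd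
    have hcomp : aeval A.1 (f.comp r) = 0 := by
      rw [aeval_comp, hri]
      conv_lhs => rw [← hg]
      exact aeval_self_charpoly _
    have := congrArg (aeval A.1) hab
    rw [map_add, map_mul, map_mul, hf, hcomp, mul_zero, mul_zero, add_zero, map_one] at this
    have hne : Nonempty (Fin n) := ⟨⟨0, by omega⟩⟩
    exact zero_ne_one this

section Count

variable {K : Type*} [Field K] [Algebra F K] [Fintype F] [Finite K] [FiniteDimensional F K]

/-- The trace form `y ↦ Tr (y ^ 2)`. -/
noncomputable def trQ : QuadraticForm F K :=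
  LinearMap.BilinMap.toQuadraticMap (Algebra.traceForm F K)

theorem trQ_apply (y : K) : (trQ : QuadraticForm F K) y = Algebra.trace F K (y * y) := rfl

theorem trQ_nondeg (h2 : (2 : F) ≠ 0) : Nondeg (trQ : QuadraticForm F K) := by
  intro x hx
  refine (traceForm_nondegenerate F K).1 x fun y => ?_
  have h := hx y
  simp only [QuadraticMap.polar, trQ_apply] at h
  rw [show (x + y) * (x + y) = x * x + y * y + (2 : F) • (x * y) by
    rw [two_smul]; ring, map_add, map_add, map_smul, smul_eq_mul] at h
  rw [Algebra.traceForm_apply]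
  have h' : (2 : F) * Algebra.trace F K (x * y) = 0 := by linear_combination h
  exact (mul_eq_zero.1 h').resolve_left h2

theorem card_trace_sq_eq (h2 : (2 : F) ≠ 0) {n : ℕ} (hn : finrank F K = n) (h3 : 3 ≤ n) (t : F) :
    (Fintype.card F - 1) * Fintype.card F ^ (n - 2) ≤
      Nat.card {y : K // Algebra.trace F K (y * y) = t} := by
  classical
  have hQ := trQ_nondeg (K := K) h2
  obtain ⟨u, hu0, hu⟩ := hQ.exists_singular (by omega)
  obtain ⟨v, hv, huv⟩ := hQ.exists_partner hu0 hu
  set W := perp (trQ : QuadraticForm F K) (Submodule.span F {u, v}) with hW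
  have hWr := hQ.finrank_hyperbolic_perp hu hv huv
  have : Fintype W := Fintype.ofFinite W
  have hcard : Nat.card (Fˣ × W) = (Fintype.card F - 1) * Fintype.card F ^ (n - 2) := by
    rw [Nat.card_eq_fintype_card, Fintype.card_prod, Fintype.card_units,
      Module.card_eq_pow_finrank (K := F) (V := W)]
    congr 2
    rw [hW]; omega
  rw [← hcard]
  let f : Fˣ × W → {y : K // Algebra.trace F K (y * y) = t} := fun p =>
    ⟨(p.1 : F) • u + ((t - (trQ : QuadraticForm F K) p.2) / p.1) • v + p.2, by
      have hw := (mem_perp_span_pair (Q := (trQ : QuadraticForm F K))).1 p.2.2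
      rw [← trQ_apply, map_add_polar, map_add_polar, qmap_smul, qmap_smul, polar_smul_left',
        polar_smul_right', polar_add_left, polar_smul_left', polar_smul_left', hu, hv, huv,
        hw.1, hw.2]
      have := p.1.ne_zero
      field_simp
      ring⟩
  refine Nat.card_le_card_of_injective f ?_
  rintro ⟨a, w⟩ ⟨b, z⟩ hab
  have he := congrArg Subtype.val hab
  simp only [f] at he
  have hw := (mem_perp_span_pair (Q := (trQ : QuadraticForm F K))).1 w.2
  have hz := (mem_perp_span_pair (Q := (trQ : QuadraticForm F K))).1 z.2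
  have ha : (a : F) = b := by
    have h := congrArg (QuadraticMap.polar (trQ : QuadraticForm F K) v) he
    simp only [polar_add_right, polar_smul_right', hw.2, hz.2, polar_self', hv,
      QuadraticMap.polar_comm _ v u, huv, mul_zero, mul_one, add_zero] at h
    exact h
  have hb : (t - (trQ : QuadraticForm F K) w) / a = (t - (trQ : QuadraticForm F K) z) / b := by
    have h := congrArg (QuadraticMap.polar (trQ : QuadraticForm F K) u) he
    simp only [polar_add_right, polar_smul_right', hw.1, hz.1, polar_self', hu, huv, mul_zero,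
      mul_one, add_zero, zero_add] at h
    exact h
  rw [hb, ha] at he
  exact Prod.ext (Units.ext ha) (Subtype.ext (add_left_cancel he))

/-- Roots of unity of exponent `e`, as square roots. -/
theorem card_sq_pow_eq_one {e : ℕ} (he : 0 < e) :
    Nat.card {y : K // (y * y) ^ e = 1} ≤ 2 * e := by
  classical
  have : Fintype K := Fintype.ofFinite K
  rw [Nat.card_eq_fintype_card, Fintype.card_subtype]
  refine le_trans (Finset.card_le_card ?_)
    ((Multiset.toFinset_card_le _).trans (card_nthRoots (2 * e) (1 : K)))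
  intro y hy
  rw [Finset.mem_filter] at hy
  rw [Multiset.mem_toFinset, mem_nthRoots (by omega), pow_mul, sq]
  exact hy.2

theorem card_sq_pow_eq_self {e : ℕ} (he : 1 < e) :
    Nat.card {y : K // (y * y) ^ e = y * y} ≤ 2 * e - 1 := by
  classical
  have : Fintype K := Fintype.ofFinite K
  have h := card_sq_pow_eq_one (K := K) (e := e - 1) (by omega)
  rw [Nat.card_eq_fintype_card, Fintype.card_subtype] at h ⊢
  refine le_trans (Finset.card_le_card (t := insert 0
    (Finset.univ.filter fun y : K => (y * y) ^ (e - 1) = 1)) ?_) ((Finset.card_insert_le _ _).trans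
      (by omega))
  intro y hy
  rw [Finset.mem_filter] at hy
  rw [Finset.mem_insert, Finset.mem_filter]
  by_cases h0 : y = 0
  · exact Or.inl h0
  · refine Or.inr ⟨Finset.mem_univ _, mul_right_cancel₀ (mul_ne_zero h0 h0) ?_⟩
    rw [← pow_succ, Nat.sub_add_cancel (by omega), hy.2, one_mul]

end Count

variable [Fintype F]

theorem good_minpoly {K : Type*} [Field K] [Algebra F K] [Finite K] [FiniteDimensional F K]
    {n : ℕ} (hn : finrank F K = n) (h3 : 3 ≤ n) (y : K)
    (hsub : ∀ d ∈ n.properDivisors, (y * y) ^ (Fintype.card F ^ d) ≠ y * y)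
    (hrev : Even n → (y * y) ^ (Fintype.card F ^ (n / 2) + 1) ≠ 1) :
    Good n (Algebra.trace F K (y * y)) (minpoly F (y * y)) := by
  set x := y * y with hx
  set f := minpoly F x with hf
  have hint : IsIntegral F x := IsIntegral.of_finite F x
  have hirr : Irreducible f := minpoly.irreducible hint
  have hm : f.Monic := minpoly.monic hint
  have hq : Nat.card F = Fintype.card F := Nat.card_eq_fintype_card
  have hfix : ∀ i, x ^ (Fintype.card F ^ i) = x ↔ f.natDegree ∣ i := fun i => by
    rw [hirr.natDegree_dvd_iff_dvd_X_pow_card_pow_sub_X, hq, hf, minpoly.dvd_iff, map_sub, map_pow,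
      aeval_X, sub_eq_zero]
  have hdvd : f.natDegree ∣ n := hn ▸ minpoly.degree_dvd hint
  have hd : f.natDegree = n := by
    by_contra hne
    exact hsub _ (Nat.mem_properDivisors.2 ⟨hdvd, lt_of_le_of_ne (Nat.le_of_dvd (by omega) hdvd) hne⟩)
      ((hfix _).2 dvd_rfl)
  have hx0 : x ≠ 0 := fun h => by
    have := (hfix 1).1 (by rw [h, zero_pow (by simp)])
    rw [hd, Nat.dvd_one] at this; omega
  let pb : PowerBasis F K := by
    refine PowerBasis.ofAdjoinEqTop hint ?_
    refine Algebra.toSubmodule_eq_top.1 (Submodule.eq_top_of_finrank_eq ?_)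
    rw [Subalgebra.finrank_toSubmodule, hn, ← hd, hf, (Algebra.adjoin.powerBasis hint).finrank,
      Algebra.adjoin.powerBasis_dim]
  have hgen : pb.gen = x := PowerBasis.ofAdjoinEqTop_gen _ _
  have hnorm : Algebra.norm F x = (-1) ^ n * f.coeff 0 := by
    have h := Algebra.PowerBasis.norm_gen_eq_coeff_zero_minpoly pb
    rwa [hgen, ← pb.finrank, hn, ← hf] at h
  refine ⟨hm, hd, hirr, ?_, ?_, ?_⟩
  · rw [← hnorm, hx, map_mul]
    exact ⟨_, rfl⟩
  · have h := pb.trace_gen_eq_nextCoeff_minpoly
    rw [hgen, ← hf, nextCoeff, hd, if_neg (by omega)] at h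
    rw [h, neg_neg]
  · intro r hr hc
    have hr' : aeval x r * x = 1 := by
      obtain ⟨w, hw⟩ := hr
      have := congrArg (aeval x) hw
      rwa [map_mul (aeval x) f w, hf, minpoly.aeval, zero_mul, map_sub, map_mul, aeval_X, map_one,
        sub_eq_zero] at this
    have hroot : aeval x⁻¹ f = 0 := by
      rw [← eq_inv_of_mul_eq_one_left hr', ← aeval_comp]
      obtain ⟨w, hw⟩ := hc
      rw [hw, map_mul, hf, minpoly.aeval, zero_mul]
    have hinv : f = minpoly F x⁻¹ := minpoly.eq_of_irreducible_of_monic hirr hroot hm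
    have hN : Normal F K := inferInstance
    obtain ⟨σ, hσ⟩ := (Normal.minpoly_eq_iff_mem_orbit (F := F) (E := K) (x := x⁻¹) (y := x)).1
      hinv.symm
    obtain ⟨p, hp⟩ := CharP.exists F
    have : Fact (Nat.Prime p) := ⟨CharP.char_is_prime F p⟩
    obtain ⟨j, hj⟩ := FiniteField.exists_forall_apply_eq_pow F p K σ
    simp only [AlgEquiv.smul_def] at hσ
    have e1 : x ^ (Fintype.card F ^ j) = x⁻¹ := by
      rw [← hq, ← hj]; exact hσ
    set j' := j % n with hj'
    have hper : ∀ i, x ^ (Fintype.card F ^ (n * i)) = x := fun i => (hfix _).2 (by rw [hd]; simp)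
    have e2 : x ^ (Fintype.card F ^ j') = x⁻¹ := by
      rw [← e1]
      conv_rhs => rw [← Nat.div_add_mod j n, pow_add, pow_mul, hper]
    have e3 : x ^ (Fintype.card F ^ (2 * j')) = x := by
      rw [two_mul, pow_add, pow_mul, e2, inv_pow, e2, inv_inv]
    have hdiv := (hfix _).1 e3
    rw [hd] at hdiv
    have hlt : j' < n := Nat.mod_lt _ (by omega)
    obtain ⟨c, hc'⟩ := hdiv
    rcases Nat.lt_or_ge c 1 with h | h
    · have hj0 : j' = 0 := by
        obtain rfl : c = 0 := by omega
        omega
      rw [hj0, pow_zero, pow_one] at e2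
      have hs : x * x = 1 := by nth_rw 2 [e2]; exact mul_inv_cancel₀ hx0
      have hx1 : x = 1 ∨ x = -1 := mul_self_eq_one_iff.1 hs
      have : f.natDegree ∣ 1 := by
        refine (hfix 1).1 ?_
        rcases hx1 with h' | h'
        · rw [h', one_pow]
        · rw [h', ← map_one (algebraMap F K), ← map_neg, ← map_pow, pow_one, FiniteField.pow_card]
      rw [hd, Nat.dvd_one] at this; omega
    · have hc1 : c = 1 := by
        rcases Nat.lt_or_ge c 2 with h' | h'
        · omega
        · have : n * 2 ≤ n * c := Nat.mul_le_mul_left n h'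
          omega
      subst hc1
      refine hrev ⟨j', by omega⟩ ?_
      rw [show n / 2 = j' by omega, pow_succ, e2, inv_mul_cancel₀ hx0]

theorem geom_bound {q : ℕ} (hq : 3 ≤ q) : ∀ m : ℕ, ∑ d ∈ Finset.Icc 1 m, 2 * q ^ d ≤ 3 * q ^ m
  | 0 => by simp
  | m + 1 => by
    rw [Finset.sum_Icc_succ_top (by omega)]
    have := geom_bound hq m
    have h : q * q ^ m = q ^ (m + 1) := by rw [pow_succ, mul_comm]
    have : 3 * q ^ m ≤ q ^ (m + 1) := h ▸ Nat.mul_le_mul_right _ hq
    omega

theorem card_setOf_le {K : Type*} [Fintype K] [DecidableEq K] (p : K → Prop) [DecidablePred p]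
    {b : ℕ} (h : Nat.card {y : K // p y} ≤ b) : (Finset.univ.filter p).card ≤ b := by
  rwa [Nat.card_eq_fintype_card, Fintype.card_subtype] at h

theorem three_le_card (h2 : (2 : F) ≠ 0) : 3 ≤ Fintype.card F := by
  have h1 : 1 < Fintype.card F := Fintype.one_lt_card
  have hne : Fintype.card F ≠ 2 := fun h => h2 (by
    have := Nat.cast_card_eq_zero F
    rw [h] at this
    exact_mod_cast this)
  omega

theorem exists_good_elt (h2 : (2 : F) ≠ 0) {n : ℕ} (h3 : 3 ≤ n)
    (hnq : Fintype.card F = 3 → n ≠ 4) {K : Type*} [Field K] [Algebra F K] [FiniteDimensional F K]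
    [Fintype K] [DecidableEq K] (hn : finrank F K = n) (S : Finset K)
    (hcount : (Fintype.card F - 1) * Fintype.card F ^ (n - 2) ≤ S.card) :
    ∃ y ∈ S, Good n (Algebra.trace F K (y * y)) (minpoly F (y * y)) := by
  classical
  set q := Fintype.card F with hqdef
  have hq : 3 ≤ q := three_le_card h2
  let fixS : ℕ → Finset K := fun d => Finset.univ.filter fun y : K => (y * y) ^ (q ^ d) = y * y
  have hfix : ∀ d, 1 ≤ d → (fixS d).card ≤ 2 * q ^ d - 1 := fun d hd =>
    card_setOf_le _ (card_sq_pow_eq_self (K := K)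
      (Nat.one_lt_pow (by omega) (by omega)))
  let R : Finset K := Finset.univ.filter fun y : K => (y * y) ^ (q ^ (n / 2) + 1) = 1
  have hR : R.card ≤ 2 * (q ^ (n / 2) + 1) :=
    card_setOf_le _ (card_sq_pow_eq_one (K := K) (Nat.succ_pos _))
  suffices h : ∃ y ∈ S, (∀ d ∈ n.properDivisors, y ∉ fixS d) ∧ (Even n → y ∉ R) by
    obtain ⟨y, hy, h1, h1'⟩ := h
    exact ⟨y, hy, good_minpoly hn h3 y (fun d hd he => h1 d hd (by simp [fixS, he, hqdef]))
      (fun he he' => h1' he (by simp [R, he', hqdef]))⟩
  by_contra hno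
  push Not at hno
  have hsub : ∀ T : Finset K, (∀ d ∈ n.properDivisors, fixS d ⊆ T) → (Even n → R ⊆ T) →
      (q - 1) * q ^ (n - 2) ≤ T.card := fun T hT hT' => by
    refine hcount.trans (Finset.card_le_card fun y hy => ?_)
    by_cases hd : ∀ d ∈ n.properDivisors, y ∉ fixS d
    · obtain ⟨he, hyR⟩ := hno y hy hd
      exact hT' he hyR
    · push Not at hd
      obtain ⟨d, hd, hyd⟩ := hd
      exact hT d hd hyd
  have h12 : ∀ y : K, (y * y) ^ (q ^ 1) = y * y → (y * y) ^ (q ^ 2) = y * y := fun y h => by
    rw [pow_one] at h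
    rw [sq, pow_mul, h, h]
  rcases (show n = 3 ∨ n = 4 ∨ 5 ≤ n by omega) with rfl | rfl | h5
  · have h := hsub (fixS 1) (fun d hd => by
      rw [show d = 1 by
        rw [Nat.mem_properDivisors] at hd
        obtain ⟨hd, hlt⟩ := hd
        interval_cases d <;> omega]) (fun he => absurd he (by decide))
    have h' := hfix 1 le_rfl
    rw [show 3 - 2 = 1 from rfl] at h
    rw [pow_one] at h h'
    have : 2 * q ≤ (q - 1) * q := Nat.mul_le_mul_right q (by omega)
    omega
  · have h := hsub (fixS 2 ∪ R) (fun d hd => by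
        rw [Nat.mem_properDivisors] at hd
        obtain ⟨hd, hlt⟩ := hd
        interval_cases d
        · simp at hd
        · intro y hy
          refine Finset.mem_union_left _ ?_
          simp only [fixS, Finset.mem_filter, Finset.mem_univ, true_and] at hy ⊢
          exact h12 y hy
        · exact Finset.subset_union_left
        · omega) (fun _ => Finset.subset_union_right)
    have hint : 2 ≤ (fixS 2 ∩ R).card := by
      have hne : (1 : K) ≠ -1 := fun h => h2 ((algebraMap F K).injective (by
        rw [map_ofNat, map_zero]; linear_combination h))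
      refine (Finset.card_pair hne).ge.trans (Finset.card_le_card fun y hy => ?_)
      simp only [Finset.mem_insert, Finset.mem_singleton] at hy
      have e1 : (-1 : K) * (-1) = 1 := by ring
      rcases hy with rfl | rfl <;> simp [fixS, R, e1]
    have hu := Finset.card_union_add_card_inter (fixS 2) R
    have h' := hfix 2 (by omega)
    have h5q : 5 ≤ q := by
      have h3q : q ≠ 3 := fun h => hnq h rfl
      have h4q : q ≠ 4 := fun h => h2 (by
        have := Nat.cast_card_eq_zero F
        rw [show Fintype.card F = 4 from h] at this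
        have h22 : (2 : F) * 2 = 0 := by norm_num; exact_mod_cast this
        exact mul_self_eq_zero.1 h22)
      omega
    simp only [show 4 / 2 = 2 from rfl] at hR
    replace h : (q - 1) * q ^ 2 ≤ (fixS 2 ∪ R).card := h
    have := Nat.one_le_pow 2 q (by omega)
    have : 4 * q ^ 2 ≤ (q - 1) * q ^ 2 := Nat.mul_le_mul_right _ (by omega)
    omega
  · set m := n / 2 with hm
    by_cases he : Even n
    · have h := hsub ((Finset.Icc 1 m).biUnion fixS ∪ R) (fun d hd => by
          intro y hy
          refine Finset.mem_union_left _ (Finset.mem_biUnion.2 ⟨d, Finset.mem_Icc.2 ?_, hy⟩)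
          rw [Nat.mem_properDivisors] at hd
          obtain ⟨⟨c, hc⟩, hlt⟩ := hd
          have hd0 : d ≠ 0 := fun h => by simp [h] at hc; omega
          have : 2 ≤ c := by rcases c with _ | _ | c <;> simp_all
          have : d * 2 ≤ n := hc ▸ Nat.mul_le_mul_left d this
          omega) (fun _ => Finset.subset_union_right)
      have hb : ((Finset.Icc 1 m).biUnion fixS).card ≤ ∑ d ∈ Finset.Icc 1 m, 2 * q ^ d :=
        Finset.card_biUnion_le.trans (Finset.sum_le_sum fun d hd =>
          (hfix d (Finset.mem_Icc.1 hd).1).trans (by omega))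
      have hu := Finset.card_union_le ((Finset.Icc 1 m).biUnion fixS) R
      have hg := geom_bound hq m
      obtain ⟨k, hk⟩ := he
      have hmk : m = k := by omega
      have hpow : q ^ (m + 1) ≤ q ^ (n - 2) := Nat.pow_le_pow_right (by omega) (by omega)
      have h1 : 2 * q ^ (m + 1) ≤ (q - 1) * q ^ (n - 2) := Nat.mul_le_mul (by omega) hpow
      have h3' : 3 * q ^ m ≤ q ^ (m + 1) := by
        rw [pow_succ, mul_comm]; exact Nat.mul_le_mul_left _ hq
      have h4' : 3 ≤ q ^ m := hq.trans (Nat.le_self_pow (by omega) q)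
      omega
    · set k := n / 3 with hk
      have h := hsub ((Finset.Icc 1 k).biUnion fixS) (fun d hd => by
          intro y hy
          refine Finset.mem_biUnion.2 ⟨d, Finset.mem_Icc.2 ?_, hy⟩
          rw [Nat.mem_properDivisors] at hd
          obtain ⟨⟨c, hc⟩, hlt⟩ := hd
          have hd0 : d ≠ 0 := fun h => by simp [h] at hc; omega
          have : 3 ≤ c := by
            rcases c with _ | _ | _ | c
            · simp at hc; omega
            · simp at hc; omega
            · exact absurd ⟨d, by omega⟩ he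
            · omega
          have : d * 3 ≤ n := hc ▸ Nat.mul_le_mul_left d this
          omega) (fun h => absurd h he)
      have hb : ((Finset.Icc 1 k).biUnion fixS).card ≤ ∑ d ∈ Finset.Icc 1 k, 2 * q ^ d :=
        Finset.card_biUnion_le.trans (Finset.sum_le_sum fun d hd =>
          (hfix d (Finset.mem_Icc.1 hd).1).trans (by omega))
      have hg := geom_bound hq k
      have hpow : q ^ (k + 1) ≤ q ^ (n - 2) := Nat.pow_le_pow_right (by omega) (by omega)
      have h1 : 2 * q ^ (k + 1) ≤ (q - 1) * q ^ (n - 2) := Nat.mul_le_mul (by omega) hpow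
      have h3' : 3 * q ^ k ≤ q ^ (k + 1) := by
        rw [pow_succ, mul_comm]; exact Nat.mul_le_mul_left _ hq
      have h4' : 1 ≤ q ^ k := Nat.one_le_pow _ _ (by omega)
      omega

theorem exists_good_count (h2 : (2 : F) ≠ 0) {n : ℕ} (h3 : 3 ≤ n)
    (hnq : Fintype.card F = 3 → n ≠ 4) (t : F) : ∃ f : F[X], Good n t f := by
  classical
  obtain ⟨p, hp⟩ := CharP.exists F
  have : Fact (Nat.Prime p) := ⟨CharP.char_is_prime F p⟩
  have : NeZero n := ⟨by omega⟩
  let K := FiniteField.Extension F p n
  have hn : finrank F K = n := FiniteField.finrank_extension F p n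
  have : Fintype K := Fintype.ofFinite K
  have hcount := card_trace_sq_eq (K := K) h2 hn h3 t
  rw [Nat.card_eq_fintype_card, Fintype.card_subtype] at hcount
  obtain ⟨y, hy, hg⟩ := exists_good_elt h2 h3 hnq hn _ hcount
  rw [(Finset.mem_filter.1 hy).2] at hg
  exact ⟨_, hg⟩

/-- The trace may be replaced by the constant coefficient as the prescribed datum. -/
theorem exists_good_norm (h2 : (2 : F) ≠ 0) {n : ℕ} (h3 : 3 ≤ n) (hq : Fintype.card F ≠ 3)
    {N : F} (hN : N ≠ 0) (hNs : IsSquare N) :
    ∃ (t : F) (f : F[X]), Good n t f ∧ (-1) ^ n * f.coeff 0 = N := by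
  classical
  obtain ⟨r, rfl⟩ := hNs
  obtain ⟨p, hp⟩ := CharP.exists F
  have : Fact (Nat.Prime p) := ⟨CharP.char_is_prime F p⟩
  have : NeZero n := ⟨by omega⟩
  let K := FiniteField.Extension F p n
  have hn : finrank F K = n := FiniteField.finrank_extension F p n
  have : Fintype K := Fintype.ofFinite K
  have hr : r ≠ 0 := left_ne_zero_of_mul hN
  let S : Finset K := Finset.univ.filter fun y : K => Algebra.norm F y = r
  have hfib : (Fintype.card F - 1) * S.card = Fintype.card F ^ n - 1 := by
    have hsum := Finset.card_eq_sum_card_fiberwise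
      (s := Finset.univ.filter fun y : K => y ≠ 0) (t := Finset.univ.filter fun c : F => c ≠ 0)
      (f := fun y => Algebra.norm F y) (fun y hy => by
        simp only [Finset.coe_filter, Finset.mem_univ, true_and, Set.mem_setOf_eq] at hy ⊢
        exact fun h => hy (Algebra.norm_eq_zero_iff.1 h))
    have hall : ∀ c ∈ Finset.univ.filter (fun c : F => c ≠ 0),
        ((Finset.univ.filter fun y : K => y ≠ 0).filter fun y => Algebra.norm F y = c).card
          = S.card := by
      intro c hc
      rw [Finset.mem_filter] at hc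
      obtain ⟨z, hz⟩ := FiniteField.norm_surjective F K (c / r)
      have hz0 : z ≠ 0 := fun h => by
        rw [h, Algebra.norm_zero] at hz
        exact div_ne_zero hc.2 hr hz.symm
      refine (Finset.card_bij (fun y _ => z * y) (fun y hy => ?_) (fun a _ b _ h =>
        mul_left_cancel₀ hz0 h) (fun y hy => ?_)).symm
      · simp only [S, Finset.mem_filter, Finset.mem_univ, true_and] at hy ⊢
        refine ⟨mul_ne_zero hz0 fun h => ?_, by rw [map_mul, hz, hy, div_mul_cancel₀ _ hr]⟩
        rw [h, Algebra.norm_zero] at hy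
        exact hr hy.symm
      · simp only [S, Finset.mem_filter, Finset.mem_univ, true_and] at hy ⊢
        refine ⟨z⁻¹ * y, ?_, by rw [mul_inv_cancel_left₀ hz0]⟩
        rw [map_mul, hy.2, show Algebra.norm F z⁻¹ = (c / r)⁻¹ from eq_inv_of_mul_eq_one_left
          (by rw [← hz, ← map_mul, inv_mul_cancel₀ hz0, map_one]), inv_div,
          div_mul_cancel₀ _ hc.2]
    rw [Finset.sum_congr rfl hall, Finset.sum_const, smul_eq_mul, Finset.filter_ne',
      Finset.filter_ne', Finset.card_erase_of_mem (Finset.mem_univ _),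
      Finset.card_erase_of_mem (Finset.mem_univ _), Finset.card_univ, Finset.card_univ,
      Module.card_eq_pow_finrank (K := F) (V := K), hn] at hsum
    exact hsum.symm
  set q := Fintype.card F
  have h1 : q ^ (n - 1) ≤ S.card := by
    by_contra h
    push Not at h
    obtain ⟨a, ha⟩ : ∃ a, q = a + 2 := ⟨q - 2, by have := three_le_card h2; omega⟩
    have hp' : q ^ n = q * q ^ (n - 1) := by rw [← pow_succ', Nat.sub_add_cancel (by omega)]
    rw [hp', ha] at hfib
    rw [ha] at h
    simp only [show a + 2 - 1 = a + 1 from rfl, Nat.succ_mul, Nat.add_mul, one_mul] at hfib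
    have := Nat.mul_le_mul_left a h.le
    omega
  have hle : (q - 1) * q ^ (n - 2) ≤ q ^ (n - 1) :=
    calc (q - 1) * q ^ (n - 2) ≤ q * q ^ (n - 2) := Nat.mul_le_mul_right _ (by omega)
      _ = q ^ (n - 1) := by rw [← pow_succ']; congr 1; omega
  obtain ⟨y, hy, hg⟩ := exists_good_elt h2 h3 (fun h => absurd h hq) hn S (hle.trans h1)
  · refine ⟨_, _, hg, ?_⟩
    have hirr := hg.2.2.1
    have hfd : (minpoly F (y * y)).natDegree = n := hg.2.1
    have hint : IsIntegral F (y * y) := IsIntegral.of_finite F _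
    let pb : PowerBasis F K := PowerBasis.ofAdjoinEqTop hint (Algebra.toSubmodule_eq_top.1
      (Submodule.eq_top_of_finrank_eq (by
        rw [Subalgebra.finrank_toSubmodule, hn, (Algebra.adjoin.powerBasis hint).finrank,
          Algebra.adjoin.powerBasis_dim, hfd])))
    have h := Algebra.PowerBasis.norm_gen_eq_coeff_zero_minpoly pb
    rw [PowerBasis.ofAdjoinEqTop_gen, ← pb.finrank, hn, map_mul, (Finset.mem_filter.1 hy).2] at h
    exact h.symm

/-- The quadratic check over `ZMod 3`. -/
theorem quartic_irreducible (a b c : ZMod 3)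
    (h1 : ∀ u : ZMod 3, u ^ 4 + a * u ^ 3 + b * u ^ 2 + c * u + 1 ≠ 0)
    (h2 : ∀ u v w z : ZMod 3, ¬ (u + w = a ∧ u * w + v + z = b ∧ u * z + v * w = c ∧ v * z = 1)) :
    Irreducible (X ^ 4 + C a * X ^ 3 + C b * X ^ 2 + C c * X + 1 : (ZMod 3)[X]) := by
  set f : (ZMod 3)[X] := X ^ 4 + C a * X ^ 3 + C b * X ^ 2 + C c * X + 1 with hf
  have hm : f.Monic := by rw [hf]; monicity!
  have hd : f.natDegree = 4 := by rw [hf]; compute_degree!
  refine (hm.irreducible_iff_lt_natDegree_lt (fun h => by rw [h, natDegree_one] at hd; omega)).2 ?_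
  intro g hg hgd hdvd
  rw [hd, Finset.mem_Ioc] at hgd
  obtain ⟨h, hh⟩ := hdvd
  rcases (show g.natDegree = 1 ∨ g.natDegree = 2 by omega) with hg1 | hg2
  · have := hg.eq_X_add_C hg1
    refine h1 (-g.coeff 0) ?_
    have he := congrArg (eval (-g.coeff 0)) hh
    rw [eval_mul, this] at he
    simpa [hf] using he
  · have hhm : h.Monic := hg.of_mul_monic_left (hh ▸ hm)
    have hhd : h.natDegree = 2 := by
      have := hg.natDegree_mul hhm
      rw [← hh, hd, hg2] at this; omega
    have eg : g = X ^ 2 + C (g.coeff 1) * X + C (g.coeff 0) := by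
      conv_lhs => rw [hg.as_sum, hg2]
      simp [Finset.sum_range_succ]; ring
    have eh : h = X ^ 2 + C (h.coeff 1) * X + C (h.coeff 0) := by
      conv_lhs => rw [hhm.as_sum, hhd]
      simp [Finset.sum_range_succ]; ring
    rw [eg, eh] at hh
    have e : f = X ^ 4 + C (g.coeff 1 + h.coeff 1) * X ^ 3 +
        C (g.coeff 1 * h.coeff 1 + g.coeff 0 + h.coeff 0) * X ^ 2 +
        C (g.coeff 1 * h.coeff 0 + g.coeff 0 * h.coeff 1) * X + C (g.coeff 0 * h.coeff 0) := by
      rw [hh]; simp only [C_add, C_mul]; ring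
    refine h2 (g.coeff 1) (g.coeff 0) (h.coeff 1) (h.coeff 0) ⟨?_, ?_, ?_, ?_⟩
    · have := congrArg (fun p => p.coeff 3) e
      simp only [hf, coeff_add, coeff_C_mul_X_pow, coeff_C_mul_X, coeff_X_pow, coeff_C, coeff_one] at this
      norm_num at this
      exact this.symm
    · have := congrArg (fun p => p.coeff 2) e
      simp only [hf, coeff_add, coeff_C_mul_X_pow, coeff_C_mul_X, coeff_X_pow, coeff_C, coeff_one] at this
      norm_num at this
      exact this.symm
    · have := congrArg (fun p => p.coeff 1) e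
      simp only [hf, coeff_add, coeff_C_mul_X_pow, coeff_C_mul_X, coeff_X_pow, coeff_C, coeff_one] at this
      norm_num at this
      exact this.symm
    · have := congrArg (fun p => p.coeff 0) e
      simp only [hf, coeff_add, coeff_C_mul_X_pow, coeff_C_mul_X, coeff_X_pow, coeff_C, coeff_one] at this
      norm_num at this
      exact this.symm

theorem exists_good_three_four (hq : Fintype.card F = 3) (t : F) : ∃ f : F[X], Good 4 t f := by
  have hc : CharP F 3 := by
    refine charP_of_card_eq_prime (p := 3) ?_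
    simpa using hq
  let e : ZMod 3 ≃+* F := ZMod.ringEquivOfPrime F Nat.prime_three (by rw [hq])
  obtain ⟨s, rfl⟩ := e.surjective t
  obtain ⟨b, c, hirr, hne⟩ : ∃ b c : ZMod 3,
      Irreducible (X ^ 4 + C (-s) * X ^ 3 + C b * X ^ 2 + C c * X + 1 : (ZMod 3)[X]) ∧ -s ≠ c := by
    rcases (show s = 0 ∨ s = 1 ∨ s = 2 by revert s; decide) with rfl | rfl | rfl
    · exact ⟨1, 1, quartic_irreducible _ _ _ (by decide) (by decide), by decide⟩
    · exact ⟨1, 0, quartic_irreducible _ _ _ (by decide) (by decide), by decide⟩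
    · exact ⟨1, 0, quartic_irreducible _ _ _ (by decide) (by decide), by decide⟩
  set f₀ : (ZMod 3)[X] := X ^ 4 + C (-s) * X ^ 3 + C b * X ^ 2 + C c * X + 1 with hf₀
  set f : F[X] := X ^ 4 + C (e (-s)) * X ^ 3 + C (e b) * X ^ 2 + C (e c) * X + 1 with hf
  have hmap : Polynomial.mapEquiv e f₀ = f := by
    rw [Polynomial.mapEquiv_apply, hf₀, hf]; simp
  have hirr' : Irreducible f := hmap ▸ (MulEquiv.irreducible_iff (Polynomial.mapEquiv e)).2 hirr
  have hd : f.natDegree = 4 := by rw [hf]; compute_degree!
  refine ⟨f, by rw [hf]; monicity!, hd, hirr', ?_, ?_, ?_⟩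
  · exact ⟨1, by simp [hf]; norm_num⟩
  · simp [hf, coeff_X_pow, coeff_C, coeff_one]
  · intro r hr hcomp
    set rev : F[X] := 1 + C (e (-s)) * X + C (e b) * X ^ 2 + C (e c) * X ^ 3 + X ^ 4 with hrev
    have h0 : f ∣ X ^ 4 * f.comp r - rev := by
      obtain ⟨w, hw⟩ := hr
      refine ⟨w * (((r * X) ^ 3 + (r * X) ^ 2 + r * X + 1) +
        C (e (-s)) * X * ((r * X) ^ 2 + r * X + 1) + C (e b) * X ^ 2 * (r * X + 1) +
        C (e c) * X ^ 3), ?_⟩
      rw [← mul_assoc, ← hw]
      simp only [hf, hrev, add_comp, mul_comp, pow_comp, X_comp, C_comp, one_comp]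
      ring
    have h1 : f ∣ rev - f := by
      refine dvd_sub ?_ dvd_rfl
      have := dvd_sub (dvd_mul_of_dvd_right hcomp (X ^ 4)) h0
      simpa using this
    have h2 : rev - f = C (e (-s) - e c) * X + C (e c - e (-s)) * X ^ 3 := by
      simp only [hf, hrev, C_sub]; ring
    have h3 : rev - f = 0 := eq_zero_of_dvd_of_degree_lt h1 (by
      rw [h2, degree_eq_natDegree hirr'.ne_zero, hd]
      refine lt_of_le_of_lt (degree_le_of_natDegree_le (n := 3) ?_) (by norm_num)
      compute_degree)
    rw [h2] at h3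
    have := congrArg (fun p => p.coeff 1) h3
    simp only [coeff_add, coeff_C_mul_X, coeff_C_mul_X_pow, coeff_zero, show (1 : ℕ) ≠ 3 by decide,
      if_false, if_true, add_zero] at this
    exact hne (e.injective (sub_eq_zero.1 this))

theorem exists_good (h2 : (2 : F) ≠ 0) {n : ℕ} (h3 : 3 ≤ n) (t : F) :
    ∃ f : F[X], Good n t f := by
  by_cases h : Fintype.card F = 3 ∧ n = 4
  · obtain ⟨hq, rfl⟩ := h
    exact exists_good_three_four hq t
  · exact exists_good_count h2 h3 (fun hq hn => h ⟨hq, hn⟩) t

end Cfsg.Agent.H58.OreOmega
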