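import Cfsg.Agent.H58.OreOmega.MatPi

/-!
The family for a characteristic polynomial without roots, and the shifted reversed companion.
-/

set_option autoImplicit false
set_option linter.unusedSectionVars false
set_option linter.unusedSimpArgs false

namespace Cfsg.Agent.H58.OreOmega

open Matrix Polynomial
open Cfsg.Agent.H60.Ore

variable {F : Type*} [Field F] {n : ℕ}

/-- The shift of `P`. -/
noncomputable def shiftP (P : F[X]) (u : F) : F[X] := P.comp (X + C u)

theorem shiftP_monic {P : F[X]} (hP : P.Monic) (u : F) : (shiftP P u).Monic :=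
  hP.comp_X_add_C u

theorem shiftP_natDegree (P : F[X]) (u : F) : (shiftP P u).natDegree = P.natDegree := by
  rw [shiftP, natDegree_comp, natDegree_X_add_C, mul_one]

theorem shiftP_coeff_zero (P : F[X]) (u : F) : (shiftP P u).coeff 0 = P.eval u := by
  rw [coeff_zero_eq_eval_zero, shiftP, eval_comp]; simp

/-- The first column of the shifted reversed companion. -/
noncomputable def sig (n : ℕ) (P : F[X]) (u : F) (i : ℕ) : F := phi (shiftP P u) (n - 1 - i)

/-- The shifted reversed companion. -/
noncomputable def rc (n : ℕ) (P : F[X]) (u : F) : Matrix (Fin n) (Fin n) F :=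
  (compOf n (shiftP P u)).submatrix Fin.revPerm Fin.revPerm + Matrix.scalar (Fin n) u

theorem rc_apply (P : F[X]) (u : F) (i j : Fin n) :
    rc n P u i j = ((if j.val = 0 then sig n P u i.val else 0) +
      (if j.val = i.val + 1 then 1 else 0)) + (if i = j then u else 0) := by
  rw [rc, Matrix.add_apply, Matrix.submatrix_apply, Matrix.scalar_apply, diagonal_apply]
  congr 1
  have hi := i.isLt
  have hj := j.isLt
  simp only [compOf, H60.Ore.comp, Fin.revPerm_apply, Fin.val_rev]
  by_cases h0 : j.val = 0
  · rw [if_pos (by omega), if_pos h0, if_neg (show ¬ j.val = i.val + 1 by omega), add_zero, sig, phi,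
      show n - 1 - i.val = n - (i.val + 1) by omega]
  · rw [if_neg (by omega), if_neg h0, zero_add]
    exact if_congr (by omega) rfl rfl

theorem charpoly_rc {P : F[X]} (hP : P.Monic) (hd : P.natDegree = n) (u : F) :
    (rc n P u).charpoly = P := by
  have h := Matrix.charpoly_sub_scalar (rc n P u) u
  rw [show rc n P u - Matrix.scalar (Fin n) u =
      (compOf n (shiftP P u)).submatrix Fin.revPerm Fin.revPerm by rw [rc, add_sub_cancel_right],
    ← (Sim.submatrix (compOf n (shiftP P u)) Fin.revPerm).charpoly_eq,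
    charpoly_compOf (shiftP_monic hP u) (by rw [shiftP_natDegree, hd])] at h
  have h' := congrArg (fun Q : F[X] => Q.comp (X - C u)) h
  simpa [shiftP, Polynomial.comp_assoc] using h'.symm

theorem up_rc (P : F[X]) {u : F} (hu : u ≠ 0) : Up (rc n P u) := by
  intro i j hj
  refine ⟨fun hij => ?_, ?_⟩
  · rw [rc_apply, if_neg (by omega), if_neg (by omega), if_neg (fun h => by rw [h] at hij; omega)]
    simp
  · rw [rc_apply, if_neg (by omega), if_neg (by omega), if_pos rfl]
    simpa using hu

/-- Products of the superdiagonal. -/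
def aprod (a : ℕ → F) (i : ℕ) : F := ∏ j ∈ Finset.range i, a j

theorem aprod_succ (a : ℕ → F) (i : ℕ) : aprod a (i + 1) = aprod a i * a i := Finset.prod_range_succ _ _

theorem aprod_ne {a : ℕ → F} (ha : ∀ i, a i ≠ 0) (i : ℕ) : aprod a i ≠ 0 :=
  Finset.prod_ne_zero_iff.2 fun j _ => ha j

/-- The last entry of the first column. -/
noncomputable def clast (n : ℕ) (P : F[X]) (u : F) (a : ℕ → F) : F :=
  sig n P u (n - 1) / aprod a (n - 1)

theorem clast_eq (P : F[X]) (u : F) (a : ℕ → F) :
    clast n P u a = -(P.eval u) / aprod a (n - 1) := by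
  rw [clast, sig, Nat.sub_self, phi, shiftP_coeff_zero]

/-- The first column. -/
noncomputable def ccol (n : ℕ) (P : F[X]) (u : F) (a w : ℕ → F) : ℕ → F
  | 0 => sig n P u 0
  | i + 1 => if i + 2 < n then sig n P u (i + 1) / aprod a (i + 1) - w i / a i * clast n P u a
      else clast n P u a

/-- The family, off the diagonal. -/
noncomputable def ncore (n : ℕ) (P : F[X]) (u : F) (a w : ℕ → F) : Matrix (Fin n) (Fin n) F :=
  fun i j => (if j.val = 0 then ccol n P u a w i.val else 0) +
    ((if j.val = i.val + 1 then a i.val else 0) +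
      (if j.val + 1 = n ∧ i.val + 2 < n then w i.val else 0))

/-- The family. -/
noncomputable def tcyc (n : ℕ) (P : F[X]) (u : F) (a w : ℕ → F) : Matrix (Fin n) (Fin n) F :=
  ncore n P u a w + Matrix.scalar (Fin n) u

/-- The intertwiner. -/
def rmat (n : ℕ) (a w : ℕ → F) : Matrix (Fin n) (Fin n) F :=
  fun i j => (if i = j then aprod a i.val else 0) +
    (if j.val + 1 = n ∧ 0 < i.val ∧ i.val + 1 < n then aprod a (i.val - 1) * w (i.val - 1) else 0)

theorem rmat_upper (a w : ℕ → F) : (rmat n a w).IsUpperTriangular := fun i j h => by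
  have h' : j.val < i.val := h
  rw [rmat, if_neg (fun e => by rw [e] at h'; omega), if_neg (by omega), add_zero]

theorem det_rmat_ne {a : ℕ → F} (ha : ∀ i, a i ≠ 0) (w : ℕ → F) : (rmat n a w).det ≠ 0 := by
  rw [det_of_isUpperTriangular (rmat_upper a w), Finset.prod_ne_zero_iff]
  intro i _
  rw [rmat, if_pos rfl, if_neg (by omega), add_zero]
  exact aprod_ne ha _

theorem rmat_intertwine (hn : 3 ≤ n) (P : F[X]) (u : F) {a : ℕ → F} (ha : ∀ i, a i ≠ 0) (w : ℕ → F) :
    rmat n a w * ncore n P u a w =
      (compOf n (shiftP P u)).submatrix Fin.revPerm Fin.revPerm * rmat n a w := by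
  have hK : ∀ i j : Fin n, (compOf n (shiftP P u)).submatrix Fin.revPerm Fin.revPerm i j =
      (if j.val = 0 then sig n P u i.val else 0) + (if j.val = i.val + 1 then 1 else 0) := by
    intro i j
    have := rc_apply P u i j
    rw [rc, Matrix.add_apply, Matrix.scalar_apply, diagonal_apply] at this
    exact add_right_cancel this
  ext i j
  obtain ⟨l, hl⟩ : ∃ l, n = l + 1 := ⟨n - 1, by omega⟩
  have hL : ∀ M : Fin n → F, ∑ k, rmat n a w i k * M k = aprod a i.val * M i +
      if 0 < i.val ∧ i.val + 1 < n then aprod a (i.val - 1) * w (i.val - 1) * M ⟨l, by omega⟩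
        else 0 := by
    intro M
    simp only [rmat, add_mul, ite_mul, zero_mul, Finset.sum_add_distrib]
    rw [Finset.sum_ite_eq, if_pos (Finset.mem_univ _), Finset.sum_eq_single (⟨l, by omega⟩ : Fin n)]
    · congr 1
      exact if_congr (by simp only; omega) rfl rfl
    · intro k _ hk
      rw [if_neg]
      rintro ⟨h, -⟩
      exact hk (Fin.ext (by simp only; omega))
    · simp
  rw [Matrix.mul_apply, hL, Matrix.mul_apply]
  have hR : ∑ k, (compOf n (shiftP P u)).submatrix Fin.revPerm Fin.revPerm i k * rmat n a w k j =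
      sig n P u i.val * rmat n a w ⟨0, by omega⟩ j +
        if h : i.val + 1 < n then rmat n a w ⟨i.val + 1, h⟩ j else 0 := by
    simp only [hK, add_mul, ite_mul, zero_mul, one_mul, Finset.sum_add_distrib]
    congr 1
    · rw [Finset.sum_eq_single (⟨0, by omega⟩ : Fin n)]
      · simp
      · intro k _ hk; rw [if_neg fun h => hk (Fin.ext h)]
      · simp
    · split_ifs with h
      · rw [Finset.sum_eq_single (⟨i.val + 1, h⟩ : Fin n)]
        · simp
        · intro k _ hk; rw [if_neg fun h' => hk (Fin.ext h')]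
        · simp
      · exact Finset.sum_eq_zero fun k _ => if_neg (by omega)
  rw [hR]
  have hi := i.isLt
  have hj := j.isLt
  have hA0 : aprod a 0 = 1 := Finset.prod_range_zero _
  rcases Nat.eq_zero_or_pos j.val with hj0 | hj0
  · -- first column
    simp only [ncore, rmat, hj0, Fin.ext_iff, if_true, Fin.val_mk, hA0]
    rw [if_neg (show ¬ (0 : ℕ) = i.val + 1 by omega), if_neg (show ¬ (0 + 1 = n ∧ i.val + 2 < n) by omega),
      if_neg (show ¬ (0 : ℕ) = l + 1 by omega), if_neg (show ¬ (0 + 1 = n ∧ l + 2 < n) by omega),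
      if_neg (show ¬ (0 + 1 = n ∧ 0 < 0 ∧ 0 + 1 < n) by omega)]
    simp only [add_zero, mul_one]
    rw [show (if h : i.val + 1 < n then
        (if i.val + 1 = 0 then aprod a (i.val + 1) else 0) +
          (if 0 + 1 = n ∧ 0 < i.val + 1 ∧ i.val + 1 + 1 < n then
            aprod a (i.val + 1 - 1) * w (i.val + 1 - 1) else 0) else (0 : F)) = 0 by
      split_ifs with h h' <;> simp_all <;> omega]
    rw [add_zero]
    have hl' : ccol n P u a w l = clast n P u a := by
      obtain ⟨l', rfl⟩ : ∃ l', l = l' + 1 := ⟨l - 1, by omega⟩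
      rw [ccol, if_neg (by omega)]
    rw [hl']
    rcases Nat.eq_zero_or_pos i.val with h0 | h0
    · rw [if_neg (by omega), h0, add_zero, hA0, one_mul, ccol]
    · obtain ⟨i', hi'⟩ : ∃ i', i.val = i' + 1 := ⟨i.val - 1, by omega⟩
      rw [hi', ccol, Nat.add_sub_cancel]
      by_cases h : i' + 2 < n
      · rw [if_pos h, if_pos ⟨Nat.succ_pos _, by omega⟩, aprod_succ]
        have := ha i'
        have := aprod_ne ha i'
        field_simp
        ring
      · rw [if_neg h, if_neg (by omega), add_zero, clast, show i' + 1 = n - 1 by omega,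
          mul_div_cancel₀ _ (aprod_ne ha _)]
  · -- the other columns
    simp only [ncore, rmat, Fin.ext_iff, Fin.val_mk, hA0]
    rw [if_neg (show ¬ j.val = 0 by omega), if_neg (show ¬ (0 : ℕ) = j.val by omega),
      if_neg (show ¬ j.val = l + 1 by omega), if_neg (show ¬ (j.val + 1 = n ∧ l + 2 < n) by omega),
      if_neg (show ¬ (j.val + 1 = n ∧ 0 < 0 ∧ 0 + 1 < n) by omega)]
    split_ifs <;>
      first
        | omega
        | ring1
        | (simp only [Nat.add_sub_cancel, aprod_succ]; ring1)

theorem sim_tcyc (hn : 3 ≤ n) (P : F[X]) (u : F) {a : ℕ → F} (ha : ∀ i, a i ≠ 0) (w : ℕ → F) :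
    Sim (tcyc n P u a w) (rc n P u) := by
  have hu := (det_rmat_ne (n := n) ha w).isUnit
  refine Sim.symm ⟨rmat n a w, (rmat n a w)⁻¹, mul_nonsing_inv _ hu, nonsing_inv_mul _ hu, ?_⟩
  rw [tcyc, rc, Matrix.add_mul, Matrix.mul_add, rmat_intertwine hn P u ha w]
  congr 1
  exact (Matrix.scalar_commute u (fun r => Commute.all u r) (rmat n a w)).eq

theorem up_tcyc (P : F[X]) {u : F} (hu : u ≠ 0) (a w : ℕ → F) : Up (tcyc n P u a w) := by
  intro i j hj
  refine ⟨fun hij => ?_, ?_⟩
  · rw [tcyc, Matrix.add_apply, Matrix.scalar_apply, diagonal_apply, ncore, if_neg (by omega),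
      if_neg (by omega), if_neg (by omega), if_neg (fun h => by rw [h] at hij; omega)]
    simp
  · rw [tcyc, Matrix.add_apply, Matrix.scalar_apply, diagonal_apply, ncore, if_neg (by omega),
      if_neg (by omega), if_neg (by omega), if_pos rfl]
    simpa using hu

theorem en_tcyc {P : F[X]} {u : F} {a w : ℕ → F} {i j : ℕ} (hi : i < n) (hj : j < n) :
    en (tcyc n P u a w) i j = ((if j = 0 then ccol n P u a w i else 0) +
      ((if j = i + 1 then a i else 0) + (if j + 1 = n ∧ i + 2 < n then w i else 0))) +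
        (if i = j then u else 0) := by
  rw [en_of hi hj, tcyc, Matrix.add_apply, Matrix.scalar_apply, diagonal_apply, ncore]
  simp only [Fin.ext_iff, Fin.val_mk]

/-- `(π T)` for the fixed columns. -/
theorem pis_tcyc_low (P : F[X]) (u : F) (a w : ℕ → F) (j : ℕ) (hj : j + 2 < n) :
    pis (tcyc n P u a w) (j + 1) = C u⁻¹ * ((X - C (a j)) * pis (tcyc n P u a w) j) := by
  have e : en (tcyc n P u a w) (j + 1) (j + 1) = u := by
    rw [en_tcyc (by omega) (by omega), if_neg (by omega), if_neg (by omega), if_neg (by omega),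
      if_pos rfl]
    simp
  rw [pis_succ, e, Finset.sum_range_succ, Finset.sum_eq_zero fun i hi => by
    rw [Finset.mem_range] at hi
    rw [en_tcyc (by omega) (by omega), if_neg (by omega), if_neg (by omega), if_neg (by omega),
      if_neg (by omega)]
    simp]
  rw [en_tcyc (by omega) (by omega), if_neg (by omega), if_pos rfl, if_neg (by omega),
    if_neg (by omega)]
  simp only [zero_add, add_zero]
  ring

theorem tcyc_injective (hn : 3 ≤ n) (P : F[X]) {u : F} (hu : u ≠ 0) {a : ℕ → F} (ha : ∀ i, a i ≠ 0)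
    (f : F[X]) (hne : ∀ i, i + 2 < n → a i ≠ phi f 0 * clast n P u a) (v w : ℕ → F)
    (h : rpol (tcyc n P u a v) f = rpol (tcyc n P u a w) f) : ∀ i, i + 2 < n → v i = w i := by
  obtain ⟨L, rfl⟩ : ∃ L, n = L + 2 := ⟨n - 2, by omega⟩
  set V := tcyc (L + 2) P u a v with hV
  set W := tcyc (L + 2) P u a w with hW
  have hlow : ∀ j ≤ L, pis W j = pis V j := by
    intro j
    induction j with
    | zero => intro _; rw [pis_zero, pis_zero]
    | succ j ih =>
      intro hj
      rw [hV, hW, pis_tcyc_low P u a w j (by omega), pis_tcyc_low P u a v j (by omega), ← hV, ← hW,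
        ih (by omega)]
  have htop : ∀ g : ℕ → F, pis (tcyc (L + 2) P u a g) (L + 1) = C u⁻¹ *
      ((X - C (a L)) * pis (tcyc (L + 2) P u a g) L -
        ∑ i ∈ Finset.range L, C (g i) * pis (tcyc (L + 2) P u a g) i) := by
    intro g
    have e : en (tcyc (L + 2) P u a g) (L + 1) (L + 1) = u := by
      rw [en_tcyc (by omega) (by omega), if_neg (by omega), if_neg (by omega), if_neg (by omega),
        if_pos rfl]
      simp
    have hs : ∀ i ∈ Finset.range L, C (en (tcyc (L + 2) P u a g) i (L + 1)) *
        pis (tcyc (L + 2) P u a g) i = C (g i) * pis (tcyc (L + 2) P u a g) i := fun i hi => by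
      rw [Finset.mem_range] at hi
      rw [en_tcyc (by omega) (by omega), if_neg (by omega), if_neg (by omega),
        if_pos ⟨rfl, by omega⟩, if_neg (by omega), zero_add, zero_add, add_zero]
    rw [pis_succ, e, Finset.sum_range_succ, Finset.sum_congr rfl hs]
    rw [en_tcyc (by omega) (by omega), if_neg (by omega), if_pos rfl, if_neg (by omega),
      if_neg (by omega)]
    simp only [zero_add, add_zero]
    ring
  set d : ℕ → F := fun i => v i - w i with hd
  have hD : pis V (L + 1) - pis W (L + 1) = -(C u⁻¹ * ∑ i ∈ Finset.range L, C (d i) * pis V i) := by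
    rw [hV, hW, htop v, htop w, ← hV, ← hW, hlow L le_rfl,
      show ∑ i ∈ Finset.range L, C (w i) * pis W i = ∑ i ∈ Finset.range L, C (w i) * pis V i from
        Finset.sum_congr rfl fun i hi => by rw [hlow i (Finset.mem_range.1 hi).le]]
    simp only [hd, C_sub, sub_mul, Finset.sum_sub_distrib]
    ring
  have hcol : ∀ g : ℕ → F, ∑ i ∈ Finset.range (L + 2),
      C (en (tcyc (L + 2) P u a g) i 0) * pis (tcyc (L + 2) P u a g) i =
      C (sig (L + 2) P u 0 + u) + (∑ j ∈ Finset.range L,
        C (sig (L + 2) P u (j + 1) / aprod a (j + 1) - g j / a j * clast (L + 2) P u a) *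
          (C u⁻¹ * ((X - C (a j)) * pis (tcyc (L + 2) P u a g) j))) +
        C (clast (L + 2) P u a) * pis (tcyc (L + 2) P u a g) (L + 1) := by
    intro g
    rw [Finset.sum_range_succ' _ (L + 1), Finset.sum_range_succ, pis_zero, mul_one]
    have e0 : en (tcyc (L + 2) P u a g) 0 0 = sig (L + 2) P u 0 + u := by
      rw [en_tcyc (by omega) (by omega), if_pos rfl, if_neg (by omega), if_neg (by omega),
        if_pos rfl, ccol]
      simp
    have el : en (tcyc (L + 2) P u a g) (L + 1) 0 = clast (L + 2) P u a := by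
      rw [en_tcyc (by omega) (by omega), if_pos rfl, if_neg (by omega), if_neg (by omega),
        if_neg (by omega), ccol, if_neg (by omega)]
      simp
    have hs : ∀ j ∈ Finset.range L, C (en (tcyc (L + 2) P u a g) (j + 1) 0) *
        pis (tcyc (L + 2) P u a g) (j + 1) =
        C (sig (L + 2) P u (j + 1) / aprod a (j + 1) - g j / a j * clast (L + 2) P u a) *
          (C u⁻¹ * ((X - C (a j)) * pis (tcyc (L + 2) P u a g) j)) := fun j hj => by
      rw [Finset.mem_range] at hj
      rw [en_tcyc (by omega) (by omega), if_pos rfl, if_neg (by omega), if_neg (by omega),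
        if_neg (by omega), ccol, if_pos (by omega), pis_tcyc_low P u a g j (by omega)]
      simp only [add_zero]
    rw [e0, el, Finset.sum_congr rfl hs]
    ring
  have hcD : ∑ i ∈ Finset.range (L + 2), C (en V i 0) * pis V i -
      ∑ i ∈ Finset.range (L + 2), C (en W i 0) * pis W i =
      X * ∑ i ∈ Finset.range L, C (-(clast (L + 2) P u a * u⁻¹ * (d i / a i))) * pis V i := by
    rw [hV, hW, hcol v, hcol w, ← hV, ← hW]
    rw [show (C (sig (L + 2) P u 0 + u) + (∑ j ∈ Finset.range L,
          C (sig (L + 2) P u (j + 1) / aprod a (j + 1) - v j / a j * clast (L + 2) P u a) *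
            (C u⁻¹ * ((X - C (a j)) * pis V j))) + C (clast (L + 2) P u a) * pis V (L + 1)) -
        (C (sig (L + 2) P u 0 + u) + (∑ j ∈ Finset.range L,
          C (sig (L + 2) P u (j + 1) / aprod a (j + 1) - w j / a j * clast (L + 2) P u a) *
            (C u⁻¹ * ((X - C (a j)) * pis W j))) + C (clast (L + 2) P u a) * pis W (L + 1)) =
        (∑ j ∈ Finset.range L, (C (-(d j / a j * clast (L + 2) P u a))) *
            (C u⁻¹ * ((X - C (a j)) * pis V j))) +
          C (clast (L + 2) P u a) * (pis V (L + 1) - pis W (L + 1)) from ?_]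
    · rw [hD, mul_neg, ← sub_eq_add_neg, Finset.mul_sum, Finset.mul_sum, Finset.mul_sum,
        ← Finset.sum_sub_distrib]
      refine Finset.sum_congr rfl fun i _ => ?_
      simp only [map_neg, C_mul]
      have : C (d i / a i) * C (a i) = C (d i) := by rw [← C_mul, div_mul_cancel₀ _ (ha i)]
      linear_combination (C (clast (L + 2) P u a) * C u⁻¹ * pis V i) * this
    · rw [show ∑ j ∈ Finset.range L, (C (-(d j / a j * clast (L + 2) P u a))) *
            (C u⁻¹ * ((X - C (a j)) * pis V j)) = (∑ j ∈ Finset.range L,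
          C (sig (L + 2) P u (j + 1) / aprod a (j + 1) - v j / a j * clast (L + 2) P u a) *
            (C u⁻¹ * ((X - C (a j)) * pis V j))) - ∑ j ∈ Finset.range L,
          C (sig (L + 2) P u (j + 1) / aprod a (j + 1) - w j / a j * clast (L + 2) P u a) *
            (C u⁻¹ * ((X - C (a j)) * pis W j)) from by
          rw [← Finset.sum_sub_distrib]
          refine Finset.sum_congr rfl fun j hj => ?_
          rw [hlow j (Finset.mem_range.1 hj).le]
          simp only [hd, sub_div, C_sub, C_neg, C_mul]
          ring]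
      ring
  have hx : rpol V f - rpol W f = 0 := sub_eq_zero.2 h
  rw [rpol, rpol, Nat.add_sub_assoc (by omega : 1 ≤ 2), show (2 : ℕ) - 1 = 1 from rfl,
    show ∑ k ∈ Finset.range (L + 1), C (phi f (k + 1)) * pis W k =
      ∑ k ∈ Finset.range (L + 1), C (phi f (k + 1)) * pis V k from
        Finset.sum_congr rfl fun x hx => by
          rw [hlow x (Nat.lt_succ_iff.1 (Finset.mem_range.1 hx))]] at hx
  have hz : X * ∑ i ∈ Finset.range L,
      C (u⁻¹ * d i * (phi f 0 * clast (L + 2) P u a / a i - 1)) * pis V i = 0 := by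
    have e : ∑ i ∈ Finset.range L,
        C (u⁻¹ * d i * (phi f 0 * clast (L + 2) P u a / a i - 1)) * pis V i =
        -(C u⁻¹ * ∑ i ∈ Finset.range L, C (d i) * pis V i) - C (phi f 0) *
          ∑ i ∈ Finset.range L, C (-(clast (L + 2) P u a * u⁻¹ * (d i / a i))) * pis V i := by
      rw [Finset.mul_sum, Finset.mul_sum, ← Finset.sum_neg_distrib, ← Finset.sum_sub_distrib]
      refine Finset.sum_congr rfl fun i _ => ?_
      simp only [div_eq_mul_inv, C_mul, C_sub, C_neg, C_1]
      ring
    rw [e]
    linear_combination hx - X * hD + C (phi f 0) * hcD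
  have h0 := (mul_eq_zero.1 hz).resolve_left X_ne_zero
  intro i hi
  have := pis_indep (up_tcyc P hu a v) L (by omega) _ h0 i (by omega)
  rcases mul_eq_zero.1 this with h1 | h1
  · exact sub_eq_zero.1 ((mul_eq_zero.1 h1).resolve_left (inv_ne_zero hu))
  · exfalso
    rw [sub_eq_zero, div_eq_one_iff_eq (ha i)] at h1
    exact hne i hi h1.symm

theorem trace_tcyc (hn : 3 ≤ n) (P : F[X]) (u : F) (a w : ℕ → F) (f : F[X]) :
    (tcyc n P u a w * compOf n f).trace =
      (∑ i ∈ Finset.range (n - 1), a i) + clast n P u a * phi f 0 + u * phi f (n - 1) := by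
  obtain ⟨L, rfl⟩ : ∃ L, n = L + 3 := ⟨n - 3, by omega⟩
  rw [Matrix.trace]
  simp only [Matrix.diag_apply, mul_compOf_apply]
  rw [Fin.sum_univ_eq_sum_range (fun i => if i + 1 < L + 3 then
      en (tcyc (L + 3) P u a w) i (i + 1)
    else ∑ k ∈ Finset.range (L + 3), en (tcyc (L + 3) P u a w) i k * phi f k),
    Finset.sum_range_succ, if_neg (by omega), show L + 3 - 1 = L + 2 from rfl, add_assoc]
  congr 1
  · refine Finset.sum_congr rfl fun i hi => ?_
    rw [Finset.mem_range] at hi
    rw [if_pos (by omega), en_tcyc (by omega) (by omega), if_neg (by omega), if_pos rfl,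
      if_neg (by omega), if_neg (by omega)]
    simp
  · rw [Finset.sum_eq_add_of_mem 0 (L + 2) (by simp) (by simp) (by omega)]
    · rw [en_tcyc (by omega) (by omega), en_tcyc (by omega) (by omega), if_pos rfl,
        if_neg (by omega), if_neg (by omega), if_neg (by omega), if_neg (by omega),
        if_neg (by omega), if_neg (by omega), if_pos rfl, ccol, if_neg (by omega)]
      simp
    · rintro k hk ⟨h1, h2⟩
      rw [Finset.mem_range] at hk
      rw [en_tcyc (by omega) (by omega), if_neg (by omega), if_neg (by omega), if_neg (by omega),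
        if_neg (by omega)]
      simp

theorem exists_tcyc [Fintype F] (hn : 3 ≤ n) {P : F[X]} (hP : P.Monic) (hPd : P.natDegree = n)
    (hP0 : (-1) ^ n * P.coeff 0 = 1) {u : F} (hu : u ≠ 0) {a : ℕ → F} (ha : ∀ i, a i ≠ 0)
    {f : F[X]} (hf : f.Monic) (hfd : f.natDegree = n)
    (hne : ∀ i, i + 2 < n → a i ≠ phi f 0 * clast n P u a)
    (htr : (∑ i ∈ Finset.range (n - 1), a i) + clast n P u a * phi f 0 = (1 - u) * phi f (n - 1)) :
    ∃ T : Matrix (Fin n) (Fin n) F, Sim T (rc n P u) ∧ Hess (T * compOf n f) ∧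
      (T * compOf n f).charpoly = f := by
  classical
  let ex : (Fin (n - 2) → F) → ℕ → F := fun v i => if h : i < n - 2 then v ⟨i, h⟩ else 0
  have hdet : ∀ v, (tcyc n P u a (ex v)).det = 1 := fun v => by
    rw [(sim_tcyc hn P u ha (ex v)).det_eq, det_eq_sign_charpoly_coeff, charpoly_rc hP hPd,
      Fintype.card_fin, hP0]
  have hone : ∀ M : Matrix (Fin n) (Fin n) F, M.charpoly.coeff (n - 1) = -M.trace := fun M => by
    have : Nonempty (Fin n) := ⟨⟨0, by omega⟩⟩
    rw [trace_eq_neg_charpoly_coeff, Fintype.card_fin, neg_neg]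
  have htop : ∀ v, (tcyc n P u a (ex v) * compOf n f).charpoly.coeff (n - 1) = f.coeff (n - 1) := by
    intro v
    rw [hone, trace_tcyc hn, htr]
    simp only [phi]
    ring
  let Φ : (Fin (n - 2) → F) → (Fin (n - 2) → F) := fun v i =>
    (tcyc n P u a (ex v) * compOf n f).charpoly.coeff (i.val + 1)
  have hi : Function.Injective Φ := fun p q h => by
    have hr := rpol_eq_of (up_tcyc P hu a (ex p)) (up_tcyc P hu a (ex q)) f (show 0 < n by omega) (fun j hj => by
        rw [← en_val (tcyc n P u a (ex p)), ← en_val (tcyc n P u a (ex q)), en_tcyc j.isLt j.isLt,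
          en_tcyc j.isLt j.isLt]
        simp [show ¬ j.val = 0 by omega, show ¬ (j.val + 1 = n ∧ j.val + 2 < n) by omega])
      (by rw [hdet, hdet]) (fun i h1 h2 => by
        rcases eq_or_lt_of_le (show i ≤ n - 1 by omega) with he | hlt
        · rw [he, htop, htop]
        · have := congrFun h ⟨i - 1, by omega⟩
          simpa [Φ, Nat.sub_add_cancel h1] using this)
    funext i
    have := tcyc_injective hn P hu ha f hne _ _ hr i.val (by omega)
    simpa [ex] using this
  have hb : Function.Bijective Φ :=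
    Finite.injective_iff_bijective.1 hi
  obtain ⟨v, hv⟩ := hb.2 fun i => f.coeff (i.val + 1)
  refine ⟨_, sim_tcyc hn P u ha (ex v), (up_tcyc P hu a (ex v)).hess f, ?_⟩
  have hm := charpoly_monic (tcyc n P u a (ex v) * compOf n f)
  have hd : (tcyc n P u a (ex v) * compOf n f).charpoly.natDegree = n := by
    rw [charpoly_natDegree_eq_dim, Fintype.card_fin]
  ext i
  rcases lt_trichotomy i n with h | rfl | h
  · rcases Nat.eq_zero_or_pos i with rfl | h0
    · have e := det_eq_sign_charpoly_coeff (tcyc n P u a (ex v) * compOf n f)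
      rw [det_mul, hdet, one_mul, det_compOf hf hfd, Fintype.card_fin] at e
      exact (mul_left_cancel₀ (pow_ne_zero _ (neg_ne_zero.2 one_ne_zero)) e).symm
    · rcases eq_or_lt_of_le (show i ≤ n - 1 by omega) with he | hlt
      · rw [he]; exact htop v
      · have := congrFun hv ⟨i - 1, by omega⟩
        simpa [Φ, Nat.sub_add_cancel h0] using this
  · have h1 := hm.coeff_natDegree
    have h2 := hf.coeff_natDegree
    rw [hd] at h1; rw [hfd] at h2
    rw [h1, h2]
  · rw [coeff_eq_zero_of_natDegree_lt (hd.trans_lt h), coeff_eq_zero_of_natDegree_lt (hfd.trans_lt h)]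

end Cfsg.Agent.H58.OreOmega
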