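import Cfsg.Agent.H58.OreOmega.MatM1
import Cfsg.Agent.H58.OreOmega.MatM0
import Cfsg.Agent.H58.OreOmega.MatField
import Cfsg.Agent.H60.Ore.Decomp

/-!
Block triangular matrices with a Hessenberg corner and a scalar corner are commutators
`A B A⁻¹ B⁻¹` with `A` regular and both determinants squares.
-/

set_option autoImplicit false
set_option linter.unusedSectionVars false
set_option linter.unusedSimpArgs false

namespace Cfsg.Agent.H58.OreOmega

open Matrix Polynomial
open Cfsg.Agent.H60.Ore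

variable {F : Type*} [Field F] [Fintype F]
variable {ι κ : Type} [Fintype ι] [DecidableEq ι] [Fintype κ] [DecidableEq κ]

/-- The certificate: `D` is similar to a `T` with `T X` cyclic of characteristic polynomial that of
`X`, for a good companion `X`. -/
def LC (n : ℕ) (D : Matrix ι ι F) : Prop :=
  ∃ (T : Matrix (Fin n) (Fin n) F) (t : F) (f : F[X]), Sim D T ∧ Good n t f ∧
    Hess (T * compOf n f) ∧ (T * compOf n f).charpoly = f

theorem LC.of_sim {n : ℕ} {A : Matrix ι ι F} {B : Matrix κ κ F} (h : Sim A B) (hB : LC n B) :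
    LC n A := by
  obtain ⟨T, t, f, hs, hg⟩ := hB
  exact ⟨T, t, f, h.trans hs, hg⟩

theorem LC.exists_com {n : ℕ} (hn : 3 ≤ n) {D : MM n F} (h : LC n D) :
    ∃ A B : GL (Fin n) F, Reg A ∧ IsSquare A.1.det ∧ IsSquare B.1.det ∧
      D = (A * B * A⁻¹ * B⁻¹ : GL (Fin n) F).1 := by
  obtain ⟨T, t, f, ⟨P, Q, h1, h2, h3⟩, hg, hH, hchi⟩ := h
  have hcX : (compOf n f).charpoly = f := charpoly_compOf hg.1 hg.2.1
  have hU : CFull (compOf n f) := hg.2.1 ▸ cfull_compOf hg.1 hg.2.2.1
  obtain ⟨a, ha, hab⟩ := exists_left (hH.cyc.sim (cyc_compOf n f) (hchi.trans hcX.symm)) hU 1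
    one_ne_zero
  have hD : D = P * T * Q := by rw [← h3, Matrix.mul_assoc, h1, Matrix.mul_one]
  have hXdet : (compOf n f).det ≠ 0 := by
    rw [det_compOf hg.1 hg.2.1]
    exact mul_ne_zero (pow_ne_zero _ (neg_ne_zero.2 one_ne_zero)) (hg.coeff_zero_ne (by omega))
  have hdX : (P * compOf n f * Q).det = (compOf n f).det := Matrix.det_conj_of_mul_eq_one h1 h2
  have hda : (P * a * Q).det = 1 := by rw [Matrix.det_conj_of_mul_eq_one h1 h2, ha]
  let X : GL (Fin n) F := GeneralLinearGroup.mkOfDetNeZero (P * compOf n f * Q) (by rwa [hdX])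
  let c : GL (Fin n) F := GeneralLinearGroup.mkOfDetNeZero (P * a * Q)
    (by rw [hda]; exact one_ne_zero)
  have key : (c * X : GL (Fin n) F).1 = D * X.1 * c.1 := by
    show P * a * Q * (P * compOf n f * Q) = D * (P * compOf n f * Q) * (P * a * Q)
    have e : ∀ x y : MM n F, P * x * Q * (P * y * Q) = P * (x * y) * Q := fun x y => by
      simp only [Matrix.mul_assoc]
      rw [← Matrix.mul_assoc Q P, h2, Matrix.one_mul]
    rw [hD, e, e, e, hab]
  have hXsq : IsSquare X.1.det := by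
    show IsSquare (P * compOf n f * Q).det
    rw [hdX, det_compOf hg.1 hg.2.1]; exact hg.2.2.2.1
  refine ⟨X⁻¹, X * c * X⁻¹, Reg.inv (hg.reg (by omega) X ?_), ?_, ?_, ?_⟩
  · show (P * compOf n f * Q).charpoly = f
    have hs : Sim (P * compOf n f * Q) (compOf n f) := ⟨P, Q, h1, h2, by
      rw [Matrix.mul_assoc (P * compOf n f), h2, Matrix.mul_one]⟩
    rw [hs.charpoly_eq, hcX]
  · rw [Matrix.coe_units_inv, Matrix.det_nonsing_inv, Ring.inverse_eq_inv']
    exact hXsq.inv
  · have : (X * c * X⁻¹ : GL (Fin n) F).1.det = 1 := by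
      rw [Units.val_mul, Units.val_mul]
      exact (Matrix.det_units_conj X c.1).trans hda
    rw [this]; exact IsSquare.one
  · rw [show X⁻¹ * (X * c * X⁻¹) * X⁻¹⁻¹ * (X * c * X⁻¹)⁻¹ = c * X * c⁻¹ * X⁻¹ by group,
      Units.val_mul, Units.val_mul, key, Matrix.mul_assoc (D * X.1) c.1, Units.mul_inv, Matrix.mul_one,
      Matrix.mul_assoc, Units.mul_inv, Matrix.mul_one]

/-! ### The split case -/

theorem cyc_rc (k : ℕ) (P : F[X]) (u : F) : Cyc (rc k P u) := by
  refine Cyc.of_sim (Sim.submatrix _ Fin.revPerm) (Hess.cyc ⟨fun i j h => ?_, fun i j h => ?_⟩)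
  · rw [Matrix.submatrix_apply, rc_apply, Fin.revPerm_apply, Fin.revPerm_apply, Fin.val_rev,
      Fin.val_rev, if_neg (by have := i.isLt; omega), if_neg (by have := i.isLt; omega),
      if_neg (fun e => by have := Fin.rev_injective e; subst this; omega)]
    simp
  · rw [Matrix.submatrix_apply, rc_apply, Fin.revPerm_apply, Fin.revPerm_apply, Fin.val_rev,
      Fin.val_rev, if_neg (by have := i.isLt; omega), if_pos (by have := i.isLt; omega),
      if_neg (fun e => by have := Fin.rev_injective e; subst this; omega)]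
    simp

theorem lc_split (h2 : (2 : F) ≠ 0) {k m : ℕ} (hk : 0 < k) (hm : 0 < m) (hn : 3 ≤ k + m)
    {P : F[X]} (hP : P.Monic) (hPd : P.natDegree = k) {ρ : F} (hρ : P.eval ρ ≠ 0) (hρ0 : ρ ≠ 0)
    (S : Matrix (Fin m) (Fin m) F) (hS : S.IsUpperTriangular) (hd : ∀ r, S r r = ρ)
    (hdet : (compOf k P).det * S.det = 1) (Z : Matrix (Fin k) (Fin m) F) :
    LC (k + m) (fromBlocks (compOf k P) Z 0 S) := by
  obtain ⟨f, hf⟩ := exists_good h2 hn (0 : F)
  have hsim : Sim (rc k P 1) (compOf k P) :=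
    (cyc_rc k P 1).sim (cyc_compOf k P) (by rw [charpoly_rc hP hPd, charpoly_compOf hP hPd])
  obtain ⟨p, hp, hH⟩ := exists_tfam hk hm (up_rc P one_ne_zero) hS (fun r => by rw [hd]; exact hρ0)
    (by rw [hsim.det_eq, hdet]) hf.1 hf.2.1
  have hco : IsCoprime P S.charpoly := by
    rw [charpoly_of_isUpperTriangular _ hS]
    simp only [hd, Finset.prod_const, Finset.card_univ, Fintype.card_fin]
    exact (coprime_lin ρ hρ m).symm
  refine ⟨_, 0, f, ?_, hf, hH, hp⟩
  refine (sim_upper _ _ (by rwa [charpoly_compOf hP hPd]) Z).trans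
    (((sim_tfam (rc k P 1) S p).trans ?_).symm)
  refine (sim_upper _ _ (by rwa [charpoly_rc hP hPd]) _).trans (hsim.blocks (Sim.refl S))

/-! ### The unipotent case -/

/-- A Jordan block and a scalar. -/
def canon (j r : ℕ) (ρ : F) : Matrix (Fin j ⊕ Fin r) (Fin j ⊕ Fin r) F :=
  fromBlocks (Jm j ρ) 0 0 (ρ • 1)

theorem sim_conj_upper {k m : ℕ} (A : Matrix (Fin k) (Fin k) F) (ρ : F)
    (E Y : Matrix (Fin k) (Fin m) F) :
    Sim (fromBlocks A E 0 (ρ • (1 : Matrix (Fin m) (Fin m) F)))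
      (fromBlocks A (E + (A * Y - ρ • Y)) 0 (ρ • 1)) :=
  ⟨fromBlocks 1 Y 0 1, fromBlocks 1 (-Y) 0 1, by simp [fromBlocks_multiply, fromBlocks_one],
    by simp [fromBlocks_multiply, fromBlocks_one], by simp [fromBlocks_multiply]; abel⟩

theorem sim_conj_right {k m : ℕ} (A : Matrix (Fin k) (Fin k) F) (ρ : F)
    (E : Matrix (Fin k) (Fin m) F) (R : Matrix (Fin m) (Fin m) F) (hR : R.det ≠ 0) :
    Sim (fromBlocks A E 0 (ρ • (1 : Matrix (Fin m) (Fin m) F))) (fromBlocks A (E * R) 0 (ρ • 1)) :=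
  ⟨fromBlocks 1 0 0 R, fromBlocks 1 0 0 R⁻¹,
    by simp [fromBlocks_multiply, fromBlocks_one, mul_nonsing_inv _ hR.isUnit],
    by simp [fromBlocks_multiply, fromBlocks_one, nonsing_inv_mul _ hR.isUnit],
    by simp [fromBlocks_multiply]⟩

theorem chain_form {k m : ℕ} (hk : 0 < k) (ρ : F) (E : Matrix (Fin k) (Fin m) F) :
    ((∀ c, E ⟨k - 1, by omega⟩ c = 0) → Sim (fromBlocks (Jm k ρ) E 0 (ρ • 1)) (canon k m ρ)) ∧
      ((∃ c, E ⟨k - 1, by omega⟩ c ≠ 0) → ∀ r, m = r + 1 →
        Sim (fromBlocks (Jm k ρ) E 0 (ρ • 1)) (canon (k + 1) r ρ)) := by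
  set Y : Matrix (Fin k) (Fin m) F := fun i c =>
    if h : 0 < i.val then -E ⟨i.val - 1, by omega⟩ c else 0 with hY
  have hE : E + (Jm k ρ * Y - ρ • Y) =
      fun i c => if i.val + 1 = k then E ⟨k - 1, by omega⟩ c else 0 := by
    ext i c
    have hJ : (Jm k ρ * Y) i c = ρ * Y i c + (if h : i.val + 1 < k then Y ⟨i.val + 1, h⟩ c else 0) := by
      rw [Matrix.mul_apply]
      have : ∀ x : Fin k, Jm k ρ i x * Y x c = (if i = x then ρ * Y x c else 0) +
          (if x.val = i.val + 1 then Y x c else 0) := fun x => by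
        rw [Jm]
        by_cases h1 : i = x
        · subst h1; simp
        · simp [h1]
      rw [Finset.sum_congr rfl fun x _ => this x, Finset.sum_add_distrib, Finset.sum_ite_eq,
        if_pos (Finset.mem_univ _)]
      congr 1
      split_ifs with h
      · rw [Finset.sum_eq_single (⟨i.val + 1, h⟩ : Fin k)]
        · simp
        · intro x _ hx; rw [if_neg fun h' => hx (Fin.ext h')]
        · simp
      · exact Finset.sum_eq_zero fun x _ => if_neg (by omega)
    rw [Matrix.add_apply, Matrix.sub_apply, hJ, Matrix.smul_apply, smul_eq_mul, add_sub_cancel_left]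
    by_cases h : i.val + 1 < k
    · rw [dif_pos h, if_neg (by omega), hY]
      simp
    · rw [dif_neg h, if_pos (by omega), add_zero]
      congr 1
      exact Fin.ext (by simp only; omega)
  have h1 := sim_conj_upper (Jm k ρ) ρ E Y
  rw [hE] at h1
  constructor
  · intro hz
    refine h1.trans (Sim.of_eq ?_)
    rw [canon]
    congr 1
    ext i c
    simp [hz c]
  · intro hne r hr
    subst hr
    obtain ⟨c0, hc0⟩ := hne
    set η : Fin (r + 1) → F := E ⟨k - 1, by omega⟩ with hη
    set M : Matrix (Fin (r + 1)) (Fin (r + 1)) F :=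
      (updateRow 1 c0 η).submatrix (Equiv.swap 0 c0) id with hM
    have hMd : M.det ≠ 0 := by
      have hU : (updateRow (1 : Matrix (Fin (r + 1)) (Fin (r + 1)) F) c0 η).det = η c0 := by
        rw [← cramer_transpose_apply, transpose_one, cramer_one]; rfl
      rw [hM, Matrix.det_permute, hU]
      refine mul_ne_zero ?_ hc0
      rcases Int.units_eq_one_or (Equiv.Perm.sign (Equiv.swap 0 c0)) with h | h <;> simp [h]
    have hMr : M⁻¹.det ≠ 0 := by
      rw [det_nonsing_inv, Ring.inverse_eq_inv']; exact inv_ne_zero hMd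
    refine h1.trans ((sim_conj_right (Jm k ρ) ρ _ M⁻¹ hMr).trans ?_)
    set W : Matrix (Fin k) (Fin (r + 1)) F := fun i c => if i.val + 1 = k then η c else 0 with hW
    set W' : Matrix (Fin k) (Fin (r + 1)) F := fun i c => if i.val + 1 = k ∧ c = 0 then 1 else 0
      with hW'
    have hEM : W * M⁻¹ = W' := by
      have : W' * M = W := by
        ext i c
        rw [Matrix.mul_apply, Finset.sum_eq_single (0 : Fin (r + 1))]
        · by_cases hi : i.val + 1 = k <;> simp [hW, hW', hi, hM, updateRow_self]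
        · intro x _ hx; simp [hW', hx]
        · simp
      rw [← this, Matrix.mul_assoc, mul_nonsing_inv _ hMd.isUnit, Matrix.mul_one]
    change Sim (fromBlocks (Jm k ρ) (W * M⁻¹) 0 (ρ • 1)) _
    rw [hEM]
    let e : Fin (k + 1) ⊕ Fin r ≃ Fin k ⊕ Fin (r + 1) :=
      (finSumFinEquiv.trans (finCongr (by omega))).trans finSumFinEquiv.symm
    refine (Sim.submatrix _ e).trans (Sim.of_eq ?_)
    have he : ∀ x : Fin (k + 1) ⊕ Fin r, (finSumFinEquiv (e x)).val = (finSumFinEquiv x).val :=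
      fun x => by simp [e]
    ext x y
    rw [Matrix.submatrix_apply]
    have hx := he x
    have hy := he y
    rcases hx' : e x with i | i <;> rcases hy' : e y with j | j <;> rcases x with x | x <;>
      rcases y with y | y <;>
      rw [hx'] at hx <;> rw [hy'] at hy <;>
      simp only [finSumFinEquiv_apply_left, finSumFinEquiv_apply_right, Fin.val_castAdd,
        Fin.val_natAdd] at hx hy <;>
      simp only [canon, fromBlocks_apply₁₁, fromBlocks_apply₁₂, fromBlocks_apply₂₁,
        fromBlocks_apply₂₂, Matrix.smul_apply, Matrix.one_apply, Jm, Matrix.zero_apply, smul_eq_mul,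
        mul_ite, mul_one, mul_zero] <;>
      (try simp only [hW', Fin.ext_iff, Fin.val_zero])
    all_goals
      have := x.isLt; have := y.isLt; have := i.isLt; have := j.isLt
      split_ifs <;> first | rfl | omega

theorem lc_chain (h2 : (2 : F) ≠ 0) {k m : ℕ} (hk : 0 < k) (hn : 3 ≤ k + (m + 1)) {ρ : F}
    (hρ : ρ ^ (k + (m + 1)) = 1) (hρ2 : k = 1 → ρ ≠ 1) :
    LC (k + (m + 1)) (canon (k + 1) m ρ) := by
  classical
  have hρ0 : ρ ≠ 0 := fun h => by rw [h, zero_pow (by omega)] at hρ; exact zero_ne_one hρ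
  obtain ⟨α, t, hα, hsum⟩ : ∃ α t : F, α ≠ 0 ∧
      (∑ i ∈ Finset.range (k - 1), if i = 0 then α else 1) ≠ (1 - ρ) * t := by
    rcases Nat.lt_or_ge k 2 with hk1 | hk2
    · refine ⟨1, 1, one_ne_zero, ?_⟩
      rw [show k - 1 = 0 by omega, Finset.sum_range_zero, mul_one]
      exact fun h => hρ2 (by omega) (sub_eq_zero.1 h.symm).symm
    · have e : ∀ α : F, (∑ i ∈ Finset.range (k - 1), if i = 0 then α else 1) = ((k - 2 : ℕ) : F) + α := by
        intro α
        rw [show k - 1 = (k - 2) + 1 by omega, Finset.sum_range_succ']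
        simp
      by_cases hc : ((k - 2 : ℕ) : F) + 1 = 0
      · refine ⟨2, 0, h2, ?_⟩
        rw [e, mul_zero]
        intro h; exact one_ne_zero (by linear_combination h - hc : (1 : F) = 0)
      · exact ⟨1, 0, one_ne_zero, by rw [e, mul_zero]; exact hc⟩
  obtain ⟨f, hf⟩ := exists_good h2 hn t
  set a : ℕ → F := fun i => if i = 0 then α else 1 with ha
  have ha0 : ∀ i, a i ≠ 0 := fun i => by simp only [ha]; split_ifs <;> simp [hα]
  set Tk : Matrix (Fin k) (Fin k) F := fun i j => (if i = j then ρ else 0) +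
    (if j.val = i.val + 1 then a i.val else 0) with hTk
  have hTup : Tk.IsUpperTriangular := fun i j h => by
    have h' : j.val < i.val := h
    simp only [hTk]
    rw [if_neg (fun e => by rw [e] at h'; omega), if_neg (by omega), add_zero]
  have hUp : Up Tk := fun i j hj => ⟨fun h => hTup (Fin.lt_def.2 h), by simp [hTk, hρ0]⟩
  have hdet : Tk.det * (ρ • (1 : Matrix (Fin (m + 1)) (Fin (m + 1)) F)).det = 1 := by
    rw [det_of_isUpperTriangular hTup, det_smul, det_one, mul_one, Fintype.card_fin,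
      Finset.prod_congr rfl fun i _ => (show Tk i i = ρ by simp [hTk]), Finset.prod_const,
      Finset.card_univ, Fintype.card_fin, ← pow_add, hρ]
  obtain ⟨p, hp, hH⟩ := exists_tfam hk (Nat.succ_pos m) hUp
    (S := ρ • (1 : Matrix (Fin (m + 1)) (Fin (m + 1)) F))
    (fun i j h => by
      have h' : j.val < i.val := h
      simp [Matrix.one_apply, show i ≠ j from fun e => by rw [e] at h'; omega])
    (fun r => by simp [hρ0]) hdet hf.1 hf.2.1
  refine ⟨_, t, f, ?_, hf, hH, hp⟩
  set Δ : Matrix (Fin k) (Fin k) F := diagonal fun i => if i.val = 0 then α else 1 with hΔ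
  set Δi : Matrix (Fin k) (Fin k) F := diagonal fun i => if i.val = 0 then α⁻¹ else 1 with hΔi
  have hd1 : Δ * Δi = 1 := by
    rw [hΔ, hΔi, diagonal_mul_diagonal, ← diagonal_one]
    congr 1; funext i; split_ifs <;> simp [hα]
  have hd2 : Δi * Δ = 1 := mul_eq_one_comm.1 hd1
  have hJ : Tk * Δ = Δ * Jm k ρ := by
    ext i j
    rw [hΔ, mul_diagonal, diagonal_mul]
    simp only [hTk, Jm, ha]
    by_cases hij : i = j
    · subst hij; simp [mul_comm]
    · by_cases hs : j.val = i.val + 1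
      · rw [if_neg hij, if_pos hs, if_neg hij, if_pos hs, if_neg (show ¬ j.val = 0 by omega)]
        simp
      · simp [hij, hs]
  refine Sim.symm ((sim_tfam Tk (ρ • 1) p).trans ?_)
  have hsim : Sim (fromBlocks Tk (zblk p) 0 (ρ • (1 : Matrix (Fin (m + 1)) (Fin (m + 1)) F)))
      (fromBlocks (Jm k ρ) (Δi * zblk p) 0 (ρ • 1)) :=
    ⟨fromBlocks Δ 0 0 1, fromBlocks Δi 0 0 1, by simp [fromBlocks_multiply, hd1, fromBlocks_one],
      by simp [fromBlocks_multiply, hd2, fromBlocks_one],
      by simp [fromBlocks_multiply, hJ, ← Matrix.mul_assoc, hd1]⟩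
  refine hsim.trans ((chain_form hk ρ _).2 ?_ m rfl)
  by_contra hz
  push Not at hz
  refine hsum ?_
  -- with `η = 0` the trace is forced
  have hrow : ∀ c, zblk p ⟨k - 1, by omega⟩ c = 0 := fun c => by
    have := hz c
    rw [hΔi, diagonal_mul] at this
    refine (mul_eq_zero.1 this).resolve_left ?_
    split_ifs <;> simp [hα]
  set T := tfam Tk (ρ • (1 : Matrix (Fin (m + 1)) (Fin (m + 1)) F)) p
  have : Nonempty (Fin (k + (m + 1))) := ⟨⟨0, by omega⟩⟩
  have htr : (T * compOf (k + (m + 1)) f).trace = t := by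
    rw [trace_eq_neg_charpoly_coeff, hp, Fintype.card_fin, hf.2.2.2.2.1, neg_neg]
  rw [Matrix.trace] at htr
  simp only [Matrix.diag_apply, mul_compOf_apply] at htr
  rw [Fin.sum_univ_eq_sum_range (fun i => if i + 1 < k + (m + 1) then en T i (i + 1)
      else ∑ x ∈ Finset.range (k + (m + 1)), en T i x * phi f x)] at htr
  have hsplit : ∀ g : ℕ → F, ∑ i ∈ Finset.range (k + (m + 1)), g i =
      (∑ i ∈ Finset.range (k - 1), g i + ∑ i ∈ Finset.range (1 + m), g (k - 1 + i)) + g (k + m) := by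
    intro g
    rw [show k + (m + 1) = (k + m) + 1 by omega, Finset.sum_range_succ]
    congr 1
    rw [show k + m = (k - 1) + (1 + m) by omega, Finset.sum_range_add]
  rw [hsplit (fun i => if i + 1 < k + (m + 1) then en T i (i + 1)
      else ∑ x ∈ Finset.range (k + (m + 1)), en T i x * phi f x)] at htr
  have e1 : ∀ i ∈ Finset.range (k - 1), (if i + 1 < k + (m + 1) then en T i (i + 1)
      else ∑ x ∈ Finset.range (k + (m + 1)), en T i x * phi f x) = if i = 0 then α else 1 := by
    intro i hi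
    rw [Finset.mem_range] at hi
    rw [if_pos (by omega), en_tfam_ll (by omega) (by omega)]
    simp [hTk, ha, Fin.ext_iff]
  have e2 : ∀ r ∈ Finset.range (1 + m), (if k - 1 + r + 1 < k + (m + 1) then
      en T (k - 1 + r) (k - 1 + r + 1)
      else ∑ x ∈ Finset.range (k + (m + 1)), en T (k - 1 + r) x * phi f x) = 0 := by
    intro r hr
    rw [Finset.mem_range] at hr
    rw [if_pos (by omega), show k - 1 + r + 1 = k + r by omega]
    rcases Nat.eq_zero_or_pos r with rfl | hr0
    · rw [Nat.add_zero (k - 1), en_tfam_lr (by omega) (by omega)]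
      exact hrow _
    · rw [show k - 1 + r = k + (r - 1) by omega, en_tfam_rr (by omega) (by omega)]
      simp [Matrix.one_apply, Fin.ext_iff, show ¬ r - 1 = r by omega]
  have e3 : ∑ x ∈ Finset.range (k + (m + 1)), en T (k + m) x * phi f x = ρ * t := by
    rw [Finset.sum_eq_single (k + m)]
    · have hc : f.coeff (k + (m + 1) - 1) = -t := hf.2.2.2.2.1
      rw [show k + (m + 1) - 1 = k + m by omega] at hc
      rw [en_tfam_rr (Nat.lt_succ_self m) (Nat.lt_succ_self m), Matrix.smul_apply, Matrix.one_apply_eq,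
        smul_eq_mul, mul_one, phi, hc, neg_neg]
    · intro x hx hne
      rw [Finset.mem_range] at hx
      rcases Nat.lt_or_ge x k with hxk | hxk
      · rw [en_tfam_rl (Nat.lt_succ_self m) hxk, zero_mul]
      · rw [show x = k + (x - k) by omega, en_tfam_rr (Nat.lt_succ_self m) (by omega)]
        simp [Matrix.one_apply, Fin.ext_iff, show ¬ m = x - k by omega]
    · simp
  rw [Finset.sum_congr rfl e1, Finset.sum_congr rfl e2, Finset.sum_const_zero, add_zero,
    if_neg (by omega), e3] at htr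
  linear_combination htr

/-! ### The case without roots -/

theorem card_class (ν : F) (hν : ν ≠ 0) :
    Fintype.card F - 1 ≤ 2 * Nat.card {α : F // α ≠ 0 ∧ IsSquare (α * ν)} := by
  classical
  rw [Nat.card_eq_fintype_card, Fintype.card_subtype]
  let Z : Finset F := Finset.univ.filter fun x : F => x ≠ 0
  have hsub : (Z.image fun x => x * x * ν⁻¹) ⊆
      Finset.univ.filter fun α : F => α ≠ 0 ∧ IsSquare (α * ν) := by
    intro y hy
    obtain ⟨x, hx, rfl⟩ := Finset.mem_image.1 hy
    simp only [Z, Finset.mem_filter, Finset.mem_univ, true_and] at hx ⊢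
    refine ⟨mul_ne_zero (mul_ne_zero hx hx) (inv_ne_zero hν), x, ?_⟩
    rw [mul_assoc, inv_mul_cancel₀ hν, mul_one]
  have himg : Z.card ≤ 2 * (Z.image fun x => x * x * ν⁻¹).card := by
    refine Finset.card_le_mul_card_image Z 2 fun c _ => ?_
    by_cases hex : ∃ x ∈ Z, x * x * ν⁻¹ = c
    · obtain ⟨x, -, hx⟩ := hex
      refine (Finset.card_le_card (t := {x, -x}) fun y hy => ?_).trans Finset.card_le_two
      rw [Finset.mem_filter] at hy
      have := mul_right_cancel₀ (inv_ne_zero hν) (hy.2.trans hx.symm)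
      rcases mul_self_eq_mul_self_iff.1 this with h | h <;> simp [h]
    · push Not at hex
      rw [Finset.filter_false_of_mem fun y hy => hex y hy]; simp
  have hZ : Z.card = Fintype.card F - 1 := by
    simp only [Z, Finset.filter_ne', Finset.card_erase_of_mem (Finset.mem_univ _), Finset.card_univ]
  have := Finset.card_le_card hsub
  omega

theorem exists_class_avoid (hq : 9 ≤ Fintype.card F) (ν : F) (hν : ν ≠ 0) (x y z : F) :
    ∃ α : F, α ≠ 0 ∧ IsSquare (α * ν) ∧ α ≠ x ∧ α ≠ y ∧ α ≠ z := by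
  classical
  have h := card_class ν hν
  rw [Nat.card_eq_fintype_card, Fintype.card_subtype] at h
  obtain ⟨α, hα, hne⟩ := Finset.exists_mem_notMem_of_card_lt_card
    (show ({x, y, z} : Finset F).card <
      (Finset.univ.filter fun α : F => α ≠ 0 ∧ IsSquare (α * ν)).card from
      lt_of_le_of_lt Finset.card_le_three (by omega))
  simp only [Finset.mem_filter, Finset.mem_univ, true_and] at hα
  simp only [Finset.mem_insert, Finset.mem_singleton, not_or] at hne
  exact ⟨α, hα.1, hα.2, hne⟩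

theorem exists_config_large (h2 : (2 : F) ≠ 0) (hq : 9 ≤ Fintype.card F) (e ν : F) (hν : ν ≠ 0) :
    ∃ α b γ : F, α ≠ 0 ∧ b ≠ 0 ∧ γ ≠ 0 ∧ α + e + b + γ = 0 ∧ γ ≠ α ∧ γ ≠ 1 ∧
      IsSquare (α * b * γ * ν) := by
  classical
  by_cases hdeg : e = 0 ∧ (3 : F) = 0
  · obtain ⟨r, -, hr⟩ : ∃ r, r ∈ Finset.univ ∧ r ∉ ({0, 1, -1} : Finset F) :=
      Finset.exists_mem_notMem_of_card_lt_card
        (lt_of_le_of_lt Finset.card_le_three (by rw [Finset.card_univ]; omega))
    simp only [Finset.mem_insert, Finset.mem_singleton, not_or] at hr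
    have hr1 : 1 + r ≠ 0 := fun h => hr.2.2 (by linear_combination h)
    obtain ⟨α, hα, hs, hne, -, -⟩ := exists_class_avoid hq (ν * (-r * (1 + r)))
      (mul_ne_zero hν (mul_ne_zero (neg_ne_zero.2 hr.1) hr1)) r⁻¹ 0 0
    refine ⟨α, -(1 + r) * α, r * α, hα, mul_ne_zero (neg_ne_zero.2 hr1) hα, mul_ne_zero hr.1 hα,
      by rw [hdeg.1]; ring, fun h => hr.2.1 (mul_right_cancel₀ hα (by rw [h, one_mul])),
      fun h => hne (eq_inv_of_mul_eq_one_right h), ?_⟩
    obtain ⟨s, hs⟩ := hs
    exact ⟨s * α, by linear_combination α * α * hs⟩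
  obtain ⟨α, hα, hs, hne⟩ := exists_class_avoid hq ν hν (-e) (-e / 3) (-e - 2)
  refine ⟨α, -(e + α) / 2, -(e + α) / 2, hα, ?_, ?_, by field_simp; ring, fun h => ?_,
    fun h => ?_, ?_⟩
  · exact div_ne_zero (fun h => hne.1 (by linear_combination -h)) h2
  · exact div_ne_zero (fun h => hne.1 (by linear_combination -h)) h2
  · rw [div_eq_iff h2] at h
    by_cases h3 : (3 : F) = 0
    · exact hdeg ⟨by linear_combination -h - α * h3, h3⟩
    · exact hne.2.1 (by rw [eq_div_iff h3]; linear_combination -h)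
  · rw [div_eq_iff h2] at h
    exact hne.2.2 (by linear_combination -h)
  · obtain ⟨s, hs⟩ := hs
    exact ⟨s * (-(e + α) / 2), by linear_combination ((-(e + α) / 2) * (-(e + α) / 2)) * hs⟩

theorem config_five : ∀ e ν : ZMod 5, ν ≠ 0 → ∃ α b : ZMod 5, α ≠ 0 ∧ b ≠ 0 ∧ -(α + e + b) ≠ 0 ∧
    -(α + e + b) ≠ α ∧ -(α + e + b) ≠ 1 ∧ ∃ s, α * b * -(α + e + b) * ν = s * s := by
  decide

theorem config_seven : ∀ e ν : ZMod 7, ν ≠ 0 → ∃ α b : ZMod 7, α ≠ 0 ∧ b ≠ 0 ∧ -(α + e + b) ≠ 0 ∧
    -(α + e + b) ≠ α ∧ -(α + e + b) ≠ 1 ∧ ∃ s, α * b * -(α + e + b) * ν = s * s := by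
  decide

theorem exists_config (h2 : (2 : F) ≠ 0) (hq : Fintype.card F ≠ 3) (e ν : F) (hν : ν ≠ 0) :
    ∃ α b γ : F, α ≠ 0 ∧ b ≠ 0 ∧ γ ≠ 0 ∧ α + e + b + γ = 0 ∧ γ ≠ α ∧ γ ≠ 1 ∧
      IsSquare (α * b * γ * ν) := by
  by_cases h9 : 9 ≤ Fintype.card F
  · exact exists_config_large h2 h9 e ν hν
  have hodd : Odd (Fintype.card F) := by
    simpa [Nat.card_eq_fintype_card] using Cfsg.Agent.Orthogonal.odd_natCard_of_two_ne_zero h2
  have h3 := three_le_card h2
  have transfer : ∀ (p : ℕ) [Fact p.Prime] (g : ZMod p ≃+* F),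
      (∀ e ν : ZMod p, ν ≠ 0 → ∃ α b : ZMod p, α ≠ 0 ∧ b ≠ 0 ∧ -(α + e + b) ≠ 0 ∧
        -(α + e + b) ≠ α ∧ -(α + e + b) ≠ 1 ∧ ∃ s, α * b * -(α + e + b) * ν = s * s) →
      ∃ α b γ : F, α ≠ 0 ∧ b ≠ 0 ∧ γ ≠ 0 ∧ α + e + b + γ = 0 ∧ γ ≠ α ∧ γ ≠ 1 ∧
        IsSquare (α * b * γ * ν) := by
    intro p _ g h
    obtain ⟨α, b, h1, h2', h3', h4, h5, s, hs⟩ := h (g.symm e) (g.symm ν)
      (fun hh => hν (g.symm.injective (by rw [hh, map_zero])))
    refine ⟨g α, g b, g (-(α + g.symm e + b)), ?_, ?_, ?_, ?_, ?_, ?_, g s, ?_⟩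
    · exact fun hh => h1 (g.injective (by rw [hh, map_zero]))
    · exact fun hh => h2' (g.injective (by rw [hh, map_zero]))
    · exact fun hh => h3' (g.injective (by rw [hh, map_zero]))
    · simp only [map_neg, map_add, g.apply_symm_apply]; ring
    · exact fun hh => h4 (g.injective hh)
    · exact fun hh => h5 (g.injective (by rw [hh, map_one]))
    · have := congrArg g hs
      simpa [map_mul, g.apply_symm_apply] using this
  rcases (show Fintype.card F = 5 ∨ Fintype.card F = 7 by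
    obtain ⟨k, hk⟩ := hodd; omega) with h5 | h7
  · have : Fact (Nat.Prime 5) := ⟨by norm_num⟩
    exact transfer 5 (ZMod.ringEquivOfPrime F (by norm_num) h5) config_five
  · have : Fact (Nat.Prime 7) := ⟨by norm_num⟩
    exact transfer 7 (ZMod.ringEquivOfPrime F (by norm_num) h7) config_seven

theorem lc_noroot (h2 : (2 : F) ≠ 0) {n : ℕ} (hn : 3 ≤ n) {P : F[X]} (hP : P.Monic)
    (hPd : P.natDegree = n) (hP0 : (-1) ^ n * P.coeff 0 = 1) (hroot : ∀ x, P.eval x ≠ 0) :
    LC n (compOf n P) := by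
  classical
  have hsim : ∀ u : F, Sim (compOf n P) (rc n P u) := fun u => ((cyc_rc n P u).sim (cyc_compOf n P)
    (by rw [charpoly_rc hP hPd, charpoly_compOf hP hPd])).symm
  obtain ⟨L, rfl⟩ : ∃ L, n = L + 3 := ⟨n - 3, by omega⟩
  by_cases hq : Fintype.card F = 3
  · set b : F := -(P.eval (-1)) * (-1) ^ (L + 3 + 1) / (-1) ^ (L + 1) with hb
    have hb0 : b ≠ 0 := div_ne_zero (mul_ne_zero (neg_ne_zero.2 (hroot _))
      (pow_ne_zero _ (neg_ne_zero.2 one_ne_zero))) (pow_ne_zero _ (neg_ne_zero.2 one_ne_zero))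
    set a : ℕ → F := fun i => if i < L + 1 then -1 else b with ha
    have ha0 : ∀ i, a i ≠ 0 := fun i => by simp only [ha]; split_ifs <;> simp [hb0]
    set t : F := ((∑ i ∈ Finset.range (L + 2), a i) + 1) / 2 with ht
    obtain ⟨f, hf⟩ := exists_good h2 hn t
    have hf0 : (-1) ^ (L + 3) * f.coeff 0 = 1 := by
      obtain ⟨r, hr⟩ := hf.2.2.2.1
      have hr0 : r ≠ 0 := fun h => by
        rw [h, mul_zero, mul_eq_zero] at hr
        exact hr.elim (pow_ne_zero _ (neg_ne_zero.2 one_ne_zero)) (hf.coeff_zero_ne (by omega))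
      rw [hr, ← sq]
      have := FiniteField.pow_card_sub_one_eq_one r hr0
      rwa [hq] at this
    have hone : ((-1 : F) ^ (L + 3)) * (-1) ^ (L + 3) = 1 := by
      rw [← mul_pow]; simp
    have hphi : phi f 0 = (-1) ^ (L + 3 + 1) := by
      simp only [phi]
      linear_combination (-(1 : F)) * (-1) ^ (L + 3) * hf0 + f.coeff 0 * hone
    have hcl : clast (L + 3) P (-1) a * phi f 0 = 1 := by
      have hA : aprod a (L + 3 - 1) = (-1) ^ (L + 1) * b := by
        rw [show L + 3 - 1 = (L + 1) + 1 from rfl, aprod_succ]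
        congr 1
        · rw [aprod, Finset.prod_congr rfl fun j hj => (show a j = -1 from
            if_pos (Finset.mem_range.1 hj)), Finset.prod_const, Finset.card_range]
        · simp [ha]
      rw [clast_eq, hA, hphi]
      have h1 : ((-1 : F) ^ (L + 1)) ≠ 0 := pow_ne_zero _ (neg_ne_zero.2 one_ne_zero)
      rw [hb]
      field_simp
      exact div_self (hroot (-1))
    obtain ⟨T, hT, hH, hc⟩ := exists_tcyc hn hP hPd hP0 (neg_ne_zero.2 one_ne_zero) ha0 hf.1 hf.2.1
      (fun i hi => by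
        rw [mul_comm, hcl]
        simp only [ha, if_pos (show i < L + 1 by omega)]
        intro h; exact h2 (by linear_combination -h))
      (by
        rw [hcl, show L + 3 - 1 = L + 2 from rfl]
        have hc := hf.2.2.2.2.1
        rw [show L + 3 - 1 = L + 2 from rfl] at hc
        rw [phi, hc, neg_neg, ht]
        field_simp
        ring)
    exact ⟨T, t, f, (hsim (-1)).trans hT.symm, hf, hH, hc⟩
  · obtain ⟨α, b, γ, hα, hb, hγ, hsum, hγα, hγ1, hsq⟩ := exists_config h2 hq ((L : ℕ) : F)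
      ((-1) ^ (L + 3) / P.eval 1) (div_ne_zero (pow_ne_zero _ (neg_ne_zero.2 one_ne_zero)) (hroot 1))
    obtain ⟨t, f, hf, hN⟩ := exists_good_norm h2 hn hq
      (mul_ne_zero (mul_ne_zero (mul_ne_zero hα hb) hγ)
        (div_ne_zero (pow_ne_zero _ (neg_ne_zero.2 one_ne_zero)) (hroot 1))) hsq
    set a : ℕ → F := fun i => if i = 0 then α else if i < L + 1 then 1 else b with ha
    have ha0 : ∀ i, a i ≠ 0 := fun i => by simp only [ha]; split_ifs <;> simp [hα, hb]
    have hA : aprod a (L + 3 - 1) = α * b := by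
      rw [show L + 3 - 1 = (L + 1) + 1 from rfl, aprod_succ, aprod, Finset.prod_range_succ']
      rw [Finset.prod_congr rfl fun j hj => (show a (j + 1) = 1 by
        simp [ha, Finset.mem_range.1 hj]), Finset.prod_const_one, one_mul]
      simp [ha]
    have hone : ((-1 : F) ^ (L + 3)) * (-1) ^ (L + 3) = 1 := by
      rw [← mul_pow]; simp
    have hcl : clast (L + 3) P 1 a * phi f 0 = γ := by
      rw [clast_eq, hA, phi]
      have h1 := hroot 1
      field_simp at hN ⊢
      linear_combination hN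
    have hS : (∑ i ∈ Finset.range (L + 3 - 1), a i) = α + (L : F) + b := by
      rw [show L + 3 - 1 = (L + 1) + 1 from rfl, Finset.sum_range_succ, Finset.sum_range_succ',
        Finset.sum_congr rfl fun j hj => (show a (j + 1) = 1 by simp [ha, Finset.mem_range.1 hj]),
        Finset.sum_const, Finset.card_range, nsmul_eq_mul, mul_one]
      simp [ha]; ring
    obtain ⟨T, hT, hH, hc⟩ := exists_tcyc hn hP hPd hP0 one_ne_zero ha0 hf.1 hf.2.1
      (fun i hi => by
        rw [mul_comm, hcl]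
        simp only [ha]
        by_cases h0 : i = 0
        · rw [if_pos h0]; exact hγα.symm
        · rw [if_neg h0, if_pos (by omega)]; exact hγ1.symm)
      (by rw [hcl, hS, sub_self, zero_mul]; exact hsum)
    exact ⟨T, t, f, (hsim 1).trans hT.symm, hf, hH, hc⟩

/-! ### The general statement -/

theorem cyc_split {P1 : F[X]} (hP : P1.Monic) {ρ : F} (hρ : P1.eval ρ ≠ 0) {k : ℕ}
    {H : Matrix (Fin k) (Fin k) F} (hH : Cyc H) (e : ℕ)
    (hchi : H.charpoly = (X - C ρ) ^ e * P1) :
    Sim H (fromBlocks (compOf P1.natDegree P1) 0 0 (Jm e ρ)) := by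
  refine hH.sim ((cyc_compOf _ _).blocks (cyc_Jm e ρ) ?_) ?_
  · rw [charpoly_compOf hP rfl, charpoly_Jm]; exact (coprime_lin ρ hρ e).symm
  · rw [hchi, charpoly_sum, charpoly_compOf hP rfl, charpoly_Jm, mul_comm]

theorem lc_hess_zero (h2 : (2 : F) ≠ 0) {k : ℕ} (hk : 3 ≤ k) {H : Matrix (Fin k) (Fin k) F}
    (hH : Hess H) (hdet : H.det = 1) : LC k H := by
  set P := H.charpoly with hP
  have hPm : P.Monic := charpoly_monic H
  have hPd : P.natDegree = k := by rw [hP, charpoly_natDegree_eq_dim, Fintype.card_fin]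
  by_cases hroot : ∀ x, P.eval x ≠ 0
  · refine LC.of_sim (hH.cyc.sim (cyc_compOf k P) (by rw [charpoly_compOf hPm hPd]))
      (lc_noroot h2 hk hPm hPd ?_ hroot)
    rw [det_eq_sign_charpoly_coeff, Fintype.card_fin] at hdet
    exact hdet
  · push Not at hroot
    obtain ⟨ρ, hρ⟩ := hroot
    have hρ0 : ρ ≠ 0 := fun h => by
      rw [h, ← coeff_zero_eq_eval_zero] at hρ
      rw [det_eq_sign_charpoly_coeff, ← hP, hρ, mul_zero] at hdet
      exact zero_ne_one hdet
    obtain ⟨P1, hP1, hnd⟩ := exists_eq_pow_rootMultiplicity_mul_and_not_dvd P hPm.ne_zero ρ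
    set e := P.rootMultiplicity ρ with he
    have he0 : 0 < e := (rootMultiplicity_pos hPm.ne_zero).2 hρ
    have hm1 : P1.Monic := ((monic_X_sub_C ρ).pow e).of_mul_monic_left (hP1 ▸ hPm)
    have hρ1 : P1.eval ρ ≠ 0 := fun h => hnd (dvd_iff_isRoot.2 h)
    have hdeg : e + P1.natDegree = k := by
      rw [← hPd, hP1, ((monic_X_sub_C ρ).pow e).natDegree_mul hm1, natDegree_pow, natDegree_X_sub_C,
        mul_one]
    have hsim := cyc_split hm1 hρ1 hH.cyc e (hP ▸ hP1)
    rcases Nat.eq_zero_or_pos P1.natDegree with h0 | h0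
    · have h1 := eq_one_of_monic_natDegree_zero hm1 h0
      rw [h1, mul_one] at hP1
      obtain ⟨k', rfl⟩ : ∃ k', k = k' + 1 := ⟨k - 1, by omega⟩
      have hek : e = k' + 1 := by omega
      have hdetρ : ρ ^ (k' + (0 + 1)) = 1 := by
        rw [det_eq_sign_charpoly_coeff, ← hP, hP1, hek, coeff_zero_eq_eval_zero, Fintype.card_fin,
          eval_pow, eval_sub, eval_X, eval_C, zero_sub, neg_pow ρ, ← mul_assoc, ← mul_pow,
          neg_one_mul, neg_neg, one_pow, one_mul] at hdet
        rw [zero_add]; exact hdet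
      refine LC.of_sim ?_ (lc_chain h2 (show 0 < k' by omega) (m := 0) (by omega) hdetρ
        (fun h => absurd h (by omega)))
      exact (hH.cyc.sim (cyc_Jm (k' + 1) ρ) (by rw [charpoly_Jm, ← hP, hP1, hek])).trans
        (Sim.empty _ _).symm
    · have hdk : (compOf P1.natDegree P1).det * (Jm e ρ).det = 1 := by
        rw [← det_sum, ← hsim.det_eq, hdet]
      have := lc_split h2 h0 he0 (by omega) hm1 rfl hρ1 hρ0 (Jm e ρ) (Jm_upper e ρ) (Jm_diag e ρ)
        hdk 0
      rw [show P1.natDegree + e = k by omega] at this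
      exact LC.of_sim hsim this

theorem lc_main (h2 : (2 : F) ≠ 0) {k m : ℕ} (hk : 2 ≤ k) (hn : 3 ≤ k + m) {ε : F}
    (hε : ε * ε = 1) {H : Matrix (Fin k) (Fin k) F} (hH : Hess H) (E : Matrix (Fin k) (Fin m) F)
    (hdet : (fromBlocks H E 0 (ε • (1 : Matrix (Fin m) (Fin m) F))).det = 1)
    (hbad : k = 2 → ε = 1 → H.charpoly ≠ (X - C 1) ^ 2) :
    LC (k + m) (fromBlocks H E 0 (ε • (1 : Matrix (Fin m) (Fin m) F))) := by
  rw [det_fromBlocks_zero₂₁, det_smul, det_one, mul_one, Fintype.card_fin] at hdet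
  rcases Nat.eq_zero_or_pos m with rfl | hm
  · rw [pow_zero, mul_one] at hdet
    have hE : E = 0 := Matrix.ext fun i j => j.elim0
    refine LC.of_sim ?_ (lc_hess_zero h2 (show 3 ≤ k + 0 by omega) hH hdet)
    rw [hE]
    exact Sim.empty _ _
  have hε0 : ε ≠ 0 := left_ne_zero_of_mul (hε.trans_ne one_ne_zero)
  set P := H.charpoly with hP
  have hPm : P.Monic := charpoly_monic H
  obtain ⟨P1, hP1, hnd⟩ := exists_eq_pow_rootMultiplicity_mul_and_not_dvd P hPm.ne_zero ε
  set e := P.rootMultiplicity ε with he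
  have hm1 : P1.Monic := ((monic_X_sub_C ε).pow e).of_mul_monic_left (hP1 ▸ hPm)
  have hε1 : P1.eval ε ≠ 0 := fun h => hnd (dvd_iff_isRoot.2 h)
  have hdeg : e + P1.natDegree = k := by
    rw [← Fintype.card_fin k, ← H.charpoly_natDegree_eq_dim, ← hP, hP1,
      ((monic_X_sub_C ε).pow e).natDegree_mul hm1, natDegree_pow, natDegree_X_sub_C, mul_one]
  rcases Nat.eq_zero_or_pos P1.natDegree with h0 | h0
  · rw [eq_one_of_monic_natDegree_zero hm1 h0, mul_one] at hP1
    clear_value e
    obtain rfl : e = k := by omega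
    obtain ⟨Pm, Qm, h1, h2', h3⟩ := hH.cyc.sim (cyc_Jm e ε) (by rw [charpoly_Jm, ← hP, hP1])
    have hs : Sim (fromBlocks H E 0 (ε • (1 : Matrix (Fin m) (Fin m) F)))
        (fromBlocks (Jm e ε) (Qm * E) 0 (ε • 1)) :=
      ⟨fromBlocks Pm 0 0 1, fromBlocks Qm 0 0 1, by simp [fromBlocks_multiply, h1, fromBlocks_one],
        by simp [fromBlocks_multiply, h2', fromBlocks_one],
        by simp [fromBlocks_multiply, h3, ← Matrix.mul_assoc, h1]⟩
    have hεn : ε ^ (e + m) = 1 := by
      rw [hH.cyc.sim (cyc_Jm e ε) (by rw [charpoly_Jm, ← hP, hP1]) |>.det_eq, det_Jm, ← pow_add]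
        at hdet
      exact hdet
    obtain ⟨r, hr⟩ : ∃ r, m = r + 1 := ⟨m - 1, by omega⟩
    by_cases hlast : ∀ c, (Qm * E) ⟨e - 1, by omega⟩ c = 0
    · obtain ⟨e', rfl⟩ : ∃ e', e = e' + 1 := ⟨e - 1, by omega⟩
      have := lc_chain h2 (show 0 < e' by omega) (m := m) (ρ := ε) (by omega)
        (by rw [show e' + (m + 1) = e' + 1 + m by omega]; exact hεn)
        (fun h hh => hbad (by omega) hh (by rw [hP1, hh, show e' + 1 = 2 by omega]))
      rw [show e' + (m + 1) = e' + 1 + m by omega] at this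
      exact LC.of_sim (hs.trans ((chain_form (by omega) ε _).1 hlast)) this
    · push Not at hlast
      subst hr
      exact LC.of_sim (hs.trans ((chain_form (by omega) ε _).2 hlast r rfl))
        (lc_chain h2 (show 0 < e by omega) hn hεn (fun h => absurd h (by omega)))
  · obtain ⟨Pm, Qm, h1, h2', h3⟩ := cyc_split hm1 hε1 hH.cyc e (hP ▸ hP1)
    set E' := Qm * E
    have hs : Sim (fromBlocks H E 0 (ε • (1 : Matrix (Fin m) (Fin m) F)))
        (fromBlocks (fromBlocks (compOf P1.natDegree P1) 0 0 (Jm e ε)) E' 0 (ε • 1)) :=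
      ⟨fromBlocks Pm 0 0 1, fromBlocks Qm 0 0 1, by simp [fromBlocks_multiply, h1, fromBlocks_one],
        by simp [fromBlocks_multiply, h2', fromBlocks_one],
        by simp [E', fromBlocks_multiply, h3, ← Matrix.mul_assoc, h1]⟩
    set S : Matrix (Fin (e + m)) (Fin (e + m)) F :=
      (fromBlocks (Jm e ε) (E'.submatrix Sum.inr id) 0 (ε • 1)).submatrix
        finSumFinEquiv.symm finSumFinEquiv.symm with hS
    set Z : Matrix (Fin P1.natDegree) (Fin (e + m)) F :=
      fun i c => Sum.elim (fun _ => 0) (fun c' => E' (.inl i) c') (finSumFinEquiv.symm c) with hZ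
    have hSup : S.IsUpperTriangular := by
      intro i j h
      obtain ⟨i, rfl⟩ := finSumFinEquiv.surjective i
      obtain ⟨j, rfl⟩ := finSumFinEquiv.surjective j
      rw [hS, Matrix.submatrix_apply, Equiv.symm_apply_apply, Equiv.symm_apply_apply]
      have h' : (finSumFinEquiv j).val < (finSumFinEquiv i).val := h
      rcases i with i | i <;> rcases j with j | j <;>
        simp only [finSumFinEquiv_apply_left, finSumFinEquiv_apply_right, Fin.val_castAdd,
          Fin.val_natAdd] at h'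
      · rw [fromBlocks_apply₁₁]; exact Jm_upper e ε (Fin.lt_def.2 h')
      · omega
      · rfl
      · simp [Matrix.one_apply, show i ≠ j from fun h => by rw [h] at h'; omega]
    have hSd : ∀ r, S r r = ε := by
      intro r
      obtain ⟨r, rfl⟩ := finSumFinEquiv.surjective r
      rw [hS, Matrix.submatrix_apply, Equiv.symm_apply_apply]
      rcases r with r | r <;> simp [Jm_diag]
    have hsim2 : Sim (fromBlocks (fromBlocks (compOf P1.natDegree P1) 0 0 (Jm e ε)) E' 0 (ε • 1))
        (fromBlocks (compOf P1.natDegree P1) Z 0 S) := by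
      refine (Sim.submatrix _ (((Equiv.sumCongr (Equiv.refl _) finSumFinEquiv.symm).trans
        (Equiv.sumAssoc _ _ _).symm))).trans (Sim.of_eq ?_)
      ext (i | i) (j | j)
      · rfl
      · rcases hj : finSumFinEquiv.symm j with j' | j' <;> simp [hj] <;> simp [hZ, hj]
      · rcases hi : finSumFinEquiv.symm i with i' | i' <;> simp [hi]
      · rcases hi : finSumFinEquiv.symm i with i' | i' <;>
          rcases hj : finSumFinEquiv.symm j with j' | j' <;> simp [hS, hi, hj]
    have hdk : (compOf P1.natDegree P1).det * S.det = 1 := by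
      have := (hs.trans hsim2).det_eq
      rw [det_fromBlocks_zero₂₁, det_fromBlocks_zero₂₁, det_smul, det_one, mul_one, Fintype.card_fin,
        hdet] at this
      exact this.symm
    have := lc_split h2 h0 (show 0 < e + m by omega) (by omega) hm1 rfl hε1 hε0 S hSup hSd hdk Z
    rw [show P1.natDegree + (e + m) = k + m by omega] at this
    exact LC.of_sim (hs.trans hsim2) this

end Cfsg.Agent.H58.OreOmega
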