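import Cfsg.Agent.Orthogonal.SiegelGen
import Cfsg.Agent.Orthogonal.StdForms
import Cfsg.Agent.Orthogonal.Extend

/-!
The Krylov decomposition of an orthogonal transformation in odd dimension.
-/

set_option autoImplicit false
set_option linter.unusedSectionVars false

namespace Cfsg.Agent.H58.OreOmega

open Cfsg.Agent.Orthogonal Module
open QuadraticMap (polar polar_comm polar_add_left polar_add_right polar_sub_left polar_sub_right)

variable {F V : Type*} [Field F] [Finite F] [AddCommGroup V] [Module F V] [FiniteDimensional F V]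
variable {Q : QuadraticForm F V}

theorem frame_of_dim (hQ : Nondeg Q) {m : ℕ} (hm : finrank F V = 2 * m + 1) :
    ∃ e f : Fin m → V, IsFrame Q e f := by
  obtain ⟨k, e, f, h, ha⟩ := hQ.exists_frame
  have hr := h.finrank_kernel hQ
  have hle := finrank_le_two_of_aniso (h.nondeg_kernel hQ) ha
  obtain rfl : k = m := by omega
  exact ⟨e, f, h⟩

/-- An odd-dimensional isometry has the eigenvalue `det`. -/
theorem exists_eigen (hQ : Nondeg Q) (h2 : (2 : F) ≠ 0) (hodd : Odd (finrank F V))
    (h : V →ₗ[F] V) (hh : ∀ x, Q (h x) = Q x) :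
    h.det * h.det = 1 ∧ ∃ w, w ≠ 0 ∧ h w = h.det • w := by
  classical
  let b := Module.finBasis F V
  set G := LinearMap.BilinForm.toMatrix b Q.polarBilin with hG
  set A := LinearMap.toMatrix b b h with hA
  have hGd : G.det ≠ 0 := Matrix.nondegenerate_iff_det_ne_zero.1
    ((LinearMap.BilinForm.nondegenerate_toMatrix_iff b).2 hQ.polarBilin)
  have hrel : A.transpose * G * A = G := by
    rw [hA, hG, ← LinearMap.BilinForm.toMatrix_comp b b]
    congr 1
    refine LinearMap.ext₂ fun x y => ?_
    show polar Q (h x) (h y) = polar Q x y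
    simp only [polar, ← map_add, hh]
  have hd : A.det = h.det := LinearMap.det_toMatrix b h
  set δ := h.det
  have hsq : δ * δ = 1 := by
    have := congrArg Matrix.det hrel
    rw [Matrix.det_mul, Matrix.det_mul, Matrix.det_transpose, hd] at this
    exact mul_left_cancel₀ hGd (by linear_combination this)
  refine ⟨hsq, ?_⟩
  have key : A.transpose * G * (A - δ • 1) = ((1 : Matrix _ _ F) - δ • A.transpose) * G := by
    rw [Matrix.mul_sub, hrel, Matrix.sub_mul, Matrix.one_mul, Matrix.mul_smul, Matrix.mul_one,
      Matrix.smul_mul]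
  have hneg : (1 : Matrix (Fin (finrank F V)) (Fin (finrank F V)) F) - δ • A.transpose =
      (-δ) • (A - δ • 1).transpose := by
    rw [Matrix.transpose_sub, Matrix.transpose_smul, Matrix.transpose_one, smul_sub, smul_smul,
      neg_mul, hsq, neg_smul, neg_smul, one_smul]
    abel
  have hdet := congrArg Matrix.det key
  rw [hneg, Matrix.det_mul, Matrix.det_mul, Matrix.det_mul, Matrix.det_transpose, Matrix.det_smul,
    Matrix.det_transpose, hd, Fintype.card_fin, hodd.neg_pow] at hdet
  obtain ⟨i, hi⟩ := hodd
  have hp : δ ^ finrank F V = δ := by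
    rw [hi, pow_add, pow_mul, sq, hsq, one_pow, one_mul, pow_one]
  rw [hp] at hdet
  have h0 : (A - δ • 1).det = 0 := by
    have hδ : δ ≠ 0 := left_ne_zero_of_mul (hsq.trans_ne one_ne_zero)
    have : 2 * δ * G.det * (A - δ • 1).det = 0 := by linear_combination hdet
    exact (mul_eq_zero.1 this).resolve_left (mul_ne_zero (mul_ne_zero h2 hδ) hGd)
  obtain ⟨v, hv0, hv⟩ := Matrix.exists_mulVec_eq_zero_iff.2 h0
  refine ⟨b.equivFun.symm v, fun h' => hv0 (b.equivFun.symm.injective (by simpa using h')), ?_⟩
  rw [Matrix.sub_mulVec, sub_eq_zero, Matrix.smul_mulVec, Matrix.one_mulVec] at hv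
  refine b.equivFun.injective ?_
  rw [map_smul, LinearEquiv.apply_symm_apply, Basis.equivFun_apply,
    ← LinearMap.toMatrix_mulVec_repr b b, ← hA,
    show ⇑(b.repr (b.equivFun.symm v)) = v from b.equivFun.apply_symm_apply v]
  exact hv

/-- The polar form of `u ↦ B (h u) u`. -/
theorem quad_scalar (hQ : Nondeg Q) (h2 : (2 : F) ≠ 0) (hn : 5 ≤ finrank F V) (h : V →ₗ[F] V)
    (hs : ∀ x, Q x = 0 → polar Q (h x) x = 0) :
    ∃ c : F, ∀ u, polar Q (h u) u = c * Q u := by
  obtain ⟨x, hx0, hx⟩ := hQ.exists_singular (by omega)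
  obtain ⟨y, hy, hxy⟩ := hQ.exists_partner hx0 hx
  set b : V → V → F := fun u v => polar Q (h u) v + polar Q (h v) u with hb
  set q : V → F := fun u => polar Q (h u) u with hq
  have key : ∀ (x y : V), Q x = 0 → Q y = 0 → polar Q x y = 1 → ∀ z,
      z ∈ perp Q (Submodule.span F {x, y}) → b x z = Q z * b z y ∧ q z = Q z * b x y := by
    intro x y hx hy hxy z hz
    obtain ⟨hxz, hyz⟩ := (mem_perp_span_pair (Q := Q)).1 hz
    have e : ∀ s : F, s * s = 1 → q z - Q z * b x y + s * (b x z - Q z * b z y) = 0 := by
      intro s hss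
      have h0 := hs (x + s • z + (-Q z) • y) (by
        simp only [map_add_polar, qmap_smul, polar_add_left, polar_smul_left', polar_smul_right',
          hx, hy, hxy, hxz, polar_comm Q z y, hyz]
        linear_combination Q z * hss)
      simp only [map_add, map_smul, polar_add_left, polar_add_right, polar_smul_left',
        polar_smul_right', hs x hx, hs y hy] at h0
      simp only [hb, hq]
      linear_combination h0 + (-polar Q (h z) z) * hss
    have e1 := e 1 (one_mul 1)
    have e2 := e (-1) (by ring)
    have h3 : b x z - Q z * b z y = 0 := by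
      have : 2 * (b x z - Q z * b z y) = 0 := by linear_combination e1 - e2
      exact (mul_eq_zero.1 this).resolve_left h2
    exact ⟨sub_eq_zero.1 h3, sub_eq_zero.1 (by linear_combination e1 - h3)⟩
  set W := perp Q (Submodule.span F {x, y}) with hW
  have hWn := hQ.nondeg_hyperbolic_perp hx hy hxy
  have hWr := hQ.finrank_hyperbolic_perp hx hy hxy
  have hWyx : ∀ z, z ∈ W → z ∈ perp Q (Submodule.span F {y, x}) := fun z hz => by
    rw [Set.pair_comm]; exact hz
  have hbsymm : ∀ u v, b u v = b v u := fun u v => by simp only [hb]; ring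
  have hzero : ∀ (x' y' : V), (∀ z ∈ W, b x' z = Q z * b z y') → ∀ z ∈ W, b x' z = 0 := by
    intro x' y' hrel z hz
    let L : W →ₗ[F] F :=
      { toFun := fun w => b x' w
        map_add' := fun u v => by
          simp only [hb, Submodule.coe_add, map_add, polar_add_left, polar_add_right]; ring
        map_smul' := fun c u => by
          simp only [hb, Submodule.coe_smul, map_smul, polar_smul_left', polar_smul_right',
            RingHom.id_apply, smul_eq_mul]; ring }
    have hT := span_singular hWn (by omega) (LinearMap.ker L) (fun w hw => by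
      rw [LinearMap.mem_ker]
      show b x' w = 0
      rw [hrel w w.2, ← restr_apply, hw, zero_mul])
    have : (⟨z, hz⟩ : W) ∈ LinearMap.ker L := hT ▸ Submodule.mem_top
    exact LinearMap.mem_ker.1 this
  have hbx := hzero x y fun z hz => (key x y hx hy hxy z hz).1
  have hby := hzero y x fun z hz =>
    (key y x hy hx (by rw [polar_comm]; exact hxy) z (hWyx z hz)).1
  refine ⟨b x y, fun u => ?_⟩
  set z := u - polar Q u y • x - polar Q u x • y with hzdef
  have hz : z ∈ W := (mem_perp_span_pair (Q := Q)).2 ⟨by
      simp only [hzdef, polar_sub_right, polar_smul_right', polar_self', hx, hxy, polar_comm Q x u]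
      ring, by
      simp only [hzdef, polar_sub_right, polar_smul_right', polar_self', hy,
        polar_comm Q y x, hxy, polar_comm Q y u]
      ring⟩
  obtain ⟨hxz, hyz⟩ := (mem_perp_span_pair (Q := Q)).1 hz
  have hu : u = polar Q u y • x + polar Q u x • y + z := by rw [hzdef]; abel
  clear_value z
  clear hzdef
  generalize polar Q u y = a at hu
  generalize polar Q u x = c at hu
  subst hu
  have h1 := (key x y hx hy hxy z hz).2
  have h3 := hbx z hz
  have h4 := hby z hz
  simp only [hq] at h1
  simp only [hb] at h3 h4 h1 ⊢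
  simp only [map_add, map_smul, polar_add_left, polar_add_right, polar_smul_left', polar_smul_right',
    map_add_polar, qmap_smul, hx, hy, hxy, hxz, hyz, hs x hx, hs y hy]
  linear_combination h1 + a * h3 + c * h4

theorem tail_small (hQ : Nondeg Q) {m : ℕ} (hm : m ≤ 1) (hn : finrank F V = 2 * m + 1)
    (h : V →ₗ[F] V) (hh : ∀ x, Q (h x) = Q x) (hs : ∀ x, Q x = 0 → polar Q (h x) x = 0) :
    ∃ c : F, ∀ u, h u = c • u := by
  have hB : ∀ u v, polar Q (h u) (h v) = polar Q u v := fun u v => by
    simp only [polar, ← map_add, hh]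
  obtain ⟨e, f, hfr⟩ := frame_of_dim hQ hn
  have hK : finrank F (IsFrame.kernel Q e f) = 1 := by have := hfr.finrank_kernel hQ; omega
  obtain ⟨z', hz0, hzsp⟩ := finrank_eq_one_iff'.1 hK
  rcases Nat.eq_zero_or_pos m with rfl | hm1
  · have htop : IsFrame.kernel Q e f = ⊤ :=
      Submodule.eq_top_of_finrank_eq (by rw [hK, hn])
    have hall : ∀ u : V, ∃ c : F, c • (z' : V) = u := fun u => by
      obtain ⟨c, hc⟩ := hzsp ⟨u, by rw [htop]; trivial⟩
      exact ⟨c, congrArg Subtype.val hc⟩
    obtain ⟨c, hc⟩ := hall (h z')
    refine ⟨c, fun u => ?_⟩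
    obtain ⟨a, rfl⟩ := hall u
    rw [map_smul, ← hc, smul_smul, smul_smul, mul_comm]
  obtain rfl : m = 1 := by omega
  set x := e 0
  set y := f 0
  set z : V := (z' : V) with hz
  have hx : Q x = 0 := hfr.qe 0
  have hy : Q y = 0 := hfr.qf 0
  have hxy : polar Q x y = 1 := by simpa using hfr.ef 0 0
  have hzk := IsFrame.mem_kernel.1 z'.2
  have hxz : polar Q x z = 0 := hzk.1 0
  have hyz : polar Q y z = 0 := hzk.2 0
  have hdec : ∀ u, ∃ a b c : F, u = a • x + b • y + c • z := by
    intro u
    have hk : u - polar Q u y • x - polar Q u x • y ∈ IsFrame.kernel Q e f := by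
      refine IsFrame.mem_kernel.2 ⟨fun i => ?_, fun i => ?_⟩
      · obtain rfl : i = 0 := Subsingleton.elim _ _
        show polar Q x (u - polar Q u y • x - polar Q u x • y) = 0
        simp only [polar_sub_right, polar_smul_right', polar_self', hx, hxy, polar_comm Q x u]
        ring
      · obtain rfl : i = 0 := Subsingleton.elim _ _
        show polar Q y (u - polar Q u y • x - polar Q u x • y) = 0
        simp only [polar_sub_right, polar_smul_right', polar_self', hy, polar_comm Q y x, hxy,
          polar_comm Q y u]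
        ring
    obtain ⟨c, hc⟩ := hzsp ⟨_, hk⟩
    refine ⟨polar Q u y, polar Q u x, c, ?_⟩
    rw [show c • z = u - polar Q u y • x - polar Q u x • y from congrArg Subtype.val hc]
    abel
  have hQz : Q z ≠ 0 := fun h0 => hz0 (Subtype.ext (show z = 0 from hQ z fun u => by
    obtain ⟨a, b, c, rfl⟩ := hdec u
    simp only [polar_add_right, polar_smul_right', polar_comm Q z x, polar_comm Q z y, hxz, hyz,
      polar_self', h0]
    ring))
  have hline : ∀ v, v ≠ 0 → Q v = 0 → ∃ c : F, h v = c • v := by
    intro v hv hQv
    by_contra hne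
    push Not at hne
    have hT : TotSing Q (Submodule.span F {v, h v}) := by
      intro w hw
      obtain ⟨a, b, rfl⟩ := Submodule.mem_span_pair.1 hw
      rw [map_add_polar, qmap_smul, qmap_smul, polar_smul_left', polar_smul_right', hh, hQv,
        polar_comm Q v (h v), hs v hQv]
      ring
    have hli : LinearIndependent F ![v, h v] := by
      rw [LinearIndependent.pair_iff' hv]
      exact fun a ha => hne a ha.symm
    have h2' := finrank_span_eq_card hli
    rw [show Set.range ![v, h v] = {v, h v} by
      simp [Matrix.range_cons, Matrix.range_empty, Set.pair_comm]] at h2'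
    have := hT.two_mul_finrank_le hQ
    simp only [Fintype.card_fin] at h2'
    omega
  have hx0 : x ≠ 0 := fun h0 => by rw [h0, QuadraticMap.polar_zero_left] at hxy; exact zero_ne_one hxy
  have hy0 : y ≠ 0 := fun h0 => by rw [h0, QuadraticMap.polar_zero_right] at hxy; exact zero_ne_one hxy
  obtain ⟨a, ha⟩ := hline x hx0 hx
  obtain ⟨b, hb⟩ := hline y hy0 hy
  have hab : a * b = 1 := by
    have := hB x y
    rwa [ha, hb, polar_smul_left', polar_smul_right', hxy, mul_one] at this
  obtain ⟨a', b', c, hzc⟩ := hdec (h z)
  have hb' : b' = 0 := by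
    have := hB x z
    rw [ha, hzc, hxz, polar_smul_left'] at this
    simp only [polar_add_right, polar_smul_right', polar_self', hx, hxy, hxz] at this
    have ha0 : a ≠ 0 := left_ne_zero_of_mul (hab.trans_ne one_ne_zero)
    exact (mul_eq_zero.1 (show a * b' = 0 by linear_combination this)).resolve_left ha0
  have ha' : a' = 0 := by
    have := hB y z
    rw [hb, hzc, hyz, polar_smul_left'] at this
    simp only [polar_add_right, polar_smul_right', polar_self', hy, polar_comm Q y x, hxy, hyz] at this
    have hb0 : b ≠ 0 := right_ne_zero_of_mul (hab.trans_ne one_ne_zero)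
    exact (mul_eq_zero.1 (show b * a' = 0 by linear_combination this)).resolve_left hb0
  rw [ha', hb', zero_smul, zero_smul, zero_add, zero_add] at hzc
  have hv0 : x + z + (-Q z) • y ≠ 0 := fun h0 => by
    have := congrArg (polar Q y) h0
    simp [polar_add_right, polar_smul_right', polar_self', hy, hyz, polar_comm Q y x, hxy] at this
  obtain ⟨d, hd⟩ := hline _ hv0 (by
    simp only [map_add_polar, qmap_smul, polar_add_left, polar_smul_right', hx, hy, hxy, hxz,
      polar_comm Q z y, hyz]
    ring)
  rw [map_add, map_add, map_smul, ha, hb, hzc] at hd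
  have e1 : a = d := by
    have := congrArg (fun w => polar Q w y) hd
    simp only [polar_add_left, polar_smul_left', hxy, polar_comm Q z y, hyz, polar_self', hy] at this
    linear_combination this
  have e2 : b = d := by
    have := congrArg (fun w => polar Q x w) hd
    simp only [polar_add_right, polar_smul_right', hxy, hxz, polar_self', hx] at this
    exact mul_left_cancel₀ (neg_ne_zero.2 hQz) (by linear_combination this)
  have e3 : c = d := by
    have := congrArg (fun w => polar Q z w) hd
    simp only [polar_add_right, polar_smul_right', polar_self', polar_comm Q z x, hxz,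
      polar_comm Q z y, hyz] at this
    refine mul_left_cancel₀ (show 2 * Q z ≠ 0 from fun h0 => hz0 (Subtype.ext (show z = 0 from hQ z fun u => by
      obtain ⟨a, b, c, rfl⟩ := hdec u
      simp only [polar_add_right, polar_smul_right', polar_comm Q z x, polar_comm Q z y, hxz, hyz,
        polar_self', h0]
      ring))) ?_
    linear_combination this
  refine ⟨d, fun u => ?_⟩
  obtain ⟨p, q, r, rfl⟩ := hdec u
  rw [map_add, map_add, map_smul, map_smul, map_smul, ha, hb, hzc, e1, e2, e3]
  module

/-- An isometry of odd dimension without singular `x` with `B (h x) x ≠ 0`. -/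
theorem tail_form (hQ : Nondeg Q) (h2 : (2 : F) ≠ 0) {m : ℕ} (hn : finrank F V = 2 * m + 1)
    (h : V →ₗ[F] V) (hh : ∀ x, Q (h x) = Q x) (hs : ∀ x, Q x = 0 → polar Q (h x) x = 0) :
    h.det * h.det = 1 ∧ ∀ x, Q (h x - h.det • x) = 0 := by
  obtain ⟨hsq, w, hw0, hw⟩ := exists_eigen hQ h2 ⟨m, hn⟩ h hh
  refine ⟨hsq, ?_⟩
  rcases Nat.lt_or_ge m 2 with hm | hm
  · obtain ⟨c, hc⟩ := tail_small hQ (by omega) hn h hh hs
    have : c = h.det := by
      have h' := hw
      rw [hc] at h'
      exact smul_left_injective F hw0 h'
    intro x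
    rw [hc, this, sub_self, QuadraticMap.map_zero]
  obtain ⟨c, hc⟩ := quad_scalar hQ h2 (by omega) h hs
  have hB : ∀ u v, polar Q (h u) (h v) = polar Q u v := fun u v => by
    simp only [polar, ← map_add, hh]
  have hpol : ∀ u v, polar Q (h u) v + polar Q (h v) u = c * polar Q u v := by
    intro u v
    have e := hc (u + v)
    rw [map_add, polar_add_left, polar_add_right, polar_add_right, map_add_polar, hc u, hc v] at e
    linear_combination e
  have hδ : h.det ≠ 0 := left_ne_zero_of_mul (hsq.trans_ne one_ne_zero)
  have hcv : c = 2 * h.det := by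
    obtain ⟨v, hv⟩ := hQ.exists_polar_eq hw0 1
    have e1 := hpol w v
    rw [hw, polar_smul_left', hv] at e1
    have e2 : polar Q (h v) w = h.det := by
      refine mul_left_cancel₀ hδ ?_
      rw [← polar_smul_right', ← hw, hB, polar_comm, hv, hsq]
    linear_combination e2 - e1
  intro x
  rw [qmap_sub, qmap_smul, polar_smul_right', hh, hc, hcv]
  linear_combination (-Q x) * hsq

end Cfsg.Agent.H58.OreOmega
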