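import Cfsg.Agent.H58.OreOmega.Krylov
import Cfsg.Agent.Orthogonal.Spinor

/-!
The Krylov frame of an element of determinant one.
-/

set_option autoImplicit false
set_option linter.unusedSectionVars false

namespace Cfsg.Agent.H58.OreOmega

open Cfsg.Agent.Orthogonal Module
open QuadraticMap (polar polar_comm polar_add_left polar_add_right polar_sub_left polar_sub_right)

variable {F V : Type*} [Field F] [Finite F] [AddCommGroup V] [Module F V] [FiniteDimensional F V]
variable {Q : QuadraticForm F V}

theorem polar_sum_right {ι : Type*} (s : Finset ι) (u : V) (v : ι → V) :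
    polar Q u (∑ i ∈ s, v i) = ∑ i ∈ s, polar Q u (v i) := by
  simp only [← polarBilin_apply', map_sum]

theorem polar_sum_left {ι : Type*} (s : Finset ι) (u : V) (v : ι → V) :
    polar Q (∑ i ∈ s, v i) u = ∑ i ∈ s, polar Q (v i) u := by
  simp only [← polarBilin_apply', map_sum, LinearMap.sum_apply]

theorem frame_comp {k l : ℕ} {e f : Fin k → V} (h : IsFrame Q e f) (σ : Fin l → Fin k)
    (hσ : Function.Injective σ) : IsFrame Q (e ∘ σ) (f ∘ σ) :=
  ⟨fun i => h.qe _, fun i => h.qf _,
    fun i j => by simp only [Function.comp, h.ef, hσ.eq_iff],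
    fun i j => h.ee _ _, fun i j => h.ff _ _⟩

theorem frame_append {k m : ℕ} {x y : Fin k → V} (h : IsFrame Q x y) {e f : Fin m → V}
    (h' : IsFrame Q e f) (he : ∀ i, e i ∈ IsFrame.kernel Q x y)
    (hf : ∀ i, f i ∈ IsFrame.kernel Q x y) :
    IsFrame Q (Fin.append x e) (Fin.append y f) := by
  have e1 := fun i j => (IsFrame.mem_kernel.1 (he i)).1 j
  have e2 := fun i j => (IsFrame.mem_kernel.1 (he i)).2 j
  have f1 := fun i j => (IsFrame.mem_kernel.1 (hf i)).1 j
  have f2 := fun i j => (IsFrame.mem_kernel.1 (hf i)).2 j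
  have hne : ∀ (a : Fin k) (b : Fin m), Fin.castAdd m a ≠ Fin.natAdd k b := fun a b hab => by
    have := congrArg Fin.val hab
    simp at this; omega
  refine ⟨?_, ?_, ?_, ?_, ?_⟩
  · intro i; induction i using Fin.addCases <;> simp [h.qe, h'.qe]
  · intro i; induction i using Fin.addCases <;> simp [h.qf, h'.qf]
  · intro i j
    induction i using Fin.addCases <;> induction j using Fin.addCases <;>
      simp [h.ef, h'.ef, e1, e2, f1, f2, hne, (hne _ _).symm, polar_comm Q (e _) (y _)]
  · intro i j
    induction i using Fin.addCases <;> induction j using Fin.addCases <;>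
      simp [h.ee, h'.ee, e1, polar_comm Q (e _) (x _)]
  · intro i j
    induction i using Fin.addCases <;> induction j using Fin.addCases <;>
      simp [h.ff, h'.ff, f2, polar_comm Q (f _) (y _)]

/-- The partial state of the recursion. -/
def Part (g : O Q) (k : ℕ) (x y : Fin k → V) : Prop :=
  IsFrame Q x y ∧
    (∀ j : Fin k, ∃ c : Fin k → F, (g : V ≃ₗ[F] V) (x j) = ∑ i, c i • y i ∧ c j ≠ 0 ∧
      ∀ i : Fin k, j.val < i.val → c i = 0) ∧
    ∀ w ∈ IsFrame.kernel Q x y, ∀ i, polar Q ((g : V ≃ₗ[F] V) w) (y i) = 0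

theorem exists_part (g : O Q) : ∃ (k : ℕ) (x y : Fin k → V), Part g k x y ∧
    ∀ u ∈ IsFrame.kernel Q x y, Q u = 0 → polar Q ((g : V ≃ₗ[F] V) u) u = 0 := by
  suffices ∀ (d k : ℕ) (x y : Fin k → V), Part g k x y → finrank F V ≤ 2 * k + d →
      ∃ (k : ℕ) (x y : Fin k → V), Part g k x y ∧
        ∀ u ∈ IsFrame.kernel Q x y, Q u = 0 → polar Q ((g : V ≃ₗ[F] V) u) u = 0 from
    this (finrank F V) 0 ![] ![] ⟨⟨fun i => i.elim0, fun i => i.elim0, fun i => i.elim0,
      fun i => i.elim0, fun i => i.elim0⟩, fun i => i.elim0, fun _ _ i => i.elim0⟩ (by omega)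
  intro d
  induction d using Nat.strong_induction_on with
  | _ d ih =>
    intro k x y hP hd
    by_cases hK : ∀ u ∈ IsFrame.kernel Q x y, Q u = 0 → polar Q ((g : V ≃ₗ[F] V) u) u = 0
    · exact ⟨k, x, y, hP, hK⟩
    push Not at hK
    obtain ⟨u, hu, hQu, hβ⟩ := hK
    obtain ⟨hfr, hcol, hker⟩ := hP
    set G : V ≃ₗ[F] V := (g : V ≃ₗ[F] V) with hG
    set β := polar Q (G u) u with hβdef
    set c : Fin k → F := fun i => polar Q (x i) (G u) with hc
    set v : V := β⁻¹ • (G u - ∑ i, c i • y i) with hv
    have hu' := IsFrame.mem_kernel.1 hu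
    have hvk : v ∈ IsFrame.kernel Q x y := by
      refine IsFrame.mem_kernel.2 ⟨fun i => ?_, fun i => ?_⟩
      · rw [hv, polar_smul_right', polar_sub_right, polar_sum_right]
        simp [polar_smul_right', hfr.ef, hc]
      · rw [hv, polar_smul_right', polar_sub_right, polar_sum_right]
        simp [polar_smul_right', hfr.ff, polar_comm Q (y i) (G u), hker u hu i]
    have hgy : ∀ w ∈ IsFrame.kernel Q x y, polar Q w (∑ i, c i • y i) = 0 := fun w hw => by
      rw [polar_sum_right]
      refine Finset.sum_eq_zero fun i _ => ?_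
      rw [polar_smul_right', polar_comm, (IsFrame.mem_kernel.1 hw).2 i, mul_zero]
    have hQv : Q v = 0 := by
      have hs : Q (∑ i, c i • y i) = 0 := by
        have : ∀ s : Finset (Fin k), Q (∑ i ∈ s, c i • y i) = 0 := fun s => by
          induction s using Finset.induction_on with
          | empty => simp
          | insert a t ha ih' =>
            rw [Finset.sum_insert ha, map_add_polar, qmap_smul, hfr.qf, ih', polar_sum_right]
            simp [polar_smul_left', polar_smul_right', hfr.ff]
        exact this _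
      rw [hv, qmap_smul, qmap_sub, hG, O.map_app, hQu, hs, polar_sum_right]
      simp [polar_smul_right', ← hG, hker u hu]
    have huv : polar Q u v = 1 := by
      rw [hv, polar_smul_right', polar_sub_right, hgy u hu, sub_zero, polar_comm, ← hβdef,
        inv_mul_cancel₀ hβ]
    have hfr' : IsFrame Q (Fin.append x fun _ : Fin 1 => u) (Fin.append y fun _ : Fin 1 => v) := by
      refine frame_append hfr ⟨fun _ => hQu, fun _ => hQv, fun i j => ?_, fun i j => ?_, fun i j => ?_⟩
        (fun _ => hu) (fun _ => hvk)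
      · simp [Subsingleton.elim i j, huv]
      · rw [polar_self', hQu, mul_zero]
      · rw [polar_self', hQv, mul_zero]
    refine ih (d - 2) ?_ (k + 1) _ _ ⟨hfr', ?_, ?_⟩ (by omega)
    · have := hfr'.finrank_kernel (Q := Q)
      have h2k : 2 * (k + 1) ≤ finrank F V := by
        have h1 := Submodule.finrank_le (IsFrame.hspan (F := F) (Fin.append x fun _ : Fin 1 => u)
          (Fin.append y fun _ : Fin 1 => v))
        rwa [hfr'.finrank_hspan] at h1
      omega
    · intro j
      induction j using Fin.addCases with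
      | left j =>
        obtain ⟨a, ha, haj, hai⟩ := hcol j
        refine ⟨Fin.append a (fun _ : Fin 1 => 0), ?_, by simpa using haj, fun i hi => ?_⟩
        · simp [Fin.sum_univ_add, ← hG, ha]
        · induction i using Fin.addCases with
          | left i => simpa using hai i (by simpa using hi)
          | right i => simp
      | right j =>
        obtain rfl : j = 0 := Subsingleton.elim _ _
        refine ⟨Fin.append c (fun _ : Fin 1 => β), ?_, by simpa using hβ, fun i hi => ?_⟩
        · simp only [Fin.sum_univ_add, Fin.append_left, Fin.append_right, Finset.univ_unique,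
            Finset.sum_singleton, ← hG, hv, smul_smul, mul_inv_cancel₀ hβ, one_smul]
          abel
        · have := i.isLt
          simp at hi; omega
    · intro w hw i
      obtain ⟨h1, h2⟩ := IsFrame.mem_kernel.1 hw
      have hwk : w ∈ IsFrame.kernel Q x y := IsFrame.mem_kernel.2
        ⟨fun i => by simpa using h1 (Fin.castAdd 1 i), fun i => by simpa using h2 (Fin.castAdd 1 i)⟩
      induction i using Fin.addCases with
      | left i => simpa using hker w hwk i
      | right i =>
        have hwu : polar Q w u = 0 := by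
          rw [polar_comm]; simpa using h1 (Fin.natAdd k 0)
        have hz : polar Q (G w) (∑ i, c i • y i) = 0 := by
          rw [polar_sum_right]
          exact Finset.sum_eq_zero fun i _ => by rw [polar_smul_right', hker w hwk i, mul_zero]
        rw [Fin.append_right, ← hG, hv, polar_smul_right', polar_sub_right, hz,
          polar_map_of_mem g.2, hwu, sub_zero, mul_zero]

/-- A frame whose `e`-part meets the complement of a hyperplane. -/
theorem frame_steer (h2 : (2 : F) ≠ 0) (hQ : Nondeg Q) {m : ℕ} (hn : finrank F V = 2 * (m + 1) + 1)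
    {e f : Fin (m + 1) → V} (h : IsFrame Q e f) (γ : V →ₗ[F] F) (hγ : γ ≠ 0) :
    ∃ e' f' : Fin (m + 1) → V, IsFrame Q e' f' ∧ γ (e' 0) ≠ 0 ∧
      Submodule.span F (Set.range f') = Submodule.span F (Set.range f) := by
  have swap : ∀ e' f' : Fin (m + 1) → V, IsFrame Q e' f' →
      Submodule.span F (Set.range f') = Submodule.span F (Set.range f) → ∀ c, γ (e' c) ≠ 0 →
      ∃ e'' f'' : Fin (m + 1) → V, IsFrame Q e'' f'' ∧ γ (e'' 0) ≠ 0 ∧
        Submodule.span F (Set.range f'') = Submodule.span F (Set.range f) := by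
    intro e' f' h' hsp c hc
    refine ⟨e' ∘ Equiv.swap 0 c, f' ∘ Equiv.swap 0 c, frame_comp h' _ (Equiv.injective _),
      by simpa using hc, ?_⟩
    rw [(Equiv.swap 0 c).surjective.range_comp, hsp]
  by_cases he : ∀ i, γ (e i) = 0
  swap
  · push Not at he
    obtain ⟨c, hc⟩ := he
    exact swap e f h rfl c hc
  by_cases hf : ∀ i, γ (f i) = 0
  · -- then `γ` is non-zero on the kernel
    have hK : finrank F (IsFrame.kernel Q e f) = 1 := by have := h.finrank_kernel hQ; omega
    obtain ⟨z', hz0, hzsp⟩ := finrank_eq_one_iff'.1 hK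
    have hzk := IsFrame.mem_kernel.1 z'.2
    have hγz : γ z' ≠ 0 := by
      intro h0
      refine hγ (LinearMap.ext fun u => ?_)
      obtain ⟨a, ha, b, hb, rfl⟩ := Submodule.mem_sup.1
        (show u ∈ IsFrame.hspan (F := F) e f ⊔ IsFrame.kernel Q e f by
          rw [(h.isCompl_kernel hQ).sup_eq_top]; trivial)
      obtain ⟨r, hr⟩ := hzsp ⟨b, hb⟩
      have hb0 : γ b = 0 := by
        rw [← show r • (z' : V) = b from congrArg Subtype.val hr, map_smul, h0, smul_zero]
      have ha0 : γ a = 0 := by
        obtain ⟨t, rfl⟩ := (Submodule.mem_span_range_iff_exists_fun F).1 ha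
        simp [Fintype.sum_sum_type, he, hf]
      simp [ha0, hb0]
    set q := Q (z' : V) with hq
    set e' : Fin (m + 1) → V := Function.update e 0 (e 0 + (z' : V) - q • f 0) with he'
    have h0 : e' 0 = e 0 + (z' : V) - q • f 0 := Function.update_self _ _ _
    have hi : ∀ i, i ≠ 0 → e' i = e i := fun i hi => Function.update_of_ne hi _ _
    have hfr : IsFrame Q e' f := by
      refine ⟨fun i => ?_, h.qf, fun i j => ?_, fun i j => ?_, h.ff⟩
      · by_cases hi0 : i = 0
        · subst hi0
          rw [h0, qmap_sub, map_add_polar, qmap_smul, polar_add_left, polar_smul_right',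
            polar_smul_right', h.qe, h.qf, h.ef, hzk.1 0, polar_comm Q (z' : V) (f 0), hzk.2 0,
            if_pos rfl, ← hq]
          ring
        · rw [hi i hi0, h.qe]
      · by_cases hi0 : i = 0
        · subst hi0
          rw [h0, polar_sub_left, polar_add_left, polar_smul_left', h.ef, h.ff,
            polar_comm Q (z' : V) (f j), hzk.2 j]
          ring
        · rw [hi i hi0, h.ef]
      · have key : ∀ j, j ≠ 0 → polar Q (e' 0) (e j) = 0 := fun j hj => by
          rw [h0, polar_sub_left, polar_add_left, polar_smul_left', h.ee,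
            polar_comm Q (z' : V) (e j), hzk.1 j, IsFrame.fe h, if_neg (Ne.symm hj)]
          ring
        by_cases hi0 : i = 0 <;> by_cases hj0 : j = 0
        · subst hi0 hj0
          rw [polar_self', h0, qmap_sub, map_add_polar, qmap_smul, polar_add_left, polar_smul_right',
            polar_smul_right', h.qe, h.qf, h.ef, hzk.1 0, polar_comm Q (z' : V) (f 0), hzk.2 0,
            if_pos rfl, ← hq]
          ring
        · subst hi0; rw [hi j hj0]; exact key j hj0
        · subst hj0; rw [hi i hi0, polar_comm]; exact key i hi0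
        · rw [hi i hi0, hi j hj0, h.ee]
    exact swap e' f hfr rfl 0 (by
      rw [h0, map_sub, map_add, map_smul, he, hf, smul_zero, sub_zero, zero_add]; exact hγz)
  push Not at hf
  obtain ⟨c, hc⟩ := hf
  rcases Nat.eq_zero_or_pos m with rfl | hm
  · -- one pair: move `e 0` along the kernel
    obtain rfl : c = 0 := Subsingleton.elim (α := Fin 1) _ _
    have hK : finrank F (IsFrame.kernel Q e f) = 1 := by have := h.finrank_kernel hQ; omega
    obtain ⟨z', hz0, hzsp⟩ := finrank_eq_one_iff'.1 hK
    have hzk := IsFrame.mem_kernel.1 z'.2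
    have hQz : Q (z' : V) ≠ 0 := by
      intro h0
      refine hz0 (Subtype.ext ?_)
      have : (z' : V) ∈ IsFrame.kernel Q e f := z'.2
      have hn' := h.nondeg_kernel hQ z' fun u => by
        obtain ⟨r, rfl⟩ := hzsp u
        rw [polar_smul_right', polar_self', restr_apply, h0]
        ring
      rw [hn']
    obtain ⟨s, hs, hsne⟩ : ∃ s : F, (s = 1 ∨ s = -1) ∧
        γ (e 0 + s • (z' : V) - Q (z' : V) • f 0) ≠ 0 := by
      by_contra hh
      push Not at hh
      have a1 := hh 1 (Or.inl rfl)
      have a2 := hh (-1) (Or.inr rfl)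
      simp only [map_sub, map_add, map_smul, he, smul_eq_mul] at a1 a2
      have h3 : 2 * (Q (z' : V) * γ (f 0)) = 0 := by linear_combination -a1 - a2
      exact mul_ne_zero hQz hc ((mul_eq_zero.1 h3).resolve_left h2)
    have hss : s * s = 1 := by rcases hs with rfl | rfl <;> ring
    refine ⟨fun _ => e 0 + s • (z' : V) - Q (z' : V) • f 0, f, ⟨fun i => ?_, h.qf, fun i j => ?_,
      fun i j => ?_, h.ff⟩, hsne, rfl⟩
    · simp only [qmap_sub, map_add_polar, qmap_smul, polar_add_left, polar_smul_left',
        polar_smul_right', h.qe, h.qf, h.ef, if_true, hzk.1 0, polar_comm Q (z' : V) (f 0), hzk.2 0]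
      linear_combination Q (z' : V) * hss
    · rw [Subsingleton.elim (α := Fin 1) i 0, Subsingleton.elim (α := Fin 1) j 0, polar_sub_left,
        polar_add_left, polar_smul_left', polar_smul_left', h.ef, h.ff,
        polar_comm Q (z' : V) (f 0), hzk.2 0]
      ring
    · simp only [qmap_sub, map_add_polar, qmap_smul, polar_add_left, polar_smul_left',
        polar_smul_right', polar_self', h.qe, h.qf, h.ef, if_true, hzk.1 0,
        polar_comm Q (z' : V) (f 0), hzk.2 0]
      linear_combination 2 * Q (z' : V) * hss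
  · -- two pairs: an alternating shear
    obtain ⟨d, hd⟩ : ∃ d : Fin (m + 1), d ≠ c := by
      by_cases h0 : c = 0
      · exact ⟨⟨1, by omega⟩, by rw [h0]; simp [Fin.ext_iff]⟩
      · exact ⟨0, Ne.symm h0⟩
    set e' : Fin (m + 1) → V := Function.update (Function.update e d (e d + f c)) c (e c - f d)
      with he'
    have ec : e' c = e c - f d := Function.update_self _ _ _
    have ed : e' d = e d + f c := by
      rw [he', Function.update_of_ne hd, Function.update_self]
    have eo : ∀ i, i ≠ c → i ≠ d → e' i = e i := fun i h1 h2 => by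
      rw [he', Function.update_of_ne h1, Function.update_of_ne h2]
    have hform : ∀ i, ∃ (j : Fin (m + 1)) (s : F), e' i = e i + s • f j ∧
        ((i ≠ c ∧ i ≠ d ∧ s = 0) ∨ (i = d ∧ j = c ∧ s = 1) ∨ (i = c ∧ j = d ∧ s = -1)) := fun i => by
      by_cases hic : i = c
      · exact ⟨d, -1, by rw [hic, ec, neg_one_smul, sub_eq_add_neg], Or.inr (Or.inr ⟨hic, rfl, rfl⟩)⟩
      by_cases hid : i = d
      · exact ⟨c, 1, by rw [hid, ed, one_smul], Or.inr (Or.inl ⟨hid, rfl, rfl⟩)⟩
      exact ⟨c, 0, by rw [eo i hic hid, zero_smul, add_zero], Or.inl ⟨hic, hid, rfl⟩⟩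
    have hfr : IsFrame Q e' f := by
      refine ⟨fun i => ?_, h.qf, fun i j => ?_, fun i j => ?_, h.ff⟩
      · obtain ⟨j, s, hej, hs⟩ := hform i
        rw [hej, map_add_polar, qmap_smul, polar_smul_right', h.qe, h.qf, h.ef]
        rcases hs with ⟨-, -, rfl⟩ | ⟨hi, hj, rfl⟩ | ⟨hi, hj, rfl⟩ <;> simp [*, hd.symm]
      · obtain ⟨l, s, hej, -⟩ := hform i
        rw [hej, polar_add_left, polar_smul_left', h.ef, h.ff, mul_zero, add_zero]
      · obtain ⟨a, s, hei, hs⟩ := hform i
        obtain ⟨b, t, hej, ht⟩ := hform j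
        rw [hei, hej]
        simp only [polar_add_left, polar_add_right, polar_smul_left', polar_smul_right', h.ee, h.ef,
          IsFrame.fe h, h.ff]
        rcases hs with ⟨i1, i2, rfl⟩ | ⟨hi, ha, rfl⟩ | ⟨hi, ha, rfl⟩ <;>
          rcases ht with ⟨j1, j2, rfl⟩ | ⟨hj, hb, rfl⟩ | ⟨hj, hb, rfl⟩ <;>
          simp_all [hd.symm, Ne.symm]
    exact swap e' f hfr rfl d (by rw [ed, map_add, he, zero_add]; exact hc)

/-- The tail of the recursion. -/
theorem tail_frame (hQ : Nondeg Q) (h2 : (2 : F) ≠ 0) {m : ℕ} (hn : finrank F V = 2 * m + 1)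
    (h : V →ₗ[F] V) (hh : ∀ x, Q (h x) = Q x) (hs : ∀ x, Q x = 0 → polar Q (h x) x = 0) :
    ∃ e f : Fin m → V, IsFrame Q e f ∧
      ∀ u, h u - h.det • u ∈ Submodule.span F (Set.range f) := by
  obtain ⟨hsq, hform⟩ := tail_form hQ h2 hn h hh hs
  obtain ⟨e, f, hfr⟩ := frame_of_dim hQ hn
  let u : V →ₗ[F] V := h - h.det • LinearMap.id
  have hU : TotSing Q (LinearMap.range u) := by
    rintro w ⟨v, rfl⟩
    simpa [u] using hform v
  have hS : TotSing Q (Submodule.span F (Set.range f)) := by
    intro w hw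
    obtain ⟨c, rfl⟩ := (Submodule.mem_span_range_iff_exists_fun F).1 hw
    have : ∀ s : Finset (Fin m), Q (∑ i ∈ s, c i • f i) = 0 := fun s => by
      induction s using Finset.induction_on with
      | empty => simp
      | insert a t ha ih =>
        rw [Finset.sum_insert ha, map_add_polar, qmap_smul, hfr.qf, ih, polar_sum_right]
        simp [polar_smul_left', polar_smul_right', hfr.ff]
    exact this _
  have hdim : finrank F (Submodule.span F (Set.range f)) = m := by
    rw [finrank_span_eq_card, Fintype.card_fin]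
    exact hfr.linearIndependent.comp _ Sum.inr_injective
  have hle := hU.two_mul_finrank_le hQ
  obtain ⟨g0, hg0⟩ := hU.exists_map_le hQ hS (by omega)
  let G : V ≃ₗ[F] V := ((g0⁻¹ : O Q) : V ≃ₗ[F] V)
  refine ⟨fun i => G (e i), fun i => G (f i), ⟨fun i => ?_, fun i => ?_, fun i j => ?_,
    fun i j => ?_, fun i j => ?_⟩, fun v => ?_⟩
  · simp only [G, O.map_app]; exact hfr.qe i
  · simp only [G, O.map_app]; exact hfr.qf i
  · simp only [G, O.polar_app]; exact hfr.ef i j
  · simp only [G, O.polar_app]; exact hfr.ee i j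
  · simp only [G, O.polar_app]; exact hfr.ff i j
  · have h1 := hg0 ⟨_, LinearMap.mem_range_self u v, rfl⟩
    rw [Set.range_comp' (fun x => G x) f,
      show (fun x => G x) = ⇑(G : V →ₗ[F] V) from rfl, Submodule.span_image]
    refine ⟨_, h1, ?_⟩
    show ((g0⁻¹ : O Q) : V ≃ₗ[F] V) ((g0 : V ≃ₗ[F] V) (u v)) = _
    rw [← mul_app, ← Subgroup.coe_mul, inv_mul_cancel]
    rfl

/-- The data of the recursion. -/
def Kry (g : O Q) (k m : ℕ) (x y : Fin (k + m) → V) (N : Fin (k + m) → Fin (k + m) → F) (ε : F) :
    Prop :=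
  IsFrame Q x y ∧
    (∀ j, (g : V ≃ₗ[F] V) (x j) = (if k ≤ j.val then ε • x j else 0) + ∑ l, N l j • y l) ∧
    (∀ l j : Fin (k + m), j.val < k → j.val < l.val → N l j = 0) ∧
    (∀ j : Fin (k + m), j.val < k → N j j ≠ 0) ∧
    ∀ j : Fin (k + m), k ≤ j.val → N j j = 0

theorem exists_krylov (hQ : Nondeg Q) (h2 : (2 : F) ≠ 0) {n : ℕ} (hn : finrank F V = 2 * n + 1)
    (g : O Q) (hdet : LinearMap.det ((g : V ≃ₗ[F] V) : V →ₗ[F] V) = 1) :
    ∃ (k m : ℕ) (x y : Fin (k + m) → V) (N : Fin (k + m) → Fin (k + m) → F) (ε : F),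
      k + m = n ∧ ε * ε = 1 ∧ Kry g k m x y N ε ∧ (k = 0 → ε = 1) ∧
      (k = 1 → ε = 1 → 0 < m →
        ∃ (l0 : Fin (k + m)) (j : Fin (k + m)), l0.val = 0 ∧ j.val = 1 ∧ N l0 j ≠ 0) := by
  obtain ⟨k, x, y, ⟨hfr, hcol, hker⟩, hsing⟩ := exists_part g
  set G : V ≃ₗ[F] V := (g : V ≃ₗ[F] V) with hG
  have hr := hfr.finrank_kernel hQ
  obtain ⟨m, hm⟩ : ∃ m, n = k + m := ⟨n - k, by omega⟩
  set W := IsFrame.kernel Q x y with hW
  have hWn := hfr.nondeg_kernel hQ
  let L : V →ₗ[F] V := (G : V →ₗ[F] V) -
    ∑ i, (((Q.polarBilin (x i)).comp (G : V →ₗ[F] V)).smulRight (y i))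
  have hL : ∀ v, L v = G v - ∑ i, polar Q (x i) (G v) • y i := fun v => by
    simp [L, polarBilin_apply', LinearMap.sum_apply]
  have hLW : ∀ w ∈ W, L w ∈ W := fun w hw => by
    refine IsFrame.mem_kernel.2 ⟨fun i => ?_, fun i => ?_⟩
    · rw [hL, polar_sub_right, polar_sum_right]
      simp [polar_smul_right', hfr.ef]
    · rw [hL, polar_sub_right, polar_sum_right]
      simp [polar_smul_right', hfr.ff, polar_comm Q (y i) (G w), hker w hw i]
  let h : W →ₗ[F] W := (L.comp W.subtype).codRestrict W fun w => hLW w w.2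
  have hh' : ∀ w : W, ((h w : W) : V) = G w - ∑ i, polar Q (x i) (G w) • y i := fun w => hL w
  have hsum0 : ∀ c : Fin k → F, Q (∑ i, c i • y i) = 0 := fun c => by
    have : ∀ s : Finset (Fin k), Q (∑ i ∈ s, c i • y i) = 0 := fun s => by
      induction s using Finset.induction_on with
      | empty => simp
      | insert a t ha ih =>
        rw [Finset.sum_insert ha, map_add_polar, qmap_smul, hfr.qf, ih, polar_sum_right]
        simp [polar_smul_left', polar_smul_right', hfr.ff]
    exact this _
  have hperp : ∀ w : W, ∀ c : Fin k → F, polar Q (G w) (∑ i, c i • y i) = 0 := fun w c => by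
    rw [polar_sum_right]
    exact Finset.sum_eq_zero fun i _ => by rw [polar_smul_right', hker w w.2 i, mul_zero]
  have hhQ : ∀ w : W, restr Q W (h w) = restr Q W w := fun w => by
    rw [restr_apply, restr_apply, hh', qmap_sub, hsum0, hperp, add_zero, sub_zero, hG, O.map_app]
  have hyw : ∀ (w : W) (c : Fin k → F), polar Q (∑ i, c i • y i) (w : V) = 0 := fun w c => by
    rw [polar_sum_left]
    exact Finset.sum_eq_zero fun i _ => by
      rw [polar_smul_left', (IsFrame.mem_kernel.1 w.2).2 i, mul_zero]
  have hpolh : ∀ w v : W, polar (restr Q W) (h w) v = polar Q (G w) (v : V) := fun w v => by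
    rw [polar_restr, hh', polar_sub_left, hyw, sub_zero]
  have hs : ∀ w : W, restr Q W w = 0 → polar (restr Q W) (h w) w = 0 := fun w hw => by
    rw [hpolh]; exact hsing w w.2 hw
  have hWdim : finrank F W = 2 * m + 1 := by omega
  obtain ⟨e, f, hef, himg⟩ := tail_frame hWn h2 hWdim h hhQ hs
  obtain ⟨hsq, hform⟩ := tail_form hWn h2 hWdim h hhQ hs
  set ε := h.det with hε
  have hk0 : k = 0 → ε = 1 := by
    intro hk
    subst hk
    have htop : W = ⊤ := Submodule.eq_top_of_finrank_eq (by omega)
    let eW : W ≃ₗ[F] V := LinearEquiv.ofTop W htop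
    have hconj : ((eW : W →ₗ[F] V).comp h).comp (eW.symm : V →ₗ[F] W) = (G : V →ₗ[F] V) := by
      refine LinearMap.ext fun v => ?_
      simp only [LinearMap.comp_apply, LinearEquiv.coe_coe]
      show ((h (eW.symm v) : W) : V) = G v
      rw [hh']
      simp [eW]
    rw [hε, ← LinearMap.det_conj h eW, ← hdet, ← hconj, LinearMap.comp_assoc]
  -- steering
  obtain ⟨e, f, hef, himg, hsteer⟩ : ∃ e f : Fin m → W, IsFrame (restr Q W) e f ∧
      (∀ u, h u - ε • u ∈ Submodule.span F (Set.range f)) ∧
      (k = 1 → ε = 1 → ∀ hm : 0 < m, ∃ i0 : Fin k, polar Q (x i0) (G (e ⟨0, hm⟩)) ≠ 0) := by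
    by_cases hc : k = 1 ∧ ε = 1 ∧ 0 < m
    swap
    · exact ⟨e, f, hef, himg, fun a b c => absurd ⟨a, b, c⟩ hc⟩
    obtain ⟨hk1, hε1, hm0⟩ := hc
    subst hk1
    obtain ⟨m', rfl⟩ : ∃ m', m = m' + 1 := ⟨m - 1, by omega⟩
    let γ : W →ₗ[F] F := ((Q.polarBilin (x 0)).comp (G : V →ₗ[F] V)).comp W.subtype
    have hγ : γ ≠ 0 := by
      intro hγ0
      have hG0 : ∀ w : W, G w = ((h w : W) : V) := fun w => by
        rw [hh', Fin.sum_univ_one]
        have : polar Q (x 0) (G w) = 0 := LinearMap.congr_fun hγ0 w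
        rw [this, zero_smul, sub_zero]
      obtain ⟨c, hcx, hc0, -⟩ := hcol 0
      rw [Fin.sum_univ_one] at hcx
      set β := c 0 with hβ
      set v := x 0 - β • y 0 with hv
      have hQx : Q (x 0) = 0 := hfr.qe 0
      have hQy : Q (y 0) = 0 := hfr.qf 0
      have hxy : polar Q (x 0) (y 0) = 1 := by simpa using hfr.ef 0 0
      have hQv : Q v = -β := by
        rw [hv, qmap_sub, qmap_smul, polar_smul_right', hQx, hQy, hxy]; ring
      have hQv0 : Q v ≠ 0 := by rw [hQv]; exact neg_ne_zero.2 hc0
      set g' : O Q := rO Q v * g with hg'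
      have hg'x : (g' : V ≃ₗ[F] V) (x 0) = x 0 := by
        rw [hg', Subgroup.coe_mul, mul_app, ← hG, hcx, rO_app, polar_smul_right', hv,
          polar_sub_left, polar_smul_left', hxy, polar_self', hQy, ← hv, hQv]
        rw [show (-β)⁻¹ * (β * (1 - β * (2 * 0))) = (-1 : F) by field_simp; ring, hv]
        module
      have hg'W : ∀ w : W, (g' : V ≃ₗ[F] V) w = ((h w : W) : V) := fun w => by
        rw [hg', Subgroup.coe_mul, mul_app, ← hG, hG0, rO_fix]
        have hk := IsFrame.mem_kernel.1 (h w).2
        rw [hv, polar_sub_left, polar_smul_left', hk.1 0, hk.2 0]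
        ring
      have hdet' : LinearMap.det ((g' : V ≃ₗ[F] V) : V →ₗ[F] V) = -1 := by
        have h1 : detSign Q hQ h2 g' = -1 := by
          rw [hg', map_mul, detSign_rO hQ h2 hQv0, (detSign_eq_one_iff hQ h2 g).2 hdet]; rfl
        obtain ⟨hsq', -⟩ := exists_eigen hQ h2 ⟨n, hn⟩ ((g' : V ≃ₗ[F] V) : V →ₗ[F] V)
          (fun z => O.map_app g' z)
        rcases mul_self_eq_one_iff.1 hsq' with h' | h'
        · rw [(detSign_eq_one_iff hQ h2 g').2 h'] at h1
          exact absurd h1 (by decide)
        · exact h'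
      obtain ⟨-, w, hw0, hw⟩ := exists_eigen hQ h2 ⟨n, hn⟩ ((g' : V ≃ₗ[F] V) : V →ₗ[F] V)
        (fun z => O.map_app g' z)
      rw [hdet', neg_one_smul] at hw
      replace hw : (g' : V ≃ₗ[F] V) w = -w := hw
      have hwx : polar Q (x 0) w = 0 := by
        have := O.polar_app g' (x 0) w
        rw [hg'x, hw, QuadraticMap.polar_neg_right] at this
        have e2 : 2 * polar Q (x 0) w = 0 := by linear_combination -this
        exact (mul_eq_zero.1 e2).resolve_left h2
      -- decompose `w`
      set t := w - polar Q w (y 0) • x 0 with ht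
      have htW : t ∈ W := by
        refine IsFrame.mem_kernel.2 ⟨fun i => ?_, fun i => ?_⟩ <;>
          obtain rfl : i = 0 := Subsingleton.elim _ _
        · rw [ht, polar_sub_right, polar_smul_right', polar_self', hQx, hwx]; ring
        · rw [ht, polar_sub_right, polar_smul_right', polar_comm Q (y 0) (x 0), hxy,
            polar_comm Q (y 0) w]; ring
      set a := polar Q w (y 0) with ha
      have hwdec : w = a • x 0 + t := by rw [ht]; abel
      have himgw : a • x 0 + ((h ⟨t, htW⟩ : W) : V) = -(a • x 0 + t) := by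
        rw [← hwdec, ← hw]
        conv_rhs => rw [hwdec, map_add, map_smul, hg'x, hg'W ⟨t, htW⟩]
      have ha0 : a = 0 := by
        have := congrArg (fun z => polar Q (y 0) z) himgw
        simp only [polar_add_right, polar_smul_right', QuadraticMap.polar_neg_right,
          (IsFrame.mem_kernel.1 (h ⟨t, htW⟩).2).2 0, (IsFrame.mem_kernel.1 htW).2 0,
          polar_comm Q (y 0) (x 0), hxy, mul_one, add_zero] at this
        have e2 : 2 * a = 0 := by linear_combination this
        exact (mul_eq_zero.1 e2).resolve_left h2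
      set t' : W := ⟨t, htW⟩ with ht'
      have hht : h t' = -t' := Subtype.ext (by
        rw [ha0, zero_smul, zero_add, zero_add] at himgw
        exact himgw)
      refine hw0 ?_
      rw [hwdec, ha0, zero_smul, zero_add]
      have ht0 : t' = 0 := by
        refine hWn t' fun v => ?_
        have hB : ∀ a b : W, polar (restr Q W) (h a) (h b) = polar (restr Q W) a b := fun a b => by
          simp only [polar, ← map_add, hhQ]
        have hQu := fun a => hform a
        simp only [hε1, one_smul] at hQu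
        have hBu : ∀ a b : W, polar (restr Q W) (h a - a) (h b - b) = 0 := fun a b => by
          have e0 := hQu (a + b)
          rw [show h (a + b) - (a + b) = (h a - a) + (h b - b) by rw [map_add]; abel, map_add_polar,
            hQu, hQu, zero_add, zero_add] at e0
          exact e0
        have e1 := hB t' v
        have e2 := hBu t' v
        rw [hht] at e1 e2
        simp only [polar_sub_left, polar_sub_right, QuadraticMap.polar_neg_left] at e1 e2
        have e3 : 2 * (2 * polar (restr Q W) t' v) = 0 := by linear_combination e2 - 2 * e1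
        exact (mul_eq_zero.1 ((mul_eq_zero.1 e3).resolve_left h2)).resolve_left h2
      exact congrArg Subtype.val ht0
    obtain ⟨e', f', hfr', hne, hsp⟩ := frame_steer h2 hWn hWdim hef γ hγ
    exact ⟨e', f', hfr', fun u => by rw [hsp]; exact himg u, fun _ _ _ => ⟨0, hne⟩⟩
  -- assemble
  have hefV : IsFrame Q (fun i => (e i : V)) (fun i => (f i : V)) :=
    ⟨fun i => hef.qe i, fun i => hef.qf i, fun i j => by rw [← polar_restr]; exact hef.ef i j,
      fun i j => by rw [← polar_restr]; exact hef.ee i j,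
      fun i j => by rw [← polar_restr]; exact hef.ff i j⟩
  have hall := frame_append hfr hefV (fun i => (e i).2) (fun i => (f i).2)
  set X := Fin.append x fun i => (e i : V) with hX
  set Y := Fin.append y fun i => (f i : V) with hY
  set N : Fin (k + m) → Fin (k + m) → F := fun l j =>
    polar Q (X l) (G (X j) - if k ≤ j.val then ε • X j else 0) with hN
  have hspan : ∀ j, G (X j) - (if k ≤ j.val then ε • X j else 0) ∈
      Submodule.span F (Set.range Y) := by
    intro j
    induction j using Fin.addCases with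
    | left j =>
      rw [if_neg (by simp), sub_zero, hX, Fin.append_left]
      obtain ⟨c, hc, -, -⟩ := hcol j
      rw [hc]
      exact Submodule.sum_mem _ fun i _ => Submodule.smul_mem _ _ (Submodule.subset_span
        ⟨Fin.castAdd m i, by simp [hY]⟩)
    | right j =>
      rw [if_pos (by simp), hX, Fin.append_right]
      have e1 : G (e j : V) - ε • (e j : V) = ((h (e j) - ε • e j : W) : V) +
          ∑ i, polar Q (x i) (G (e j : V)) • y i := by
        rw [Submodule.coe_sub, Submodule.coe_smul, hh']; abel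
      rw [e1]
      refine Submodule.add_mem _ ?_ (Submodule.sum_mem _ fun i _ => Submodule.smul_mem _ _
        (Submodule.subset_span ⟨Fin.castAdd m i, by simp [hY]⟩))
      obtain ⟨c, hc⟩ := (Submodule.mem_span_range_iff_exists_fun F).1 (himg (e j))
      rw [← hc, Submodule.coe_sum]
      exact Submodule.sum_mem _ fun i _ => by
        rw [Submodule.coe_smul]
        exact Submodule.smul_mem _ _ (Submodule.subset_span ⟨Fin.natAdd k i, by simp [hY]⟩)
  have heq : ∀ j, G (X j) = (if k ≤ j.val then ε • X j else 0) + ∑ l, N l j • Y l := fun j => by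
    obtain ⟨c, hc⟩ := (Submodule.mem_span_range_iff_exists_fun F).1 (hspan j)
    have hcl : ∀ l, N l j = c l := fun l => by
      simp only [hN]
      rw [← hc, polar_sum_right]
      simp [polar_smul_right', hall.ef]
    rw [Finset.sum_congr rfl fun l _ => by rw [hcl l], hc]
    abel
  have hNe : ∀ l (j : Fin k) (c : Fin k → F), G (x j) = ∑ i, c i • y i →
      N l (Fin.castAdd m j) = if hl : l.val < k then c ⟨l.val, hl⟩ else 0 := by
    intro l j c hc
    simp only [hN]
    rw [if_neg (by simp), sub_zero]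
    induction l using Fin.addCases with
    | left l => simp [hX, hc, polar_sum_right, polar_smul_right', hfr.ef]
    | right l =>
      rw [dif_neg (by simp)]
      simp only [hX, Fin.append_right, Fin.append_left, hc]
      rw [polar_comm, hyw]
  refine ⟨k, m, X, Y, N, ε, hm.symm, hsq, ⟨hall, heq, fun l j hj hlt => ?_, fun j hj => ?_,
    fun j hj => ?_⟩, hk0, fun a b c => ?_⟩
  · obtain ⟨j, rfl⟩ : ∃ j' : Fin k, Fin.castAdd m j' = j := ⟨⟨j.val, hj⟩, rfl⟩
    obtain ⟨c, hc, -, hci⟩ := hcol j
    rw [hNe l j c hc]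
    split_ifs with hl
    · exact hci _ hlt
    · rfl
  · obtain ⟨j, rfl⟩ : ∃ j' : Fin k, Fin.castAdd m j' = j := ⟨⟨j.val, hj⟩, rfl⟩
    obtain ⟨c, hc, hcj, -⟩ := hcol j
    rw [hNe _ j c hc, dif_pos (by simp)]
    exact hcj
  · obtain ⟨j, rfl⟩ : ∃ j' : Fin m, Fin.natAdd k j' = j :=
      ⟨⟨j.val - k, by omega⟩, Fin.ext (by simp; omega)⟩
    simp only [hN]
    rw [if_pos (by simp)]
    simp only [hX, Fin.append_right, polar_sub_right, polar_smul_right', polar_self', hefV.qe,
      mul_zero, sub_zero]
    rw [polar_comm]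
    exact hsing _ (e j).2 (hefV.qe j)
  · obtain ⟨i0, hi0⟩ := hsteer a b c
    refine ⟨Fin.castAdd m i0, Fin.natAdd k ⟨0, c⟩, by have := i0.isLt; simp; omega, by simp; omega, ?_⟩
    simp only [hN]
    rw [if_pos (by simp)]
    simp only [hX, Fin.append_right, Fin.append_left, polar_sub_right, polar_smul_right']
    rw [(IsFrame.mem_kernel.1 (e ⟨0, c⟩).2).1 i0, mul_zero, sub_zero]
    exact hi0

end Cfsg.Agent.H58.OreOmega
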