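import Cfsg.Agent.H58.OreOmega.Siegel

/-!
The Siegel decomposition in `O(2n+1, q)` and the resulting criterion for being a commutator.
-/

set_option autoImplicit false
set_option linter.unusedSectionVars false

namespace Cfsg.Agent.H58.OreOmega

open Matrix Polynomial
open Cfsg.Agent.Orthogonal
open QuadraticMap (polar polar_comm)
open scoped commutatorElement

variable {F : Type*} [Field F] [Fintype F] {n : ℕ} (h2 : (2 : F) ≠ 0)

/-- The spinor norm. -/
noncomputable abbrev spS : O (formOdd F n) →* ℤˣ := spinor (formOdd F n) (formOdd_nondeg F n h2) h2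

/-- Invertible diagonal matrices. -/
noncomputable def diagHom (n : ℕ) : (Fin n → Fˣ) →* GL (Fin n) F :=
  MonoidHom.toHomUnits
    { toFun := fun d => Matrix.diagonal fun i => (d i : F)
      map_one' := by simp
      map_mul' := fun a b => by simp }

theorem coe_diagHom (d : Fin n → Fˣ) :
    ((diagHom n d : GL (Fin n) F) : MM n F) = Matrix.diagonal fun i => (d i : F) := rfl

/-- The vector `eᵢ + c fᵢ`. -/
abbrev vv (i : Fin n) (c : F) : VV n F := mk3 0 (Pi.single i 1) (Pi.single i c)

theorem formOdd_vv (i : Fin n) (c : F) : formOdd F n (vv i c) = c := by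
  simp [formOdd_eq, cE_mk3, cF_mk3]

theorem polar_vv (i : Fin n) (c : F) (y : VV n F) :
    polar (formOdd F n) (vv i c) y = y (.inr (.inr i)) + c * y (.inr (.inl i)) := by
  simp [polar_formOdd, Pi.single_apply, Finset.sum_add_distrib, mul_comm]

theorem levi_single (i : Fin n) (a : Fˣ) :
    levi h2 (diagHom n (Pi.mulSingle i a)) =
      rO (formOdd F n) (vv i 1) * rO (formOdd F n) (vv i (a : F)) := by
  refine O.ext_app fun x => ?_
  rw [levi_app, Subgroup.coe_mul, mul_app, rO_app, rO_app]
  simp only [star', ← map_inv, coe_diagHom, diagonal_transpose, formOdd_vv, polar_vv, inv_one,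
    one_mul]
  have ha := a.ne_zero
  funext s
  rcases s with s | s | s
  · simp
  all_goals by_cases hs : s = i
  all_goals first
    | (subst hs; simp [mulVec_diagonal, cE, cF]; field_simp; ring)
    | (simp [mulVec_diagonal, cE, cF, Pi.single_eq_of_ne hs, Pi.mulSingle_eq_of_ne hs])

include h2

theorem levi_signs (M : GL (Fin n) F) :
    spS h2 (levi h2 M) = sqSign (M : MM n F).det ∧ dS h2 (levi h2 M) = 1 := by
  let χ : GL (Fin n) F →* ℤˣ := (spS h2).comp (levi h2)
  let δ : GL (Fin n) F →* ℤˣ := (dS h2).comp (levi h2)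
  let P : MM n F → Prop := fun A =>
    ∀ h : A.det ≠ 0, χ (GeneralLinearGroup.mkOfDetNeZero A h) = sqSign A.det ∧
      δ (GeneralLinearGroup.mkOfDetNeZero A h) = 1
  have hne : (M : MM n F).det ≠ 0 := (Matrix.isUnits_det_units M).ne_zero
  have key : P (M : MM n F) := by
    refine Matrix.diagonal_transvection_induction_of_det_ne_zero P _ hne ?_ ?_ ?_
    · intro D _ h
      have hD : ∀ i, D i ≠ 0 := fun i => by
        rw [det_diagonal, Finset.prod_ne_zero_iff] at h
        exact h i (Finset.mem_univ i)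
      let d : Fin n → Fˣ := fun i => Units.mk0 (D i) (hD i)
      rw [show GeneralLinearGroup.mkOfDetNeZero (diagonal D) h = diagHom n d from Units.ext rfl,
        det_diagonal]
      let sq : (Fin n → Fˣ) →* ℤˣ :=
        { toFun := fun e => sqSign (∏ i, (e i : F))
          map_one' := by simp [sqSign_of_isSquare]
          map_mul' := fun a b => by
            rw [show (∏ i, ((a * b) i : F)) = (∏ i, (a i : F)) * ∏ i, (b i : F) by
              simp [Finset.prod_mul_distrib]]
            exact sqSign_mul h2 (Finset.prod_ne_zero_iff.2 fun i _ => (a i).ne_zero)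
              (Finset.prod_ne_zero_iff.2 fun i _ => (b i).ne_zero) }
      have hgen : ∀ (i : Fin n) (a : Fˣ), χ (diagHom n (Pi.mulSingle i a)) = sq (Pi.mulSingle i a) ∧
          δ (diagHom n (Pi.mulSingle i a)) = 1 := by
        intro i a
        have n1 : formOdd F n (vv i (1 : F)) ≠ 0 := by rw [formOdd_vv]; exact one_ne_zero
        have na : formOdd F n (vv i (a : F)) ≠ 0 := by rw [formOdd_vv]; exact a.ne_zero
        constructor
        · show spS h2 (levi h2 _) = sqSign (∏ j, ((Pi.mulSingle i a : Fin n → Fˣ) j : F))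
          rw [levi_single h2, map_mul, spinor_rO _ h2 n1, spinor_rO _ h2 na, formOdd_vv, formOdd_vv,
            sqSign_of_isSquare IsSquare.one, one_mul, ← Units.coe_prod, Fintype.prod_pi_mulSingle']
        · show dS h2 (levi h2 _) = 1
          rw [levi_single h2, map_mul, detSign_rO _ h2 n1, detSign_rO _ h2 na]; rfl
      have h1 : χ.comp (diagHom n) = sq := MonoidHom.pi_ext fun i a => (hgen i a).1
      have h1' : δ.comp (diagHom n) = 1 := MonoidHom.pi_ext fun i a => (hgen i a).2
      exact ⟨DFunLike.congr_fun h1 d, DFunLike.congr_fun h1' d⟩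
    · intro t h
      let t' : TransvectionStruct (Fin n) F := { t with c := t.c / 2 }
      have h' : t'.toMatrix.det ≠ 0 := by simp
      rw [show GeneralLinearGroup.mkOfDetNeZero t.toMatrix h =
          GeneralLinearGroup.mkOfDetNeZero t'.toMatrix h' * GeneralLinearGroup.mkOfDetNeZero t'.toMatrix h' from
        Units.ext (by
          show t.toMatrix = t'.toMatrix * t'.toMatrix
          rw [TransvectionStruct.toMatrix, TransvectionStruct.toMatrix,
            transvection_mul_transvection_same]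
          · congr 1; show t.c = t.c / 2 + t.c / 2; field_simp; ring
          · exact t.hij), map_mul, map_mul, Int.units_mul_self, Int.units_mul_self,
        TransvectionStruct.det, sqSign_of_isSquare IsSquare.one]
      exact ⟨rfl, rfl⟩
    · intro A B hA hB hPA hPB h
      rw [show GeneralLinearGroup.mkOfDetNeZero (A * B) h =
          GeneralLinearGroup.mkOfDetNeZero A hA * GeneralLinearGroup.mkOfDetNeZero B hB from Units.ext rfl,
        map_mul, map_mul, (hPA hA).1, (hPB hB).1, (hPA hA).2, (hPB hB).2, det_mul, sqSign_mul h2 hA hB]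
      exact ⟨rfl, one_mul 1⟩
  have h := key hne
  rwa [show GeneralLinearGroup.mkOfDetNeZero _ hne = M from Units.ext rfl] at h

theorem levi_mem {M : GL (Fin n) F} (h : IsSquare (M : MM n F).det) :
    levi h2 M ∈ commutator (O (formOdd F n)) :=
  (mem_commutator_iff (formOdd_nondeg F n h2) h2 _).2
    ⟨(levi_signs h2 M).2, (levi_signs h2 M).1.trans (sqSign_of_isSquare h)⟩

/-- The block of `g`. -/
def blk (g : O (formOdd F n)) (e f : Fin n → VV n F) : MM n F :=
  fun i j => polar (formOdd F n) ((g : VV n F ≃ₗ[F] VV n F) (e j)) (f i)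

/-- The Siegel decomposition. -/
theorem exists_decomp_std (g : O (formOdd F n)) (hg : dS h2 g = 1) (D : GL (Fin n) F)
    (hD : blk g (stdOddE F n) (stdOddF F n) = D.1) :
    ∃ u ∈ radF h2, ∃ w ∈ radE h2, g = u * levi h2 D * w := by
  have hQ := formOdd_nondeg F n h2
  set w : Fin n → VV n F := fun i => mk3 0 (fun j => (D⁻¹).1 j i) 0 with hw
  set e' : Fin n → VV n F := fun i => (g : VV n F ≃ₗ[F] VV n F) (w i) with he'
  have hstd := formOdd_frame F n
  have hwsum : ∀ i, w i = ∑ j, (D⁻¹).1 j i • stdOddE F n j := fun i => by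
    funext s; rcases s with u | k | k <;>
      simp [hw, stdOddE, Finset.sum_apply, Pi.single_apply]
  have hfr : IsFrame (formOdd F n) e' (stdOddF F n) := by
    refine ⟨fun i => ?_, hstd.qf, fun i j => ?_, fun i j => ?_, hstd.ff⟩
    · rw [he', O.map_app, formOdd_eq]; simp [hw, cF_mk3]
    · simp only [he', hwsum, map_sum, map_smul]
      rw [← polarBilin_apply', map_sum, LinearMap.sum_apply]
      simp only [map_smul, LinearMap.smul_apply, smul_eq_mul, polarBilin_apply']
      rw [show (∑ x, (D⁻¹).1 x i * polar (formOdd F n) ((g : VV n F ≃ₗ[F] VV n F) (stdOddE F n x))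
          (stdOddF F n j)) = (D.1 * (D⁻¹).1) j i from ?_, D.mul_inv, Matrix.one_apply]
      · simp [eq_comm]
      · rw [Matrix.mul_apply]
        refine Finset.sum_congr rfl fun x _ => ?_
        rw [← hD, blk, mul_comm]
    · rw [he', O.polar_app]; simp [hw, polar_formOdd]
  obtain ⟨u₀, hu₀⟩ := exists_map_family hQ hstd.linearIndependent hfr.linearIndependent
    (fun s => by rcases s with i | i <;> simp [hstd.qe, hstd.qf, hfr.qe])
    (fun s t _ => by
      rcases s with i | i <;> rcases t with j | j <;>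
        simp [hstd.ee, hstd.ef, hstd.fe, hstd.ff, hfr.ee, hfr.ef, hfr.fe])
  have hQz : formOdd F n (vz n F) ≠ 0 := by rw [formOdd_vz]; exact one_ne_zero
  obtain ⟨u, hu, hud⟩ : ∃ u : O (formOdd F n), (∀ s, (u : VV n F ≃ₗ[F] VV n F)
      (Sum.elim (stdOddE F n) (stdOddF F n) s) = Sum.elim e' (stdOddF F n) s) ∧ dS h2 u = 1 := by
    rcases Int.units_eq_one_or (dS h2 u₀) with h | h
    · exact ⟨u₀, hu₀, h⟩
    · refine ⟨u₀ * rO (formOdd F n) (vz n F), fun s => ?_, ?_⟩
      · rw [Subgroup.coe_mul, mul_app, rO_fix, hu₀]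
        rw [polar_comm, polar_vz]
        rcases s with i | i <;> simp [stdOddE, stdOddF]
      · rw [map_mul, h, detSign_rO _ h2 hQz]; rfl
  have huF : u ∈ radF h2 := (mem_radF h2).2 ⟨fun i => hu (.inr i), hud⟩
  refine ⟨u, huF, (u * levi h2 D)⁻¹ * g, ⟨fun j => ?_, ?_⟩, by group⟩
  · have he : ((u * levi h2 D : O (formOdd F n)) : VV n F ≃ₗ[F] VV n F) (stdOddE F n j) =
        (g : VV n F ≃ₗ[F] VV n F) (stdOddE F n j) := by
      rw [Subgroup.coe_mul, mul_app]
      have e1 : ((levi h2 D : O (formOdd F n)) : VV n F ≃ₗ[F] VV n F) (stdOddE F n j) =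
          ∑ k, D.1 k j • stdOddE F n k := by
        rw [levi_app]
        funext s; rcases s with u | k | k <;>
          simp [stdOddE, mulVec, dotProduct, Finset.sum_apply, Pi.single_apply]
      have e2 : stdOddE F n j = ∑ k, D.1 k j • w k := by
        simp only [hwsum, Finset.smul_sum, smul_smul]
        rw [Finset.sum_comm]
        simp only [← Finset.sum_smul]
        have : ∀ k, (∑ x, D.1 x j * (D⁻¹).1 k x) = (1 : MM n F) k j := fun k => by
          rw [← D.inv_mul, Matrix.mul_apply]
          exact Finset.sum_congr rfl fun x _ => mul_comm _ _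
        simp only [this, Matrix.one_apply, ite_smul, one_smul, zero_smul, Finset.sum_ite_eq',
          Finset.mem_univ, if_true]
      conv_rhs => rw [e2]
      rw [e1, map_sum, map_sum]
      exact Finset.sum_congr rfl fun k _ => by
        rw [map_smul, map_smul]; exact congrArg _ (hu (.inl k))
    rw [Subgroup.coe_mul, mul_app, ← he, ← mul_app, ← Subgroup.coe_mul, inv_mul_cancel]
    rfl
  · rw [map_mul, map_inv, map_mul, hud, (levi_signs h2 D).2, hg]; simp

theorem isSquare_det_std {A : GL (Fin n) F} (hA : Reg A) (g : O (formOdd F n))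
    (hg : g ∈ commutator (O (formOdd F n))) (D : GL (Fin n) F)
    (hD : blk g (stdOddE F n) (stdOddF F n) = D.1) : IsSquare D.1.det := by
  obtain ⟨hgd, hgs⟩ := (mem_commutator_iff (formOdd_nondeg F n h2) h2 _).1 hg
  obtain ⟨u, hu, w, hw, rfl⟩ := exists_decomp_std h2 g hgd D hD
  have hus := ((mem_commutator_iff (formOdd_nondeg F n h2) h2 _).1 (radF_le h2 hA hu)).2
  have hws := ((mem_commutator_iff (formOdd_nondeg F n h2) h2 _).1 (radE_le h2 hA hw)).2
  rw [map_mul, map_mul, hus, hws, one_mul, mul_one] at hgs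
  rw [← sqSign_eq_one_iff, ← (levi_signs h2 D).1]
  exact hgs

theorem isCom_std (g : O (formOdd F n)) (hg : g ∈ commutator (O (formOdd F n)))
    (A B : GL (Fin n) F) (hA : Reg A) (hAs : IsSquare A.1.det) (hBs : IsSquare B.1.det)
    (hD : blk g (stdOddE F n) (stdOddF F n) = (A * B * A⁻¹ * B⁻¹ : GL (Fin n) F).1) :
    ∃ a ∈ commutator (O (formOdd F n)), ∃ b ∈ commutator (O (formOdd F n)),
      g = a * b * a⁻¹ * b⁻¹ := by
  have := finite_O (F := F) (n := n)
  obtain ⟨hgd, -⟩ := (mem_commutator_iff (formOdd_nondeg F n h2) h2 _).1 hg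
  obtain ⟨u, hu, w, hw, rfl⟩ := exists_decomp_std h2 g hgd _ hD
  obtain ⟨c1, hc1, e1⟩ := fuse (radF h2) (radF_stable h2 A) (radF_fpf h2 hA) hu
  have hY : Reg (B * A⁻¹ * B⁻¹) := hA.inv.conj B
  set y := levi h2 (B * A⁻¹ * B⁻¹) with hy
  obtain ⟨c2, hc2, e2⟩ := fuse (radE h2) (radE_stable h2 (B * A⁻¹ * B⁻¹)) (radE_fpf h2 hY)
    (radE_stable h2 (B * A⁻¹ * B⁻¹) w hw)
  rw [← hy] at e2
  have e2' : y * w = c2 * y * c2⁻¹ := by rw [← e2]; group
  have hk2 : c2 * levi h2 B ∈ commutator (O (formOdd F n)) :=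
    mul_mem (radE_le h2 hA hc2) (levi_mem h2 hBs)
  have hk1 : c1 ∈ commutator (O (formOdd F n)) := radF_le h2 hA hc1
  refine ⟨c1 * levi h2 A * c1⁻¹, mul_mem (mul_mem hk1 (levi_mem h2 hAs)) (inv_mem hk1),
    c2 * levi h2 B * c1⁻¹, mul_mem hk2 (inv_mem hk1), ?_⟩
  calc u * levi h2 (A * B * A⁻¹ * B⁻¹) * w
      = (u * levi h2 A) * (y * w) := by rw [hy]; simp only [map_mul, map_inv]; group
    _ = (c1 * levi h2 A * c1⁻¹) * (c2 * y * c2⁻¹) := by rw [e1, e2']
    _ = _ := by rw [hy]; simp only [map_mul, map_inv]; group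

/-- Witt: any frame of `n` pairs is the image of the standard one. -/
theorem exists_frame_map {e f : Fin n → VV n F} (h : IsFrame (formOdd F n) e f) :
    ∃ k : O (formOdd F n), ∀ g, blk g e f = blk (k⁻¹ * g * k) (stdOddE F n) (stdOddF F n) := by
  have hstd := formOdd_frame F n
  obtain ⟨k, hk⟩ := exists_map_family (formOdd_nondeg F n h2) hstd.linearIndependent
    h.linearIndependent
    (fun s => by rcases s with i | i <;> simp [hstd.qe, hstd.qf, h.qe, h.qf])
    (fun s t _ => by
      rcases s with i | i <;> rcases t with j | j <;>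
        simp [hstd.ee, hstd.ef, hstd.fe, hstd.ff, h.ee, h.ef, h.fe, h.ff])
  refine ⟨k, fun g => ?_⟩
  ext i j
  have hkE : (k : VV n F ≃ₗ[F] VV n F) (stdOddE F n j) = e j := hk (.inl j)
  have hkF : (k : VV n F ≃ₗ[F] VV n F) (stdOddF F n i) = f i := hk (.inr i)
  rw [blk, blk, ← O.polar_app k ((((k⁻¹ * g * k : O (formOdd F n))) : VV n F ≃ₗ[F] VV n F) _),
    hkF, ← mul_app, ← Subgroup.coe_mul, show k * (k⁻¹ * g * k) = g * k by group,
    Subgroup.coe_mul, mul_app, hkE]

theorem isSquare_det_frame {A : GL (Fin n) F} (hA : Reg A) (g : O (formOdd F n))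
    (hg : g ∈ commutator (O (formOdd F n))) {e f : Fin n → VV n F}
    (h : IsFrame (formOdd F n) e f) (hd : (blk g e f).det ≠ 0) : IsSquare (blk g e f).det := by
  obtain ⟨k, hk⟩ := exists_frame_map h2 h
  have hg' : k⁻¹ * g * k ∈ commutator (O (formOdd F n)) := by
    have hN : (commutator (O (formOdd F n))).Normal := inferInstance
    simpa using hN.conj_mem g hg k⁻¹
  exact isSquare_det_std h2 hA _ hg' (GeneralLinearGroup.mkOfDetNeZero _ hd) (hk g).symm

theorem isCom_frame (g : O (formOdd F n)) (hg : g ∈ commutator (O (formOdd F n)))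
    {e f : Fin n → VV n F} (h : IsFrame (formOdd F n) e f) (A B : GL (Fin n) F) (hA : Reg A)
    (hAs : IsSquare A.1.det) (hBs : IsSquare B.1.det)
    (hD : blk g e f = (A * B * A⁻¹ * B⁻¹ : GL (Fin n) F).1) :
    ∃ a ∈ commutator (O (formOdd F n)), ∃ b ∈ commutator (O (formOdd F n)),
      g = a * b * a⁻¹ * b⁻¹ := by
  obtain ⟨k, hk⟩ := exists_frame_map h2 h
  have hN : (commutator (O (formOdd F n))).Normal := inferInstance
  have hg' : k⁻¹ * g * k ∈ commutator (O (formOdd F n)) := by
    simpa using hN.conj_mem g hg k⁻¹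
  obtain ⟨a, ha, b, hb, hab⟩ := isCom_std h2 _ hg' A B hA hAs hBs ((hk g).symm.trans hD)
  refine ⟨k * a * k⁻¹, hN.conj_mem a ha k, k * b * k⁻¹, hN.conj_mem b hb k, ?_⟩
  rw [show g = k * (k⁻¹ * g * k) * k⁻¹ by group, hab]
  group

end Cfsg.Agent.H58.OreOmega
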