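import Cfsg.Agent.H58.OreOmega.KrylovFrame
import Cfsg.Agent.H58.OreOmega.SiegelCom
import Cfsg.Agent.H58.OreOmega.MatMain

/-!
Every element of `Ω(2n+1, q)`, `q` odd, `n ≥ 3`, is a commutator.
-/

set_option autoImplicit false
set_option linter.unusedSectionVars false

namespace Cfsg.Agent.H58.OreOmega

open Matrix Polynomial
open Cfsg.Agent.Orthogonal Cfsg.Agent.H60.Ore
open QuadraticMap (polar polar_comm polar_add_left polar_add_right polar_sub_left polar_sub_right)

variable {F : Type*} [Field F]

/-- The tridiagonal twist of the Lagrangian. -/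
def mf (q θ : F) (i l : ℕ) : F :=
  if i = 0 ∧ l = 0 then -(q * θ ^ 2)
  else if l = i + 1 then (if i = 0 then θ else 1)
  else if i = l + 1 then -(if l = 0 then θ else 1)
  else 0

/-- The twist vector. -/
def vf (θ : F) (i : ℕ) : F := if i = 0 then θ else 0

/-- The scaling. -/
def df (θ : F) (i : ℕ) : F := if i = 0 then θ else 1

theorem mf_scale (q θ : F) (i l : ℕ) : mf q θ i l = df θ i * mf q 1 i l * df θ l := by
  unfold mf df
  split_ifs <;> first | (exfalso; omega) | ring

theorem mf_sym (q θ : F) (i l : ℕ) :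
    mf q θ i l + mf q θ l i + 2 * q * vf θ i * vf θ l = 0 := by
  unfold mf vf
  split_ifs <;> first | (exfalso; omega) | ring

theorem mf_diag (q θ : F) (i : ℕ) : mf q θ i i + q * vf θ i ^ 2 = 0 := by
  unfold mf vf
  split_ifs <;> first | (exfalso; omega) | ring

theorem mf_far (q θ : F) {i l : ℕ} (h : l + 1 < i ∨ i + 1 < l) : mf q θ i l = 0 := by
  unfold mf
  split_ifs <;> first | (exfalso; omega) | rfl

theorem mf_sub_ne (q : F) {θ : F} (hθ : θ ≠ 0) (l : ℕ) : mf q θ (l + 1) l ≠ 0 := by
  unfold mf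
  rw [if_neg (by omega), if_neg (by omega), if_pos rfl]
  split_ifs <;> simp [hθ]

/-- The left factor. -/
def RM (K k : ℕ) (q θ ε : F) : Matrix (Fin K) (Fin K) F :=
  fun i j => if j.val < k then mf q θ i.val j.val else if i = j then ε else 0

/-- The right factor. -/
def UM {K : ℕ} (k : ℕ) (N : Fin K → Fin K → F) : Matrix (Fin K) (Fin K) F :=
  fun l j => if l.val < k then N l j else if l = j then 1 else 0

theorem RM_det_scale {K k : ℕ} (hk : 0 < k) (hK : k ≤ K) (q θ ε : F) :
    (RM K k q θ ε).det = θ ^ 2 * (RM K k q 1 ε).det := by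
  have h : RM K k q θ ε =
      diagonal (fun i : Fin K => df θ i.val) * RM K k q 1 ε *
        diagonal (fun i : Fin K => df θ i.val) := by
    ext i j
    rw [Matrix.mul_diagonal, Matrix.diagonal_mul]
    simp only [RM]
    split_ifs with h1 h2
    · exact mf_scale q θ _ _
    · subst h2
      rw [df, if_neg (by omega), mul_one, one_mul]
    · simp
  have hd : (∏ i : Fin K, df θ i.val) = θ := by
    rw [Finset.prod_eq_single (⟨0, by omega⟩ : Fin K)]
    · simp [df]
    · intro b _ hb
      rw [df, if_neg fun h => hb (Fin.ext h)]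
    · intro h; exact absurd (Finset.mem_univ _) h
  rw [h, det_mul, det_mul, det_diagonal, hd]
  ring

theorem RM_det_ne {K k : ℕ} {q ε : F} (h2 : (2 : F) ≠ 0) (hq : q ≠ 0) (hε : ε ≠ 0) :
    (RM K k q 1 ε).det ≠ 0 := by
  intro h
  obtain ⟨w, hw0, hw⟩ := Matrix.exists_mulVec_eq_zero_iff.2 h
  refine hw0 ?_
  have row : ∀ i, ∑ l, RM K k q 1 ε i l * w l = 0 := fun i => congrFun hw i
  set u : Fin K → F := fun i => if i.val < k then w i else 0 with hu
  have hlow : ∀ i : Fin K, i.val < k → ∑ l, mf q 1 i.val l.val * u l = 0 := fun i hi => by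
    rw [← row i]
    refine Finset.sum_congr rfl fun l _ => ?_
    simp only [RM, hu]
    split_ifs with h1 h2
    · rfl
    · subst h2; omega
    · ring
  -- the quadratic form kills the first coordinate
  have h0 : ∀ i : Fin K, i.val = 0 → u i = 0 := by
    intro i hi
    set S : Fin K → Fin K → F := fun a b =>
      u a * u b * (mf q 1 a.val b.val + q * vf 1 a.val * vf 1 b.val) with hS
    have hanti : ∀ a b, S a b + S b a = 0 := fun a b => by
      simp only [hS]
      linear_combination u a * u b * mf_sym q 1 a.val b.val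
    have hS0 : ∑ a, ∑ b, S a b = 0 := by
      have e : ∑ a, ∑ b, S a b = -∑ a, ∑ b, S a b := by
        conv_rhs => rw [Finset.sum_comm]
        simp only [← Finset.sum_neg_distrib]
        exact Finset.sum_congr rfl fun a _ => Finset.sum_congr rfl fun b _ =>
          eq_neg_of_add_eq_zero_left (hanti a b)
      have e2 : 2 * ∑ a, ∑ b, S a b = 0 := by linear_combination e
      exact (mul_eq_zero.1 e2).resolve_left h2
    have hM0 : ∀ a, u a * ∑ b, mf q 1 a.val b.val * u b = 0 := fun a => by
      by_cases ha : a.val < k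
      · rw [hlow a ha, mul_zero]
      · simp [hu, ha]
    have hsum : ∑ a, ∑ b, S a b = q * (∑ a, u a * vf 1 a.val) ^ 2 := by
      rw [sq, Finset.sum_mul_sum, Finset.mul_sum]
      refine Finset.sum_congr rfl fun a _ => ?_
      have hb : ∀ b, S a b = u a * (mf q 1 a.val b.val * u b) +
          q * (u a * vf 1 a.val * (u b * vf 1 b.val)) := fun b => by simp only [hS]; ring
      simp only [hb, Finset.sum_add_distrib, ← Finset.mul_sum, hM0 a, zero_add]
    rw [hS0] at hsum
    have hv := (pow_eq_zero_iff two_ne_zero).1 ((mul_eq_zero.1 hsum.symm).resolve_left hq)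
    rw [Finset.sum_eq_single i] at hv
    · simpa [vf, hi] using hv
    · intro b _ hb
      rw [vf, if_neg fun h' => hb (Fin.ext (h'.trans hi.symm)), mul_zero]
    · intro h'; exact absurd (Finset.mem_univ i) h'
  have hall : ∀ (l : ℕ) (hl : l < K), u ⟨l, hl⟩ = 0 := by
    intro l
    induction l using Nat.strong_induction_on with
    | _ l ih =>
      intro hl
      rcases Nat.eq_zero_or_pos l with rfl | hpos
      · exact h0 _ rfl
      by_cases hlk : l < k
      swap
      · simp [hu, hlk]
      have h1 := hlow ⟨l - 1, by omega⟩ (by simp; omega)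
      rw [Finset.sum_eq_single (⟨l, hl⟩ : Fin K)] at h1
      · simp only [mf] at h1
        rw [if_neg (by omega), if_pos (by omega)] at h1
        split_ifs at h1 <;> simpa using h1
      · intro b _ hb
        rcases lt_or_gt_of_ne (fun h' => hb (Fin.ext h') : b.val ≠ l) with hlt | hgt
        · rw [ih b.val hlt b.isLt, mul_zero]
        · rw [mf_far q 1 (Or.inr (by simp; omega)), zero_mul]
      · intro h'; exact absurd (Finset.mem_univ _) h'
  funext i
  by_cases hi : i.val < k
  · simpa [hu, hi] using hall i.val i.isLt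
  · have h1 := row i
    rw [Finset.sum_eq_single i] at h1
    · simp only [RM, if_neg hi, if_true] at h1
      exact (mul_eq_zero.1 h1).resolve_left hε
    · intro b _ hb
      simp only [RM]
      split_ifs with h' h''
      · have := hall b.val b.isLt
        simp only [hu, h', if_true] at this
        rw [this, mul_zero]
      · exact absurd h''.symm hb
      · rw [zero_mul]
    · intro h'; exact absurd (Finset.mem_univ _) h'

section Block

variable {K k : ℕ} (N : Fin K → Fin K → F)

theorem UM_upper (htri : ∀ l j : Fin K, j.val < k → j.val < l.val → N l j = 0) :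
    (UM k N).IsUpperTriangular := by
  intro l j h
  have h' : j.val < l.val := h
  simp only [UM]
  split_ifs with h1 h2
  · exact htri l j (by omega) h'
  · subst h2; omega
  · rfl

theorem UM_det_ne (htri : ∀ l j : Fin K, j.val < k → j.val < l.val → N l j = 0)
    (hdia : ∀ j : Fin K, j.val < k → N j j ≠ 0) : (UM k N).det ≠ 0 := by
  rw [det_of_isUpperTriangular (UM_upper N htri), Finset.prod_ne_zero_iff]
  intro j _
  simp only [UM]
  split_ifs with h
  · exact hdia j h
  · exact one_ne_zero

theorem RU_apply (q θ ε : F) (hK' : K ≤ k + 1)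
    (htri : ∀ l j : Fin K, j.val < k → j.val < l.val → N l j = 0)
    (hzero : ∀ j : Fin K, k ≤ j.val → N j j = 0) (i j : Fin K) :
    (RM K k q θ ε * UM k N) i j =
      (if k ≤ j.val then (if i = j then ε else 0) else 0) + ∑ l, mf q θ i.val l.val * N l j := by
  rw [Matrix.mul_apply]
  have hterm : ∀ l : Fin K, RM K k q θ ε i l * UM k N l j = mf q θ i.val l.val * N l j +
      if l = j then (if k ≤ j.val then (if i = j then ε else 0) else 0) else 0 := by
    intro l
    by_cases hl : l.val < k
    · simp only [RM, UM, hl, if_true]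
      by_cases hlj : l = j
      · subst hlj; rw [if_pos rfl, if_neg (not_le.2 hl), add_zero]
      · rw [if_neg hlj, add_zero]
    · simp only [RM, UM, hl, if_false]
      by_cases hlj : l = j
      · subst hlj
        rw [if_pos rfl, if_pos rfl, if_pos (not_lt.1 hl), hzero l (not_lt.1 hl)]
        ring
      · have hN : N l j = 0 := by
          refine htri l j ?_ ?_
          all_goals
            have h1 := l.isLt; have h2 := j.isLt
            have h3 : l.val ≠ j.val := fun h => hlj (Fin.ext h)
            omega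
        rw [if_neg hlj, if_neg hlj, hN]
        ring
  simp only [hterm, Finset.sum_add_distrib, Finset.sum_ite_eq', Finset.mem_univ, if_true]
  ring

theorem RU_hess (q : F) {θ ε : F} (hθ : θ ≠ 0) (hK' : K ≤ k + 1)
    (htri : ∀ l j : Fin K, j.val < k → j.val < l.val → N l j = 0)
    (hdia : ∀ j : Fin K, j.val < k → N j j ≠ 0)
    (hzero : ∀ j : Fin K, k ≤ j.val → N j j = 0) : Hess (RM K k q θ ε * UM k N) := by
  refine ⟨fun i j h => ?_, fun i j h => ?_⟩
  · rw [RU_apply N q θ ε hK' htri hzero]
    have hj : j.val < k := by have := i.isLt; omega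
    rw [if_neg (by omega), zero_add]
    refine Finset.sum_eq_zero fun l _ => ?_
    by_cases hl : j.val < l.val
    · rw [htri l j hj hl, mul_zero]
    · rw [mf_far q θ (Or.inl (by omega)), zero_mul]
  · rw [RU_apply N q θ ε hK' htri hzero]
    have hj : j.val < k := by have := i.isLt; omega
    rw [if_neg (by omega), zero_add, Finset.sum_eq_single j]
    · rw [h]; exact mul_ne_zero (mf_sub_ne q hθ _) (hdia j hj)
    · intro l _ hl
      rcases lt_or_gt_of_ne (fun h' => hl (Fin.ext h') : l.val ≠ j.val) with h1 | h1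
      · rw [mf_far q θ (Or.inl (by omega)), zero_mul]
      · rw [htri l j hj h1, mul_zero]
    · intro h'; exact absurd (Finset.mem_univ _) h'

theorem RU_not_bad (q : F) {θ ε : F} (hθ : θ ≠ 0) (hk1 : k = 1) (hK : K = 2)
    (htri : ∀ l j : Fin K, j.val < k → j.val < l.val → N l j = 0)
    (hzero : ∀ j : Fin K, k ≤ j.val → N j j = 0)
    (hne : ∀ l j : Fin K, l.val = 0 → j.val = 1 → N l j ≠ 0) (hε : ε = 1)
    (hdet : (RM K k q θ ε * UM k N).det = 1) :
    (RM K k q θ ε * UM k N).charpoly ≠ (X - C 1) ^ 2 := by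
  subst hK hk1 hε
  set H := RM 2 1 q θ 1 * UM 1 N with hH
  have e01 : N 0 1 ≠ 0 := hne 0 1 rfl rfl
  have e10 : N 1 0 = 0 := htri 1 0 (by simp) (by simp)
  have e11 : N 1 1 = 0 := hzero 1 (by simp)
  have h00 : H 0 0 = -(q * θ ^ 2) * N 0 0 := by
    rw [hH, RU_apply N q θ 1 (by omega) htri hzero]
    simp [Fin.sum_univ_two, mf, e10]
  have h11 : H 1 1 = 1 - θ * N 0 1 := by
    rw [hH, RU_apply N q θ 1 (by omega) htri hzero]
    simp [Fin.sum_univ_two, mf, e11]
    ring
  have hd : H.det = -(q * θ ^ 2) * N 0 0 := by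
    rw [hH, det_mul, det_fin_two, det_fin_two]
    simp [RM, UM, mf]
  intro hc
  have htr : H.trace = 2 := by
    have h1 := H.trace_eq_neg_charpoly_coeff
    rw [hc] at h1
    rw [h1, show ((X : F[X]) - C 1) ^ 2 = X ^ 2 + C (-2) * X + C 1 by
      simp only [map_neg, map_ofNat, map_one]; ring]
    simp [coeff_X_pow, coeff_C, Polynomial.coeff_one]
  rw [Matrix.trace_fin_two, h00, h11, ← hd, hdet] at htr
  exact mul_ne_zero hθ e01 (by linear_combination -htr)

end Block

variable [Fintype F] {n : ℕ}

theorem finrank_VV : Module.finrank F (VV n F) = 2 * n + 1 := by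
  rw [Module.finrank_fintype_fun_eq_card]
  simp only [Fintype.card_sum, Fintype.card_unit, Fintype.card_fin]
  omega

/-- The commutator theorem in `O`. -/
theorem ore_formOdd (h2 : (2 : F) ≠ 0) (hn : 3 ≤ n) (g : O (formOdd F n))
    (hg : g ∈ commutator (O (formOdd F n))) :
    ∃ a ∈ commutator (O (formOdd F n)), ∃ b ∈ commutator (O (formOdd F n)),
      g = a * b * a⁻¹ * b⁻¹ := by
  classical
  have hQ := formOdd_nondeg F n h2
  have hdet := (detSign_eq_one_iff hQ h2 g).1 ((mem_commutator_iff hQ h2 g).1 hg).1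
  obtain ⟨f0, hf0⟩ := exists_good h2 hn (0 : F)
  have hA0 : (compOf n f0).det ≠ 0 := by
    rw [det_compOf hf0.1 hf0.2.1]
    exact mul_ne_zero (pow_ne_zero _ (neg_ne_zero.2 one_ne_zero)) (hf0.coeff_zero_ne (by omega))
  set A : GL (Fin n) F := GeneralLinearGroup.mkOfDetNeZero (compOf n f0) hA0 with hA
  have hAreg : Reg A := hf0.reg (by omega) A (charpoly_compOf hf0.1 hf0.2.1)
  have hAs : IsSquare A.1.det := by
    show IsSquare (compOf n f0).det
    rw [det_compOf hf0.1 hf0.2.1]; exact hf0.2.2.2.1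
  obtain ⟨k, m, x, y, N, ε, hkm, hε, ⟨hfr, heq, htri, hdia, hzero⟩, hk0, hsteer⟩ :=
    exists_krylov hQ h2 (finrank_VV (F := F) (n := n)) g hdet
  subst hkm
  have hblk0 : ∀ (f' : Fin (k + m) → VV (k + m) F), IsFrame (formOdd F (k + m)) x f' →
      ∀ i j, blk g x f' i j =
        (if k ≤ j.val then (if i = j then ε else 0) else 0) +
          ∑ l, polar (formOdd F (k + m)) (y l) (f' i) * N l j := fun f' hf' i j => by
    rw [blk, heq, polar_add_left, polar_sum_left]
    refine congrArg₂ (· + ·) ?_ (Finset.sum_congr rfl fun l _ => by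
      rw [polar_smul_left']; ring)
    by_cases h : k ≤ j.val
    · rw [if_pos h, if_pos h, polar_smul_left', hf'.ef]
      simp [eq_comm]
    · rw [if_neg h, if_neg h]; simp [polar]
  rcases Nat.eq_zero_or_pos k with hkz | hkpos
  · -- the unipotent case
    refine isCom_frame h2 g hg hfr A 1 hAreg hAs (by simp) ?_
    have e1 : ε = 1 := hk0 hkz
    ext i j
    rw [hblk0 y hfr, if_pos (by omega)]
    simp [hfr.ff, e1, Matrix.one_apply]
  -- the kernel vector
  have hK : Module.finrank F (IsFrame.kernel (formOdd F (k + m)) x y) = 1 := by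
    have := hfr.finrank_kernel hQ
    rw [finrank_VV] at this
    omega
  obtain ⟨z', hz0, hzsp⟩ := finrank_eq_one_iff'.1 hK
  have hzk := IsFrame.mem_kernel.1 z'.2
  set z : VV (k + m) F := (z' : VV (k + m) F) with hz
  set q := formOdd F (k + m) z with hq
  have hq0 : q ≠ 0 := by
    intro h0
    refine hz0 (hfr.nondeg_kernel hQ z' fun u => ?_)
    obtain ⟨r, rfl⟩ := hzsp u
    rw [polar_smul_right', polar_self', restr_apply]
    rw [← hz, ← hq, h0]
    ring
  obtain ⟨K, m', hKm, hkK, hK', hK2, hK2'⟩ : ∃ K m', K + m' = k + m ∧ k ≤ K ∧ K ≤ k + 1 ∧ 2 ≤ K ∧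
      (K = 2 → k = 1 ∧ 0 < m) := by
    rcases Nat.eq_zero_or_pos m with hm | hm
    · exact ⟨k, 0, by omega, le_rfl, by omega, by omega, fun h => by omega⟩
    · exact ⟨k + 1, m - 1, by omega, by omega, le_rfl, by omega, fun h => ⟨by omega, hm⟩⟩
  let σ : Fin K ⊕ Fin m' ≃ Fin (k + m) := finSumFinEquiv.trans (finCongr hKm)
  have σl : ∀ a, (σ (.inl a)).val = a.val := fun a => by simp [σ]
  have σr : ∀ b, (σ (.inr b)).val = K + b.val := fun b => by simp [σ]
  -- the twisted frames
  let M : F → Fin (k + m) → Fin (k + m) → F := fun θ i l =>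
    if i.val < K ∧ l.val < K then mf q θ i.val l.val else 0
  let f' : F → Fin (k + m) → VV (k + m) F := fun θ i =>
    y i + ∑ l, M θ i l • x l + (if i.val < K then vf θ i.val else 0) • z
  have hsumx : ∀ c : Fin (k + m) → F, ∀ w, polar (formOdd F (k + m)) (∑ l, c l • x l) w =
      ∑ l, c l * polar (formOdd F (k + m)) (x l) w := fun c w => by
    rw [polar_sum_left]; exact Finset.sum_congr rfl fun l _ => polar_smul_left' ..
  have hyf : ∀ θ l i, polar (formOdd F (k + m)) (y l) (f' θ i) = M θ i l := fun θ l i => by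
    simp only [f', polar_add_right, polar_smul_right', hfr.ff, hzk.2 l, mul_zero, add_zero, zero_add,
      polar_comm _ (y l) (∑ a, _), hsumx, hfr.ef, mul_ite, mul_one, Finset.sum_ite_eq',
      Finset.mem_univ, if_true]
  have hxf : ∀ θ l i, polar (formOdd F (k + m)) (x l) (f' θ i) = if l = i then 1 else 0 :=
    fun θ l i => by
      simp only [f', polar_add_right, polar_smul_right', hfr.ef, hzk.1 l, mul_zero, add_zero,
        polar_comm _ (x l) (∑ a, _), hsumx, hfr.ee, Finset.sum_const_zero]
  have hff : ∀ θ i j, polar (formOdd F (k + m)) (f' θ i) (f' θ j) = 0 := fun θ i j => by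
    have ez : polar (formOdd F (k + m)) z (f' θ j) =
        2 * q * (if j.val < K then vf θ j.val else 0) := by
      simp only [f', polar_add_right, polar_smul_right', polar_self', ← hq,
        polar_comm _ z (y _), hzk.2 j, polar_comm _ z (∑ a, _), hsumx, hzk.1, mul_zero,
        Finset.sum_const_zero, zero_add]
      ring
    rw [show f' θ i = y i + ∑ l, M θ i l • x l + (if i.val < K then vf θ i.val else 0) • z from rfl,
      polar_add_left, polar_add_left, polar_smul_left', hsumx, hyf, ez]
    simp only [hxf, mul_ite, mul_one, mul_zero, Finset.sum_ite_eq', Finset.mem_univ, if_true]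
    by_cases hi : i.val < K <;> by_cases hj : j.val < K <;> simp only [M, hi, hj, and_self,
      and_false, false_and, if_true, if_false, and_true]
    · linear_combination mf_sym q θ j.val i.val
    all_goals ring
  have hfr' : ∀ θ, IsFrame (formOdd F (k + m)) x (f' θ) := fun θ => by
    refine ⟨hfr.qe, fun i => ?_, fun l i => hxf θ l i, hfr.ee, hff θ⟩
    have h := hff θ i i
    rw [polar_self'] at h
    exact (mul_eq_zero.1 h).resolve_left h2
  -- the block
  set N' : Fin K → Fin K → F := fun l j => N (σ (.inl l)) (σ (.inl j)) with hN'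
  have ht' : ∀ l j : Fin K, j.val < k → j.val < l.val → N' l j = 0 := fun l j h1 h2' =>
    htri _ _ (by rwa [σl]) (by rwa [σl, σl])
  have hd' : ∀ j : Fin K, j.val < k → N' j j ≠ 0 := fun j h => hdia _ (by rwa [σl])
  have hz' : ∀ j : Fin K, k ≤ j.val → N' j j = 0 := fun j h => hzero _ (by rwa [σl])
  let E : F → Matrix (Fin K) (Fin m') F := fun θ a b => blk g x (f' θ) (σ (.inl a)) (σ (.inr b))
  have hform : ∀ θ, (blk g x (f' θ)).submatrix σ σ =
      fromBlocks (RM K k q θ ε * UM k N') (E θ) 0 (ε • 1) := fun θ => by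
    ext (a | a) (b | b)
    · rw [submatrix_apply, fromBlocks_apply₁₁, hblk0 _ (hfr' θ), RU_apply N' q θ ε hK' ht' hz']
      simp only [hyf, σl, EmbeddingLike.apply_eq_iff_eq, Sum.inl.injEq]
      refine congrArg₂ (· + ·) rfl ?_
      rw [← σ.sum_comp, Fintype.sum_sum_type]
      simp only [M, σl, σr, Fin.is_lt, and_true, if_true, hN', true_and]
      rw [Finset.sum_eq_zero (f := fun b' => ite (K + _ < K) _ 0 * _) fun b' _ => by
        rw [if_neg (by omega), zero_mul], add_zero]
    · rfl
    · rw [submatrix_apply, fromBlocks_apply₂₁, hblk0 _ (hfr' θ)]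
      simp only [hyf, M, σl, σr, EmbeddingLike.apply_eq_iff_eq]
      simp
    · rw [submatrix_apply, fromBlocks_apply₂₂, hblk0 _ (hfr' θ)]
      simp only [hyf, M, σr, EmbeddingLike.apply_eq_iff_eq, Sum.inr.injEq]
      rw [if_pos (show k ≤ K + b.val by omega)]
      simp [Matrix.one_apply]
  have hε0 : ε ≠ 0 := left_ne_zero_of_mul (hε.trans_ne one_ne_zero)
  set c := (RM K k q 1 ε).det * (UM k N').det * ε ^ m' with hc
  have hdθ : ∀ θ, (blk g x (f' θ)).det = θ ^ 2 * c := fun θ => by
    rw [← det_submatrix_equiv_self σ, hform, det_fromBlocks_zero₂₁, det_mul,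
      RM_det_scale hkpos hkK, det_smul, det_one, Fintype.card_fin, hc]
    ring
  have hc0 : c ≠ 0 :=
    mul_ne_zero (mul_ne_zero (RM_det_ne h2 hq0 hε0) (UM_det_ne N' ht' hd')) (pow_ne_zero _ hε0)
  obtain ⟨r, hr⟩ : IsSquare c := by
    have := isSquare_det_frame h2 hAreg g hg (hfr' 1) (by rw [hdθ, one_pow, one_mul]; exact hc0)
    rwa [hdθ, one_pow, one_mul] at this
  have hr0 : r ≠ 0 := fun h => hc0 (by rw [hr, h, mul_zero])
  have hd1 : (blk g x (f' r⁻¹)).det = 1 := by
    rw [hdθ, hr]; field_simp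
  have hd2 : (fromBlocks (RM K k q r⁻¹ ε * UM k N') (E r⁻¹) 0 (ε • 1)).det = 1 := by
    rw [← hform, det_submatrix_equiv_self, hd1]
  have hbad : K = 2 → ε = 1 → (RM K k q r⁻¹ ε * UM k N').charpoly ≠ (X - C 1) ^ 2 := by
    intro hK2e hε1
    obtain ⟨hk1, hm0⟩ := hK2' hK2e
    refine RU_not_bad N' q (inv_ne_zero hr0) hk1 hK2e ht' hz' (fun l j hl hj => ?_) hε1 ?_
    · obtain ⟨l0, j0, hl0, hj0, hne⟩ := hsteer hk1 hε1 hm0
      show N (σ (.inl l)) (σ (.inl j)) ≠ 0
      rwa [show σ (.inl l) = l0 from Fin.ext (by rw [σl, hl0, hl]),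
        show σ (.inl j) = j0 from Fin.ext (by rw [σl, hj0, hj])]
    · rw [det_fromBlocks_zero₂₁, det_smul, det_one, mul_one] at hd2
      simpa [hε1] using hd2
  have hlc := lc_main h2 hK2 (by omega : 3 ≤ K + m') hε
    (RU_hess N' q (inv_ne_zero hr0) hK' ht' hd' hz') (E r⁻¹) hd2 hbad
  rw [hKm] at hlc
  have hlc' : LC (k + m) (blk g x (f' r⁻¹)) := LC.of_sim (Sim.submatrix _ σ) (by rw [hform]; exact hlc)
  obtain ⟨A', B', hA', hA's, hB's, hD⟩ := hlc'.exists_com hn
  exact isCom_frame h2 g hg (hfr' r⁻¹) A' B' hA' hA's hB's hD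

end Cfsg.Agent.H58.OreOmega
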