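import Cfsg.Agent.H58.OreOmega.MatPi

/-!
A block triangular family whose products with a companion matrix take every characteristic
polynomial of the right determinant.
-/

set_option autoImplicit false
set_option linter.unusedSectionVars false
set_option linter.unusedSimpArgs false

namespace Cfsg.Agent.H58.OreOmega

open Matrix Polynomial
open Cfsg.Agent.H60.Ore

variable {F : Type*} [Field F] {k m : ℕ}

/-- The coupling block: `η` in the last row, `w` in the last column above it. -/
def zblk (p : Fin m ⊕ Fin (k - 1) → F) : Matrix (Fin k) (Fin m) F := fun i r =>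
  if h : i.val + 1 < k then (if r.val + 1 = m then p (.inr ⟨i.val, by omega⟩) else 0) else p (.inl r)

/-- The block triangular family. -/
def tfam (Tk : Matrix (Fin k) (Fin k) F) (S : Matrix (Fin m) (Fin m) F)
    (p : Fin m ⊕ Fin (k - 1) → F) : Matrix (Fin (k + m)) (Fin (k + m)) F :=
  (fromBlocks Tk (zblk p) 0 S).submatrix finSumFinEquiv.symm finSumFinEquiv.symm

theorem sim_tfam (Tk : Matrix (Fin k) (Fin k) F) (S : Matrix (Fin m) (Fin m) F)
    (p : Fin m ⊕ Fin (k - 1) → F) : Sim (tfam Tk S p) (fromBlocks Tk (zblk p) 0 S) :=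
  (Sim.submatrix _ finSumFinEquiv.symm).symm

theorem det_tfam (Tk : Matrix (Fin k) (Fin k) F) (S : Matrix (Fin m) (Fin m) F)
    (p : Fin m ⊕ Fin (k - 1) → F) : (tfam Tk S p).det = Tk.det * S.det := by
  rw [(sim_tfam Tk S p).det_eq, det_fromBlocks_zero₂₁]

variable {Tk : Matrix (Fin k) (Fin k) F} {S : Matrix (Fin m) (Fin m) F}

theorem en_tfam_ll {p : Fin m ⊕ Fin (k - 1) → F} {i j : ℕ} (hi : i < k) (hj : j < k) :
    en (tfam Tk S p) i j = Tk ⟨i, hi⟩ ⟨j, hj⟩ := by
  rw [en_of (by omega) (by omega), show (⟨i, _⟩ : Fin (k + m)) = Fin.castAdd m ⟨i, hi⟩ from rfl,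
    show (⟨j, _⟩ : Fin (k + m)) = Fin.castAdd m ⟨j, hj⟩ from rfl]
  simp only [tfam, submatrix_apply, finSumFinEquiv_symm_apply_castAdd,
    finSumFinEquiv_symm_apply_natAdd, fromBlocks_apply₁₁, fromBlocks_apply₁₂, fromBlocks_apply₂₁,
    fromBlocks_apply₂₂, Matrix.zero_apply]

theorem en_tfam_lr {p : Fin m ⊕ Fin (k - 1) → F} {i r : ℕ} (hi : i < k) (hr : r < m) :
    en (tfam Tk S p) i (k + r) = zblk p ⟨i, hi⟩ ⟨r, hr⟩ := by
  rw [en_of (by omega) (by omega), show (⟨i, _⟩ : Fin (k + m)) = Fin.castAdd m ⟨i, hi⟩ from rfl,
    show (⟨k + r, _⟩ : Fin (k + m)) = Fin.natAdd k ⟨r, hr⟩ from rfl]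
  simp only [tfam, submatrix_apply, finSumFinEquiv_symm_apply_castAdd,
    finSumFinEquiv_symm_apply_natAdd, fromBlocks_apply₁₁, fromBlocks_apply₁₂, fromBlocks_apply₂₁,
    fromBlocks_apply₂₂, Matrix.zero_apply]

theorem en_tfam_rl {p : Fin m ⊕ Fin (k - 1) → F} {i j : ℕ} (hi : i < m) (hj : j < k) :
    en (tfam Tk S p) (k + i) j = 0 := by
  rw [en_of (by omega) (by omega), show (⟨k + i, _⟩ : Fin (k + m)) = Fin.natAdd k ⟨i, hi⟩ from rfl,
    show (⟨j, _⟩ : Fin (k + m)) = Fin.castAdd m ⟨j, hj⟩ from rfl]
  simp only [tfam, submatrix_apply, finSumFinEquiv_symm_apply_castAdd,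
    finSumFinEquiv_symm_apply_natAdd, fromBlocks_apply₁₁, fromBlocks_apply₁₂, fromBlocks_apply₂₁,
    fromBlocks_apply₂₂, Matrix.zero_apply]

theorem en_tfam_rr {p : Fin m ⊕ Fin (k - 1) → F} {i r : ℕ} (hi : i < m) (hr : r < m) :
    en (tfam Tk S p) (k + i) (k + r) = S ⟨i, hi⟩ ⟨r, hr⟩ := by
  rw [en_of (by omega) (by omega), show (⟨k + i, _⟩ : Fin (k + m)) = Fin.natAdd k ⟨i, hi⟩ from rfl,
    show (⟨k + r, _⟩ : Fin (k + m)) = Fin.natAdd k ⟨r, hr⟩ from rfl]
  simp only [tfam, submatrix_apply, finSumFinEquiv_symm_apply_castAdd,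
    finSumFinEquiv_symm_apply_natAdd, fromBlocks_apply₁₁, fromBlocks_apply₁₂, fromBlocks_apply₂₁,
    fromBlocks_apply₂₂, Matrix.zero_apply]

theorem up_tfam (hk : 0 < k) (hTk : Up Tk) (hS : S.IsUpperTriangular) (hd : ∀ r, S r r ≠ 0)
    (p : Fin m ⊕ Fin (k - 1) → F) : Up (tfam Tk S p) := by
  intro i j hj
  refine ⟨fun hij => ?_, ?_⟩
  · rw [← en_val (tfam Tk S p)]
    rcases Nat.lt_or_ge j.val k with hjk | hjk
    · rcases Nat.lt_or_ge i.val k with hik | hik
      · rw [en_tfam_ll hik hjk]; exact (hTk ⟨i, hik⟩ ⟨j, hjk⟩ hj).1 hij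
      · rw [show i.val = k + (i.val - k) by omega, en_tfam_rl (by omega) hjk]
    · rw [show i.val = k + (i.val - k) by omega, show j.val = k + (j.val - k) by omega,
        en_tfam_rr (by omega) (by omega)]
      exact hS (show (⟨j.val - k, _⟩ : Fin m) < ⟨i.val - k, _⟩ by simp only [Fin.mk_lt_mk]; omega)
  · rw [← en_val (tfam Tk S p)]
    rcases Nat.lt_or_ge j.val k with hjk | hjk
    · rw [en_tfam_ll hjk hjk]; exact (hTk ⟨j, hjk⟩ ⟨j, hjk⟩ hj).2
    · rw [show j.val = k + (j.val - k) by omega, en_tfam_rr (by omega) (by omega)]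
      exact hd _

/-- The family separates the row identities. -/
theorem tfam_injective (hk : 0 < k) (hm : 0 < m) (hTk : Up Tk) (hS : S.IsUpperTriangular)
    (hd : ∀ r, S r r ≠ 0) (f : F[X]) (p q : Fin m ⊕ Fin (k - 1) → F)
    (h : rpol (tfam Tk S p) f = rpol (tfam Tk S q) f) : p = q := by
  classical
  set P := tfam Tk S p with hP
  set R := tfam Tk S q with hR
  have uP : Up P := up_tfam hk hTk hS hd p
  have hlow : ∀ j < k, pis P j = pis R j := by
    intro j
    induction j using Nat.strong_induction_on with
    | _ j ih =>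
      intro hj
      rcases j with _ | j
      · rw [pis_zero, pis_zero]
      · rw [pis_succ, pis_succ, ih j (by omega) (by omega), hP, hR,
          en_tfam_ll hj hj, en_tfam_ll hj hj]
        congr 2
        refine Finset.sum_congr rfl fun i hi => ?_
        rw [Finset.mem_range] at hi
        rw [en_tfam_ll (by omega) hj, en_tfam_ll (by omega) hj, ← hP, ← hR, ih i hi (by omega)]
  set D : ℕ → F[X] := fun r => pis P (k + r) - pis R (k + r) with hD
  have hcol : ∑ i ∈ Finset.range (k + m), C (en P i 0) * pis P i =
      ∑ i ∈ Finset.range (k + m), C (en R i 0) * pis R i := by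
    refine Finset.sum_congr rfl fun i hi => ?_
    rw [Finset.mem_range] at hi
    rcases Nat.lt_or_ge i k with hik | hik
    · rw [hlow i hik, hP, hR, en_tfam_ll hik hk, en_tfam_ll hik hk]
    · rw [show i = k + (i - k) by omega, hP, hR, en_tfam_rl (by omega) hk,
        en_tfam_rl (by omega) hk, C_0, zero_mul, zero_mul]
  have hQ : D (m - 1) = ∑ r ∈ Finset.range (m - 1), C (phi f (k + r + 1)) * D r := by
    have hx := h
    rw [rpol, rpol, ← hcol] at hx
    have h1 := mul_left_cancel₀ X_ne_zero (sub_left_inj.1 hx)
    rw [show k + m - 1 = k + (m - 1) by omega, Finset.sum_range_add, Finset.sum_range_add,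
      show ∑ x ∈ Finset.range k, C (phi f (x + 1)) * pis R x =
          ∑ x ∈ Finset.range k, C (phi f (x + 1)) * pis P x from
        Finset.sum_congr rfl fun x hx => by rw [hlow x (Finset.mem_range.1 hx)]] at h1
    simp only [hD, mul_sub, Finset.sum_sub_distrib]
    linear_combination h1
  set de : ℕ → ℕ → F := fun i r => en P i (k + r) - en R i (k + r) with hde
  have hrec : ∀ r < m, C (en P (k + r) (k + r)) * D r = (if r = 0 then 0 else X * D (r - 1)) -
      ∑ i ∈ Finset.range k, C (de i r) * pis P i -
      ∑ i ∈ Finset.range r, C (en P (k + i) (k + r)) * D i := by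
    intro r hr
    obtain ⟨j, hj⟩ : ∃ j, k + r = j + 1 := ⟨k + r - 1, by omega⟩
    have key : ∀ M : Matrix (Fin (k + m)) (Fin (k + m)) F, Up M →
        C (en M (k + r) (k + r)) * pis M (k + r) = X * pis M j -
          ∑ i ∈ Finset.range (j + 1), C (en M i (k + r)) * pis M i := fun M hM => by
      rw [hj, pis_succ, ← mul_assoc, ← C_mul,
        mul_inv_cancel₀ (hM.en_ne (Nat.succ_pos j) (by omega)), C_1, one_mul]
    have e : en R (k + r) (k + r) = en P (k + r) (k + r) := by
      rw [hP, hR, en_tfam_rr hr hr, en_tfam_rr hr hr]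
    have kR := key R (up_tfam hk hTk hS hd q)
    rw [e] at kR
    simp only [hD, mul_sub, key P uP, kR]
    rw [← hj, Finset.sum_range_add, Finset.sum_range_add,
      show ∑ x ∈ Finset.range r, C (en R (k + x) (k + r)) * pis R (k + x) =
          ∑ x ∈ Finset.range r, C (en P (k + x) (k + r)) * pis R (k + x) from
        Finset.sum_congr rfl fun x hx => by
          have hx' := Finset.mem_range.1 hx
          rw [hP, hR, en_tfam_rr (by omega) hr, en_tfam_rr (by omega) hr],
      show ∑ x ∈ Finset.range k, C (en R x (k + r)) * pis R x =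
          ∑ x ∈ Finset.range k, C (en R x (k + r)) * pis P x from
        Finset.sum_congr rfl fun x hx => by rw [hlow x (Finset.mem_range.1 hx)],
      show ∑ i ∈ Finset.range k, C (de i r) * pis P i =
          ∑ i ∈ Finset.range k, C (en P i (k + r)) * pis P i -
            ∑ i ∈ Finset.range k, C (en R i (k + r)) * pis P i from by
        rw [← Finset.sum_sub_distrib]
        exact Finset.sum_congr rfl fun i _ => by simp only [hde, C_sub, sub_mul]]
    rcases Nat.eq_zero_or_pos r with rfl | hr0
    · rw [if_pos rfl, hlow j (by omega)]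
      simp only [Finset.sum_range_zero]
      ring
    · rw [if_neg (by omega), show k + (r - 1) = j by omega, Finset.sum_sub_distrib]
      ring
  -- the last row of the coupling block
  have htop : ∀ r (hr : r < m), de (k - 1) r = p (.inl ⟨r, hr⟩) - q (.inl ⟨r, hr⟩) := by
    intro r hr
    simp only [hde]
    rw [hP, hR, en_tfam_lr (by omega) hr, en_tfam_lr (by omega) hr, zblk, zblk,
      dif_neg (by simp only; omega), dif_neg (by simp only; omega)]
  have hWdeg : ∀ r, (∑ i ∈ Finset.range k, C (de i r) * pis P i).natDegree ≤ k - 1 := fun r =>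
    natDegree_sum_le_of_forall_le _ _ fun i hi => (natDegree_C_mul_le _ _).trans (by
      have := pis_natDegree_le P i; rw [Finset.mem_range] at hi; omega)
  have hWtop : ∀ r, (∑ i ∈ Finset.range k, C (de i r) * pis P i).coeff (k - 1) =
      de (k - 1) r * (pis P (k - 1)).coeff (k - 1) := fun r => by
    rw [finsetSum_coeff, Finset.sum_eq_single (k - 1)]
    · rw [coeff_C_mul]
    · intro i hi hne
      rw [Finset.mem_range] at hi
      rw [coeff_C_mul,
        coeff_eq_zero_of_natDegree_lt ((pis_natDegree_le P i).trans_lt (by omega)), mul_zero]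
    · simp; omega
  have hη : ∀ r, r < m → de (k - 1) r = 0 := by
    by_contra hne
    push Not at hne
    set r0 := Nat.find hne with hr0def
    obtain ⟨hr0m, hr0⟩ := Nat.find_spec hne
    rw [← hr0def] at hr0m hr0
    have hmin : ∀ r < r0, de (k - 1) r = 0 := fun r hr => by
      by_contra hc; exact Nat.find_min hne hr ⟨by omega, hc⟩
    have hDs : ∀ r < m, (r < r0 → D r = 0) ∧
        (r0 ≤ r → (D r).natDegree ≤ k - 1 + (r - r0) ∧ (D r).coeff (k - 1 + (r - r0)) ≠ 0) := by
      intro r
      induction r using Nat.strong_induction_on with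
      | _ r ih =>
        intro hr
        have hs : en P (k + r) (k + r) ≠ 0 := uP.en_ne (by omega) (by omega)
        refine ⟨fun hlt => ?_, fun hle => ?_⟩
        · -- below `r₀` only row `k - 1` could contribute
          have hz : ∀ i ∈ Finset.range k, C (de i r) * pis P i = 0 := fun i hi => by
            rw [Finset.mem_range] at hi
            have : de i r = 0 := by
              by_cases hik : i + 1 < k
              · simp only [hde]
                rw [hP, hR, en_tfam_lr hi hr, en_tfam_lr hi hr, zblk, zblk, dif_pos hik, dif_pos hik,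
                  if_neg (by simp only; omega), if_neg (by simp only; omega), sub_self]
              · rw [show i = k - 1 by omega]; exact hmin r hlt
            rw [this, C_0, zero_mul]
          have hD0 : C (en P (k + r) (k + r)) * D r = 0 := by
            rw [hrec r hr, Finset.sum_eq_zero hz, Finset.sum_eq_zero fun i hi => by
              rw [Finset.mem_range] at hi
              rw [(ih i hi (by omega)).1 (by omega), mul_zero]]
            rcases Nat.eq_zero_or_pos r with rfl | hpos
            · simp
            · rw [if_neg (by omega), (ih (r - 1) (by omega) (by omega)).1 (by omega)]; simp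
          exact (mul_eq_zero.1 hD0).resolve_left (C_ne_zero.2 hs)
        · set d := k - 1 + (r - r0) with hd'
          have hS' : ∀ i ∈ Finset.range r, (C (en P (k + i) (k + r)) * D i).natDegree ≤ d ∧
              (C (en P (k + i) (k + r)) * D i).coeff d = 0 := fun i hi => by
            rw [Finset.mem_range] at hi
            rcases Nat.lt_or_ge i r0 with h' | h'
            · rw [(ih i hi (by omega)).1 h', mul_zero]; simp
            · have h2 := ((ih i hi (by omega)).2 h').1
              refine ⟨(natDegree_C_mul_le _ _).trans (by omega), ?_⟩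
              rw [coeff_C_mul, coeff_eq_zero_of_natDegree_lt (h2.trans_lt (by omega)), mul_zero]
          have hA : (if r = 0 then 0 else X * D (r - 1)).natDegree ≤ d ∧
              ((if r = 0 then 0 else X * D (r - 1)).coeff d =
                if r = r0 then 0 else (D (r - 1)).coeff (k - 1 + (r - 1 - r0))) := by
            rcases Nat.eq_zero_or_pos r with rfl | hpos
            · rw [if_pos rfl]; simp [show r0 = 0 by omega]
            · rw [if_neg (by omega)]
              rcases eq_or_lt_of_le hle with heq | hlt
              · rw [(ih (r - 1) (by omega) (by omega)).1 (by omega), mul_zero]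
                simp [heq]
              · refine ⟨natDegree_mul_le.trans ?_, ?_⟩
                · rw [natDegree_X]
                  have := ((ih (r - 1) (by omega) (by omega)).2 (by omega)).1
                  omega
                · rw [if_neg (by omega), show d = k - 1 + (r - 1 - r0) + 1 by omega, coeff_X_mul]
          have hid := hrec r hr
          refine ⟨?_, ?_⟩
          · have : (C (en P (k + r) (k + r)) * D r).natDegree ≤ d := by
              rw [hid]
              refine (natDegree_sub_le _ _).trans (max_le ((natDegree_sub_le _ _).trans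
                (max_le hA.1 ((hWdeg r).trans (by omega)))) ?_)
              exact natDegree_sum_le_of_forall_le _ _ fun i hi => (hS' i hi).1
            rwa [natDegree_C_mul hs] at this
          · intro h0
            have hc := congrArg (fun P : F[X] => P.coeff d) hid
            simp only [coeff_C_mul, coeff_sub, h0, mul_zero, hA.2] at hc
            rw [finsetSum_coeff (Finset.range r), Finset.sum_eq_zero fun i hi => (hS' i hi).2,
              sub_zero] at hc
            by_cases heq : r = r0
            · rw [if_pos heq, show d = k - 1 by omega, hWtop, zero_sub, eq_comm, neg_eq_zero] at hc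
              refine mul_ne_zero (heq ▸ hr0) ?_ hc
              rw [pis_coeff_self]
              refine Finset.prod_ne_zero_iff.2 fun i hi => ?_
              rw [Finset.mem_range] at hi
              exact inv_ne_zero (uP.en_ne (Nat.succ_pos i) (by omega))
            · rw [if_neg heq, coeff_eq_zero_of_natDegree_lt (p := ∑ i ∈ Finset.range k,
                C (de i r) * pis P i) ((hWdeg r).trans_lt (by omega)), sub_zero] at hc
              exact ((ih (r - 1) (by omega) (by omega)).2 (by omega)).2 hc.symm
    have hlast := (hDs (m - 1) (by omega)).2 (by omega)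
    refine hlast.2 ?_
    rw [hQ, finsetSum_coeff]
    refine Finset.sum_eq_zero fun i hi => ?_
    rw [Finset.mem_range] at hi
    rw [coeff_C_mul]
    rcases Nat.lt_or_ge i r0 with h' | h'
    · rw [(hDs i (by omega)).1 h', coeff_zero, mul_zero]
    · rw [coeff_eq_zero_of_natDegree_lt (((hDs i (by omega)).2 h').1.trans_lt (by omega)), mul_zero]
  have hde0 : ∀ r i, r + 1 < m → i < k → de i r = 0 := fun r i hr hi => by
    by_cases hik : i + 1 < k
    · simp only [hde]
      rw [hP, hR, en_tfam_lr hi (by omega), en_tfam_lr hi (by omega), zblk, zblk, dif_pos hik,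
        dif_pos hik, if_neg (by simp only; omega), if_neg (by simp only; omega), sub_self]
    · rw [show i = k - 1 by omega]; exact hη r (by omega)
  have hD0 : ∀ r, r + 1 < m → D r = 0 := by
    intro r
    induction r using Nat.strong_induction_on with
    | _ r ih =>
      intro hr
      have h0 := hrec r (by omega)
      rw [Finset.sum_eq_zero fun i hi => by
          rw [hde0 r i hr (Finset.mem_range.1 hi), C_0, zero_mul],
        Finset.sum_eq_zero fun i hi => by
          rw [ih i (Finset.mem_range.1 hi) (by rw [Finset.mem_range] at hi; omega), mul_zero]] at h0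
      have h0' : C (en P (k + r) (k + r)) * D r = 0 := by
        rw [h0]
        rcases Nat.eq_zero_or_pos r with rfl | hpos
        · simp
        · rw [if_neg (by omega), ih (r - 1) (by omega) (by omega)]; simp
      exact (mul_eq_zero.1 h0').resolve_left (C_ne_zero.2 (uP.en_ne (by omega) (by omega)))
  have hW : ∑ i ∈ Finset.range k, C (de i (m - 1)) * pis P i = 0 := by
    have h0 := hrec (m - 1) (by omega)
    rw [hQ, Finset.sum_eq_zero (s := Finset.range (m - 1)) fun i hi => by
        rw [hD0 i (by rw [Finset.mem_range] at hi; omega), mul_zero], mul_zero,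
      Finset.sum_eq_zero (s := Finset.range (m - 1)) fun i hi => by
        rw [hD0 i (by rw [Finset.mem_range] at hi; omega), mul_zero], sub_zero] at h0
    rcases Nat.eq_zero_or_pos (m - 1) with he | hpos
    · rw [if_pos he, zero_sub] at h0; exact neg_eq_zero.1 h0.symm
    · rw [if_neg (by omega), hD0 (m - 1 - 1) (by omega), mul_zero, zero_sub] at h0
      exact neg_eq_zero.1 h0.symm
  have hw := pis_indep uP k (by omega) _ hW
  funext x
  rcases x with r | i
  · exact sub_eq_zero.1 ((htop r.val r.isLt).symm.trans (hη r.val r.isLt))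
  · have hi : i.val + 1 < k := by omega
    have h0 := hw i.val (by omega)
    simp only [hde] at h0
    rw [hP, hR, en_tfam_lr (by omega) (by omega), en_tfam_lr (by omega) (by omega), zblk, zblk,
      dif_pos hi, dif_pos hi, if_pos (by simp only; omega), if_pos (by simp only; omega)] at h0
    exact sub_eq_zero.1 h0

/-- The family takes every admissible characteristic polynomial. -/
theorem exists_tfam [Fintype F] (hk : 0 < k) (hm : 0 < m) (hTk : Up Tk)
    (hS : S.IsUpperTriangular) (hd : ∀ r, S r r ≠ 0) (hdet : Tk.det * S.det = 1) {f : F[X]}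
    (hf : f.Monic) (hfd : f.natDegree = k + m) :
    ∃ p, (tfam Tk S p * compOf (k + m) f).charpoly = f ∧
      Hess (tfam Tk S p * compOf (k + m) f) := by
  obtain ⟨p, hp⟩ := exists_charpoly hf hfd (by omega) (π := Fin m ⊕ Fin (k - 1))
    (by simp; omega) (tfam Tk S) (up_tfam hk hTk hS hd) (fun p => (det_tfam Tk S p).trans hdet)
    (fun p q j hj => by
      rw [← en_val (tfam Tk S p), ← en_val (tfam Tk S q)]
      rcases Nat.lt_or_ge j.val k with hjk | hjk
      · rw [en_tfam_ll hjk hjk, en_tfam_ll hjk hjk]
      · rw [show j.val = k + (j.val - k) by omega, en_tfam_rr (by omega) (by omega),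
          en_tfam_rr (by omega) (by omega)])
    (fun p q h => tfam_injective hk hm hTk hS hd f p q h)
  exact ⟨p, hp, (up_tfam hk hTk hS hd p).hess f⟩

end Cfsg.Agent.H58.OreOmega
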