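import Mathlib
import Cfsg.Agent.H60.Ore.Units

/-!
The Krylov polynomials of a product of a matrix, upper triangular beyond its first column, with a
companion matrix.
-/

set_option autoImplicit false
set_option linter.unusedSectionVars false

namespace Cfsg.Agent.H58.OreOmega

open Matrix Polynomial
open Cfsg.Agent.H60.Ore

variable {F : Type*} [Field F] {n : ℕ}

/-- Upper triangular with invertible diagonal, apart from the first column. -/
def Up (T : Matrix (Fin n) (Fin n) F) : Prop :=
  ∀ i j : Fin n, 0 < j.val → (j.val < i.val → T i j = 0) ∧ T j j ≠ 0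

/-- Entries with natural indices. -/
def en (T : Matrix (Fin n) (Fin n) F) (i j : ℕ) : F :=
  if h : i < n ∧ j < n then T ⟨i, h.1⟩ ⟨j, h.2⟩ else 0

theorem en_val (T : Matrix (Fin n) (Fin n) F) (i j : Fin n) : en T i.val j.val = T i j :=
  dif_pos ⟨i.isLt, j.isLt⟩

theorem en_of {T : Matrix (Fin n) (Fin n) F} {i j : ℕ} (hi : i < n) (hj : j < n) :
    en T i j = T ⟨i, hi⟩ ⟨j, hj⟩ := dif_pos ⟨hi, hj⟩

/-- The polynomials `π` with `π₀ = 1` and `(π T)ⱼ₊₁ = x πⱼ`. -/
noncomputable def pis (T : Matrix (Fin n) (Fin n) F) : ℕ → F[X]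
  | 0 => 1
  | j + 1 => C (en T (j + 1) (j + 1))⁻¹ *
      (X * pis T j - ∑ i : Fin (j + 1), C (en T i.val (j + 1)) * pis T i.val)
decreasing_by all_goals omega

theorem pis_zero (T : Matrix (Fin n) (Fin n) F) : pis T 0 = 1 := by rw [pis]

theorem pis_succ (T : Matrix (Fin n) (Fin n) F) (j : ℕ) : pis T (j + 1) =
    C (en T (j + 1) (j + 1))⁻¹ *
      (X * pis T j - ∑ i ∈ Finset.range (j + 1), C (en T i (j + 1)) * pis T i) := by
  rw [pis, Fin.sum_univ_eq_sum_range (fun i => C (en T i (j + 1)) * pis T i)]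

variable {T : Matrix (Fin n) (Fin n) F}

theorem Up.en_ne (hT : Up T) {j : ℕ} (h0 : 0 < j) (hj : j < n) : en T j j ≠ 0 := by
  rw [en_of hj hj]; exact (hT ⟨j, hj⟩ ⟨j, hj⟩ h0).2

theorem Up.en_zero (hT : Up T) {i j : ℕ} (h0 : 0 < j) (hij : j < i) : en T i j = 0 := by
  unfold en
  split_ifs with h
  · exact (hT ⟨i, h.1⟩ ⟨j, h.2⟩ h0).1 hij
  · rfl

/-- The defining property: a row identity. -/
theorem Up.pis_col (hT : Up T) {j : ℕ} (hj : j + 1 < n) :
    ∑ i ∈ Finset.range n, C (en T i (j + 1)) * pis T i = X * pis T j := by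
  rw [← Finset.sum_range_add_sum_Ico _ (show j + 2 ≤ n by omega), Finset.sum_range_succ,
    Finset.sum_eq_zero (s := Finset.Ico (j + 2) n) (fun i hi => by
      rw [Finset.mem_Ico] at hi
      rw [hT.en_zero (Nat.succ_pos j) (by omega), C_0, zero_mul]),
    add_zero, pis_succ T j, ← mul_assoc, ← C_mul, mul_inv_cancel₀ (hT.en_ne (Nat.succ_pos j) hj),
    C_1, one_mul, add_sub_cancel]

theorem pis_natDegree_le (T : Matrix (Fin n) (Fin n) F) (j : ℕ) : (pis T j).natDegree ≤ j := by
  induction j using Nat.strong_induction_on with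
  | _ j ih =>
    rcases j with _ | j
    · rw [pis_zero, natDegree_one]
    · rw [pis_succ]
      refine (natDegree_C_mul_le _ _).trans ((natDegree_sub_le _ _).trans (max_le ?_ ?_))
      · refine natDegree_mul_le.trans ?_
        rw [natDegree_X]; have := ih j (by omega); omega
      · refine natDegree_sum_le_of_forall_le _ _ fun i hi => (natDegree_C_mul_le _ _).trans ?_
        rw [Finset.mem_range] at hi
        have := ih i (by omega); omega

theorem pis_coeff_self (T : Matrix (Fin n) (Fin n) F) (j : ℕ) :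
    (pis T j).coeff j = ∏ i ∈ Finset.range j, (en T (i + 1) (i + 1))⁻¹ := by
  induction j with
  | zero => simp [pis_zero]
  | succ j ih =>
    rw [pis_succ, coeff_C_mul, coeff_sub, coeff_X_mul, ih, finsetSum_coeff,
      Finset.sum_eq_zero fun i hi => ?_, sub_zero, Finset.prod_range_succ, mul_comm]
    rw [Finset.mem_range] at hi
    rw [coeff_C_mul, coeff_eq_zero_of_natDegree_lt ((pis_natDegree_le T i).trans_lt hi), mul_zero]

/-- The `φ`-coefficients of `f`. -/
abbrev phi (f : F[X]) (i : ℕ) : F := -f.coeff i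

/-- `T * X` column by column. -/
theorem mul_compOf_apply (T : Matrix (Fin n) (Fin n) F) (f : F[X]) (i j : Fin n) :
    (T * compOf n f) i j =
      if j.val + 1 < n then en T i.val (j.val + 1)
      else ∑ k ∈ Finset.range n, en T i.val k * phi f k := by
  rw [Matrix.mul_apply]
  by_cases hj : j.val + 1 < n
  · rw [if_pos hj, Finset.sum_eq_single ⟨j.val + 1, hj⟩, compOf, H60.Ore.comp, if_neg (by omega), if_pos rfl,
      mul_one, en_of i.isLt hj]
    · intro k _ hk
      have : k.val ≠ j.val + 1 := fun h => hk (Fin.ext h)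
      rw [compOf, H60.Ore.comp, if_neg (by omega), if_neg this, mul_zero]
    · simp
  · rw [if_neg hj, ← Fin.sum_univ_eq_sum_range (fun k => en T i.val k * phi f k)]
    refine Finset.sum_congr rfl fun k _ => ?_
    rw [en_val, compOf, H60.Ore.comp, if_pos (by omega)]

theorem Up.hess (hT : Up T) (f : F[X]) : Hess (T * compOf n f) := by
  refine ⟨fun i j h => ?_, fun i j h => ?_⟩
  · rw [mul_compOf_apply, if_pos (by omega), hT.en_zero (Nat.succ_pos _) h]
  · rw [mul_compOf_apply, if_pos (by omega), ← h]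
    exact hT.en_ne (by omega) i.isLt

/-- The last row identity. -/
noncomputable def rpol (T : Matrix (Fin n) (Fin n) F) (f : F[X]) : F[X] :=
  X * (pis T (n - 1) - ∑ k ∈ Finset.range (n - 1), C (phi f (k + 1)) * pis T k) -
    C (phi f 0) * ∑ i ∈ Finset.range n, C (en T i 0) * pis T i

theorem Up.rpol_eq (hT : Up T) (f : F[X]) (hn : 0 < n) :
    rpol T f = X * pis T (n - 1) -
      ∑ i ∈ Finset.range n, C (∑ k ∈ Finset.range n, en T i k * phi f k) * pis T i := by
  have e : ∑ i ∈ Finset.range n, C (∑ k ∈ Finset.range n, en T i k * phi f k) * pis T i =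
      ∑ k ∈ Finset.range n, C (phi f k) * ∑ i ∈ Finset.range n, C (en T i k) * pis T i := by
    simp only [map_sum, C_mul, Finset.sum_mul, Finset.mul_sum]
    rw [Finset.sum_comm]
    exact Finset.sum_congr rfl fun k _ => Finset.sum_congr rfl fun i _ => by ring
  obtain ⟨N, rfl⟩ : ∃ N, n = N + 1 := ⟨n - 1, by omega⟩
  have e2 : ∀ k ∈ Finset.range N, C (phi f (k + 1)) * ∑ i ∈ Finset.range (N + 1),
      C (en T i (k + 1)) * pis T i = X * (C (phi f (k + 1)) * pis T k) := fun k hk => by
    rw [Finset.mem_range] at hk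
    rw [hT.pis_col (by omega)]; ring
  rw [e, Finset.sum_range_succ' (fun k => C (phi f k) * ∑ i ∈ Finset.range (N + 1),
      C (en T i k) * pis T i), Finset.sum_congr rfl e2, rpol, Nat.add_sub_cancel, mul_sub,
    Finset.mul_sum]
  abel

/-- `πⱼ(T X) e₀ = eⱼ`. -/
theorem Up.pis_apply (hT : Up T) (f : F[X]) (hn : 0 < n) : ∀ (j : ℕ) (hj : j < n),
    aeval (T * compOf n f) (pis T j) *ᵥ Pi.single ⟨0, hn⟩ 1 = Pi.single ⟨j, hj⟩ 1 := by
  intro j
  induction j using Nat.strong_induction_on with
  | _ j ih =>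
    intro hj
    rcases j with _ | j
    · rw [pis_zero, map_one, one_mulVec]
    · have hs : ∀ i ∈ Finset.range (j + 1),
          aeval (T * compOf n f) (C (en T i (j + 1)) * pis T i) *ᵥ Pi.single ⟨0, hn⟩ 1 =
            fun l : Fin n => if l.val = i then en T l.val (j + 1) else 0 := by
        intro i hi
        rw [Finset.mem_range] at hi
        rw [map_mul, aeval_C, ← Algebra.smul_def, Matrix.smul_mulVec, ih i hi (by omega)]
        funext l
        by_cases hl : l.val = i
        · subst hl; simp
        · rw [Pi.smul_apply, Pi.single_eq_of_ne (fun h => hl (by rw [h])), smul_zero, if_neg hl]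
      rw [pis_succ, map_mul, aeval_C, ← Algebra.smul_def, Matrix.smul_mulVec, map_sub, sub_mulVec,
        map_mul, aeval_X, ← mulVec_mulVec, ih j (by omega) (by omega), map_sum, sum_mulVec,
        Finset.sum_congr rfl hs, mulVec_single_one]
      funext l
      rw [Pi.smul_apply, Pi.sub_apply, Matrix.col_apply, mul_compOf_apply,
        if_pos (show j + 1 < n from hj), Finset.sum_apply, Finset.sum_ite_eq (Finset.range (j + 1)) l.val,
        smul_eq_mul]
      by_cases hl : l.val = j + 1
      · rw [show l = (⟨j + 1, hj⟩ : Fin n) from Fin.ext hl, Pi.single_eq_same, if_neg (by simp),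
          sub_zero]
        exact inv_mul_cancel₀ (hT.en_ne (Nat.succ_pos j) hj)
      · rw [Pi.single_eq_of_ne (fun h => hl (by rw [h]))]
        by_cases hl' : l.val < j + 1
        · rw [if_pos (Finset.mem_range.2 hl'), sub_self, mul_zero]
        · rw [if_neg (by simpa using hl'), sub_zero, hT.en_zero (i := l.val) (Nat.succ_pos j) (by omega), mul_zero]

theorem rpol_natDegree_le (T : Matrix (Fin n) (Fin n) F) (f : F[X]) (hn : 0 < n) :
    (rpol T f).natDegree ≤ n := by
  refine (natDegree_sub_le _ _).trans (max_le ?_ ?_)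
  · refine natDegree_mul_le.trans ?_
    rw [natDegree_X]
    have : (pis T (n - 1) - ∑ k ∈ Finset.range (n - 1), C (phi f (k + 1)) * pis T k).natDegree
        ≤ n - 1 := by
      refine (natDegree_sub_le _ _).trans (max_le (pis_natDegree_le _ _) ?_)
      refine natDegree_sum_le_of_forall_le _ _ fun i hi => (natDegree_C_mul_le _ _).trans ?_
      rw [Finset.mem_range] at hi
      have := pis_natDegree_le T i; omega
    omega
  · refine (natDegree_C_mul_le _ _).trans
      (natDegree_sum_le_of_forall_le _ _ fun i hi => (natDegree_C_mul_le _ _).trans ?_)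
    rw [Finset.mem_range] at hi
    have := pis_natDegree_le T i; omega

theorem rpol_coeff (T : Matrix (Fin n) (Fin n) F) (f : F[X]) (hn : 0 < n) :
    (rpol T f).coeff n = ∏ i ∈ Finset.range (n - 1), (en T (i + 1) (i + 1))⁻¹ := by
  obtain ⟨N, rfl⟩ : ∃ N, n = N + 1 := ⟨n - 1, by omega⟩
  have hz : ∀ (g : ℕ → F) (m : ℕ), m ≤ N + 1 → ∀ d, m ≤ d →
      (∑ i ∈ Finset.range m, C (g i) * pis T i).coeff d = 0 := fun g m _ d hd => by
    rw [finsetSum_coeff]
    refine Finset.sum_eq_zero fun i hi => ?_
    rw [Finset.mem_range] at hi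
    rw [coeff_C_mul, coeff_eq_zero_of_natDegree_lt ((pis_natDegree_le T i).trans_lt (by omega)),
      mul_zero]
  rw [rpol, coeff_sub, coeff_X_mul, coeff_sub, Nat.add_sub_cancel, pis_coeff_self,
    hz (fun k => phi f (k + 1)) N (by omega) N le_rfl, coeff_C_mul,
    hz (fun i => en T i 0) (N + 1) le_rfl (N + 1) le_rfl, mul_zero, sub_zero, sub_zero]

theorem Up.rpol_charpoly (hT : Up T) (f : F[X]) (hn : 0 < n) :
    rpol T f = C ((rpol T f).coeff n) * (T * compOf n f).charpoly := by
  set Z := T * compOf n f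
  have hm := charpoly_monic Z
  have hdeg : Z.charpoly.natDegree = n := by rw [charpoly_natDegree_eq_dim, Fintype.card_fin]
  have hz : aeval Z (rpol T f) *ᵥ Pi.single ⟨0, hn⟩ 1 = 0 := by
    rw [hT.rpol_eq f hn, map_sub, sub_mulVec, map_mul, aeval_X, ← mulVec_mulVec,
      hT.pis_apply f hn (n - 1) (by omega), mulVec_single_one, map_sum, sum_mulVec, sub_eq_zero]
    funext l
    rw [Matrix.col_apply, show Z = T * compOf n f from rfl, mul_compOf_apply,
      if_neg (by simp only; omega), Finset.sum_apply,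
      ← Fin.sum_univ_eq_sum_range (fun i => (aeval (T * compOf n f) (C (∑ k ∈ Finset.range n,
        en T i k * phi f k) * pis T i) *ᵥ Pi.single ⟨0, hn⟩ 1) l), Finset.sum_eq_single l]
    · rw [map_mul, aeval_C, ← Algebra.smul_def, Matrix.smul_mulVec, hT.pis_apply f hn _ l.isLt]
      simp
    · intro i _ hi
      rw [map_mul, aeval_C, ← Algebra.smul_def, Matrix.smul_mulVec, hT.pis_apply f hn _ i.isLt,
        Pi.smul_apply, Pi.single_eq_of_ne (fun h : l = i => hi h.symm), smul_zero]
    · simp
  refine sub_eq_zero.1 ((hT.hess f).eq_zero hn _ ?_ ?_)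
  · rw [degree_lt_iff_coeff_zero]
    intro d hd
    rw [coeff_sub, coeff_C_mul]
    rcases eq_or_lt_of_le hd with rfl | hd'
    · rw [show Z.charpoly.coeff n = 1 by have := hm.coeff_natDegree; rwa [hdeg] at this, mul_one,
        sub_self]
    · rw [coeff_eq_zero_of_natDegree_lt ((rpol_natDegree_le T f hn).trans_lt hd'),
        coeff_eq_zero_of_natDegree_lt (hdeg.trans_lt hd'), mul_zero, sub_zero]
  · rw [map_sub, sub_mulVec, hz, map_mul, aeval_self_charpoly, Matrix.mul_zero, zero_mulVec,
      sub_zero]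

/-- Equal middle coefficients and determinants give the same row identity. -/
theorem rpol_eq_of (hT : Up T) {T' : Matrix (Fin n) (Fin n) F} (hT' : Up T') (f : F[X])
    (hn : 0 < n) (hdiag : ∀ j : Fin n, 0 < j.val → T j j = T' j j)
    (hdet : T.det = T'.det) (hco : ∀ i, 1 ≤ i → i < n →
      (T * compOf n f).charpoly.coeff i = (T' * compOf n f).charpoly.coeff i) :
    rpol T f = rpol T' f := by
  rw [hT.rpol_charpoly f hn, hT'.rpol_charpoly f hn, rpol_coeff _ f hn, rpol_coeff _ f hn]
  congr 1
  · congr 1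
    refine Finset.prod_congr rfl fun i hi => ?_
    rw [Finset.mem_range] at hi
    rw [en_of (show i + 1 < n by omega) (by omega), en_of (show i + 1 < n by omega) (by omega),
      hdiag _ (Nat.succ_pos i)]
  · ext i
    rcases Nat.lt_or_ge i n with h | h
    · rcases Nat.eq_zero_or_pos i with rfl | h0
      · have e := congrArg (· * (compOf n f).det) hdet
        simp only [← det_mul] at e
        rw [det_eq_sign_charpoly_coeff, det_eq_sign_charpoly_coeff] at e
        exact mul_left_cancel₀ (pow_ne_zero _ (neg_ne_zero.2 one_ne_zero)) e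
      · exact hco i h0 h
    · rcases eq_or_lt_of_le h with rfl | h'
      · have e : ∀ M : Matrix (Fin n) (Fin n) F, M.charpoly.coeff n = 1 := fun M => by
          have := (charpoly_monic M).coeff_natDegree
          rwa [charpoly_natDegree_eq_dim, Fintype.card_fin] at this
        rw [e, e]
      · rw [coeff_eq_zero_of_natDegree_lt (by rwa [charpoly_natDegree_eq_dim, Fintype.card_fin]),
          coeff_eq_zero_of_natDegree_lt (by rwa [charpoly_natDegree_eq_dim, Fintype.card_fin])]

/-- An injective family hits `f`. -/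
theorem exists_charpoly [Fintype F] {f : F[X]} (hf : f.Monic) (hfd : f.natDegree = n) (hn : 0 < n)
    {π : Type} [Fintype π] (hπ : Fintype.card π = n - 1) (T : (π → F) → Matrix (Fin n) (Fin n) F)
    (hUp : ∀ p, Up (T p)) (hdet : ∀ p, (T p).det = 1)
    (hdiag : ∀ p q (j : Fin n), 0 < j.val → T p j j = T q j j)
    (hinj : ∀ p q, rpol (T p) f = rpol (T q) f → p = q) :
    ∃ p, (T p * compOf n f).charpoly = f := by
  classical
  let Φ : (π → F) → (Fin (n - 1) → F) := fun p i => (T p * compOf n f).charpoly.coeff (i.val + 1)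
  have hi : Function.Injective Φ := fun p q h => hinj p q (rpol_eq_of (hUp p) (hUp q) f hn
    (fun j hj => hdiag p q j hj) (by rw [hdet, hdet]) fun i h1 h2 => by
      have := congrFun h ⟨i - 1, by omega⟩
      simpa [Φ, Nat.sub_add_cancel h1] using this)
  have hb : Function.Bijective Φ :=
    (Fintype.bijective_iff_injective_and_card Φ).2 ⟨hi, by simp [hπ]⟩
  obtain ⟨p, hp⟩ := hb.2 fun i => f.coeff (i.val + 1)
  refine ⟨p, ?_⟩
  have hm := charpoly_monic (T p * compOf n f)
  have hd : (T p * compOf n f).charpoly.natDegree = n := by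
    rw [charpoly_natDegree_eq_dim, Fintype.card_fin]
  ext i
  rcases lt_trichotomy i n with h | rfl | h
  · rcases Nat.eq_zero_or_pos i with rfl | h0
    · have e := det_eq_sign_charpoly_coeff (T p * compOf n f)
      rw [det_mul, hdet, one_mul, det_compOf hf hfd, Fintype.card_fin] at e
      exact (mul_left_cancel₀ (pow_ne_zero _ (neg_ne_zero.2 one_ne_zero)) e).symm
    · have := congrFun hp ⟨i - 1, by omega⟩
      simpa [Φ, Nat.sub_add_cancel h0] using this
  · have h1 := hm.coeff_natDegree
    have h2 := hf.coeff_natDegree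
    rw [hd] at h1; rw [hfd] at h2
    rw [h1, h2]
  · rw [coeff_eq_zero_of_natDegree_lt (hd.trans_lt h), coeff_eq_zero_of_natDegree_lt (hfd.trans_lt h)]

/-- A triangular combination of `π`'s vanishes only trivially. -/
theorem pis_indep {n : ℕ} {T : Matrix (Fin n) (Fin n) F} (hT : Up T) :
    ∀ (N : ℕ), N ≤ n → ∀ g : ℕ → F, ∑ i ∈ Finset.range N, C (g i) * pis T i = 0 →
      ∀ i < N, g i = 0 := by
  intro N
  induction N with
  | zero => intro _ _ _ i hi; omega
  | succ N ih =>
    intro hN g h i hi
    have hN' : g N = 0 := by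
      have := congrArg (fun P : F[X] => P.coeff N) h
      simp only [finsetSum_coeff, coeff_C_mul, coeff_zero] at this
      rw [Finset.sum_range_succ, Finset.sum_eq_zero fun j hj => by
        rw [Finset.mem_range] at hj
        rw [coeff_eq_zero_of_natDegree_lt ((pis_natDegree_le T j).trans_lt hj), mul_zero],
        zero_add, pis_coeff_self] at this
      refine (mul_eq_zero.1 this).resolve_right (Finset.prod_ne_zero_iff.2 fun j hj => ?_)
      rw [Finset.mem_range] at hj
      exact inv_ne_zero (hT.en_ne (Nat.succ_pos j) (by omega))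
    rw [Finset.sum_range_succ, hN', C_0, zero_mul, add_zero] at h
    rcases eq_or_lt_of_le (Nat.lt_succ_iff.1 hi) with rfl | hlt
    · exact hN'
    · exact ih (by omega) g h i hlt

end Cfsg.Agent.H58.OreOmega
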